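import Cfsg.Agent.Base

/-!
# Group algebras of finite groups: coefficients, centre, class sums, evaluation, truncation

Generic in the commutative coefficient ring `R` (used for `ℂ`, the local ring `S` and the residue
field `F`).
-/

set_option linter.unusedSectionVars false

namespace CL.Blocks

open scoped MonoidAlgebra

section Generic

variable {R : Type*} [CommRing R] {G : Type*} [Group G]

/-- The element `∑ f g • g` of the group algebra of a finite group. -/
noncomputable def mk [Finite G] (f : G → R) : R[G] :=
  MonoidAlgebra.ofCoeff (Finsupp.equivFunOnFinite.symm f)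

@[simp] theorem coeff_mk [Finite G] (f : G → R) (g : G) : (mk f).coeff g = f g := rfl

theorem alg_ext {a b : R[G]} (h : ∀ g, a.coeff g = b.coeff g) : a = b :=
  MonoidAlgebra.ext (Finsupp.ext h)

@[simp] theorem mk_coeff [Finite G] (a : R[G]) : mk (fun g => a.coeff g) = a :=
  alg_ext fun _ => rfl

theorem mk_add [Finite G] (f f' : G → R) : mk (f + f') = mk f + mk f' :=
  alg_ext fun _ => rfl

theorem mk_sub [Finite G] (f f' : G → R) : mk (f - f') = mk f - mk f' :=
  alg_ext fun _ => rfl

theorem mk_smul [Finite G] (c : R) (f : G → R) : mk (c • f) = c • mk f :=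
  alg_ext fun _ => rfl

theorem coeff_sum_apply {ι : Type*} (s : Finset ι) (f : ι → R[G]) (g : G) :
    (∑ i ∈ s, f i).coeff g = ∑ i ∈ s, (f i).coeff g := by
  rw [MonoidAlgebra.coeff_sum, Finsupp.finsetSum_apply]

theorem coeff_add_apply (a b : R[G]) (g : G) : (a + b).coeff g = a.coeff g + b.coeff g := rfl

theorem coeff_sub_apply (a b : R[G]) (g : G) : (a - b).coeff g = a.coeff g - b.coeff g := rfl

theorem coeff_neg_apply (a : R[G]) (g : G) : (-a).coeff g = -a.coeff g := rfl

theorem coeff_smul_apply' (c : R) (a : R[G]) (g : G) : (c • a).coeff g = c * a.coeff g := rfl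

theorem coeff_single' [DecidableEq G] (g h : G) (r : R) :
    (MonoidAlgebra.single g r : R[G]).coeff h = if g = h then r else 0 := by
  rw [MonoidAlgebra.coeff_single, Finsupp.single_apply]

theorem coeff_one' [DecidableEq G] (h : G) :
    (1 : R[G]).coeff h = if h = 1 then 1 else 0 := by
  rw [MonoidAlgebra.one_def, coeff_single']
  simp only [eq_comm]

theorem eq_sum_single [Fintype G] (a : R[G]) :
    a = ∑ g, MonoidAlgebra.single g (a.coeff g) := by
  classical
  refine alg_ext fun h => ?_
  rw [coeff_sum_apply]
  simp [Finsupp.single_apply]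

theorem eq_sum_smul_single [Fintype G] (a : R[G]) :
    a = ∑ g, a.coeff g • MonoidAlgebra.single g (1 : R) := by
  conv_lhs => rw [eq_sum_single a]
  simp

theorem coeff_mul_left [Fintype G] (a b : R[G]) (g : G) :
    (a * b).coeff g = ∑ h, a.coeff h * b.coeff (h⁻¹ * g) := by
  rw [MonoidAlgebra.coeff_mul_apply_left, Finsupp.sum_fintype]
  simp

theorem coeff_mul_right [Fintype G] (a b : R[G]) (g : G) :
    (a * b).coeff g = ∑ h, a.coeff (g * h⁻¹) * b.coeff h := by
  rw [MonoidAlgebra.coeff_mul_apply_right, Finsupp.sum_fintype]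
  simp

theorem coeff_single_mul' (x : G) (r : R) (a : R[G]) (g : G) :
    (MonoidAlgebra.single x r * a).coeff g = r * a.coeff (x⁻¹ * g) :=
  MonoidAlgebra.coeff_single_mul_apply a r x g

theorem coeff_mul_single' (x : G) (r : R) (a : R[G]) (g : G) :
    (a * MonoidAlgebra.single x r).coeff g = a.coeff (g * x⁻¹) * r :=
  MonoidAlgebra.coeff_mul_single_apply a r x g

/-- `a` commutes with the group element `x` iff its coefficients are invariant under conjugation
by `x`. -/
theorem commute_single_iff (x : G) (a : R[G]) :
    Commute (MonoidAlgebra.single x (1 : R)) a ↔ ∀ g, a.coeff (x * g * x⁻¹) = a.coeff g := by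
  constructor
  · intro h g
    have := congrArg (fun b : R[G] => b.coeff (x * g)) h.eq
    simp only [coeff_single_mul', coeff_mul_single', one_mul, mul_one, inv_mul_cancel_left] at this
    exact this.symm
  · intro h
    refine alg_ext fun g => ?_
    rw [coeff_single_mul', coeff_mul_single', one_mul, mul_one, ← h (x⁻¹ * g)]
    congr 1
    group

/-- `a` is central: its coefficient function is a class function. -/
def IsCen (a : R[G]) : Prop := ∀ g h : G, a.coeff (h * g * h⁻¹) = a.coeff g

theorem IsCen.commute {a : R[G]} (ha : IsCen a) (b : R[G]) : Commute a b := by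
  induction b using MonoidAlgebra.induction_linear with
  | zero => exact Commute.zero_right a
  | add b c hb hc => exact hb.add_right hc
  | single g r =>
    have h1 : Commute (MonoidAlgebra.single g (1 : R)) a :=
      (commute_single_iff g a).2 fun x => ha x g
    have : (MonoidAlgebra.single g r : R[G]) = r • MonoidAlgebra.single g (1 : R) := by simp
    rw [this]
    exact h1.symm.smul_right r

theorem IsCen.mul_comm {a : R[G]} (ha : IsCen a) (b : R[G]) : a * b = b * a := (ha.commute b).eq

theorem isCen_iff_commute {a : R[G]} : IsCen a ↔ ∀ b, Commute a b :=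
  ⟨fun h => h.commute, fun h g x => (commute_single_iff x a).1 (h _).symm g⟩

theorem isCen_iff_mem_center {a : R[G]} : IsCen a ↔ a ∈ Subalgebra.center R R[G] := by
  rw [isCen_iff_commute, Subalgebra.mem_center_iff]
  exact ⟨fun h b => (h b).eq.symm, fun h b => (h b).symm⟩

theorem IsCen.coeff_eq_of_isConj {a : R[G]} (ha : IsCen a) {g h : G} (hgh : IsConj g h) :
    a.coeff g = a.coeff h := by
  obtain ⟨c, rfl⟩ := isConj_iff.1 hgh
  exact (ha g c).symm

theorem isCen_mk [Finite G] {f : G → R} (hf : ∀ g h : G, f (h * g * h⁻¹) = f g) : IsCen (mk f) :=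
  hf

theorem isCen_zero : IsCen (0 : R[G]) := fun _ _ => rfl

theorem isCen_one : IsCen (1 : R[G]) := isCen_iff_commute.2 fun b => Commute.one_left b

theorem IsCen.add {a b : R[G]} (ha : IsCen a) (hb : IsCen b) : IsCen (a + b) :=
  isCen_iff_commute.2 fun c => (ha.commute c).add_left (hb.commute c)

theorem IsCen.neg {a : R[G]} (ha : IsCen a) : IsCen (-a) :=
  isCen_iff_commute.2 fun c => (ha.commute c).neg_left

theorem IsCen.sub {a b : R[G]} (ha : IsCen a) (hb : IsCen b) : IsCen (a - b) :=
  isCen_iff_commute.2 fun c => (ha.commute c).sub_left (hb.commute c)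

theorem IsCen.mul {a b : R[G]} (ha : IsCen a) (hb : IsCen b) : IsCen (a * b) :=
  isCen_iff_commute.2 fun c => (ha.commute c).mul_left (hb.commute c)

theorem IsCen.pow {a : R[G]} (ha : IsCen a) (n : ℕ) : IsCen (a ^ n) :=
  isCen_iff_commute.2 fun c => (ha.commute c).pow_left n

theorem IsCen.smul {a : R[G]} (ha : IsCen a) (c : R) : IsCen (c • a) :=
  isCen_iff_commute.2 fun b => (ha.commute b).smul_left c

theorem IsCen.sum {ι : Type*} {s : Finset ι} {f : ι → R[G]} (h : ∀ i ∈ s, IsCen (f i)) :
    IsCen (∑ i ∈ s, f i) :=
  isCen_iff_mem_center.2 (Subalgebra.sum_mem _ fun i hi => isCen_iff_mem_center.1 (h i hi))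

theorem isCen_algebraMap (c : R) : IsCen (algebraMap R R[G] c) :=
  isCen_iff_mem_center.2 (Subalgebra.algebraMap_mem _ c)

theorem isCen_single {z : G} (hz : z ∈ Subgroup.center G) (r : R) :
    IsCen (MonoidAlgebra.single z r : R[G]) :=
  isCen_iff_commute.2 fun b =>
    MonoidAlgebra.single_commute (fun m => (Subgroup.mem_center_iff.1 hz m).symm)
      (fun r' => Commute.all r r') b

open scoped Classical in
variable (R) in
/-- The sum of the elements of a subset `X` of a finite group. -/
noncomputable def setSum [Finite G] (X : Set G) : R[G] := mk fun x => if x ∈ X then 1 else 0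

theorem coeff_setSum [Finite G] (X : Set G) (x : G) [Decidable (x ∈ X)] :
    (setSum R X).coeff x = if x ∈ X then 1 else 0 := by
  unfold setSum
  rw [coeff_mk]
  congr

theorem coeff_setSum_of_mem [Finite G] {X : Set G} {x : G} (hx : x ∈ X) :
    (setSum R X).coeff x = 1 := by
  classical
  rw [coeff_setSum, if_pos hx]

theorem coeff_setSum_of_notMem [Finite G] {X : Set G} {x : G} (hx : x ∉ X) :
    (setSum R X).coeff x = 0 := by
  classical
  rw [coeff_setSum, if_neg hx]

theorem isCen_setSum [Finite G] {X : Set G} (hX : ∀ g h : G, h * g * h⁻¹ ∈ X ↔ g ∈ X) :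
    IsCen (setSum R X) := by
  classical
  intro g h
  rw [coeff_setSum, coeff_setSum]
  simp only [hX]

variable (R) in
/-- The class sum of `g`. -/
noncomputable def classSum [Finite G] (g : G) : R[G] := setSum R {x | IsConj g x}

theorem coeff_classSum [Finite G] (g x : G) [Decidable (IsConj g x)] :
    (classSum R g).coeff x = if IsConj g x then 1 else 0 := by
  unfold classSum
  exact @coeff_setSum R _ G _ _ {x | IsConj g x} x ‹_›

theorem isCen_classSum [Finite G] (g : G) : IsCen (classSum R g) := by
  refine isCen_setSum fun x h => ?_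
  simp only [Set.mem_ofPred_eq]
  have : IsConj x (h * x * h⁻¹) := isConj_iff.2 ⟨h, rfl⟩
  exact ⟨fun h1 => h1.trans this.symm, fun h1 => h1.trans this⟩

theorem classSum_eq_of_isConj [Finite G] {g h : G} (hgh : IsConj g h) :
    classSum R g = classSum R h := by
  unfold classSum
  congr 1
  ext x
  exact ⟨fun h1 => hgh.symm.trans h1, fun h1 => hgh.trans h1⟩

theorem classSum_eq_finsum [Finite G] (g : G) :
    classSum R g = ∑ᶠ x ∈ ConjClasses.carrier (ConjClasses.mk g), MonoidAlgebra.single x (1 : R) := by
  classical
  have := Fintype.ofFinite G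
  rw [finsum_mem_eq_finite_toFinset_sum _ (Set.toFinite _)]
  refine alg_ext fun x => ?_
  rw [coeff_sum_apply, coeff_classSum]
  simp only [coeff_single', Finset.sum_ite_eq', Set.Finite.mem_toFinset,
    ConjClasses.mem_carrier_iff_mk_eq, ConjClasses.mk_eq_mk_iff_isConj]
  exact if_congr ⟨IsConj.symm, IsConj.symm⟩ rfl rfl

theorem isConj_out_mk (g : G) : IsConj (Quotient.out (ConjClasses.mk g)) g :=
  ConjClasses.mk_eq_mk_iff_isConj.1 (Quotient.out_eq (ConjClasses.mk g))

theorem mk_out_eq (c : ConjClasses G) : ConjClasses.mk (Quotient.out c) = c :=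
  Quotient.out_eq c

/-- A central element is a combination of class sums. -/
theorem IsCen.eq_sum_classSum [Finite G] [Fintype (ConjClasses G)] {a : R[G]} (ha : IsCen a) :
    a = ∑ c : ConjClasses G, a.coeff (Quotient.out c) • classSum R (Quotient.out c) := by
  classical
  refine alg_ext fun x => ?_
  rw [coeff_sum_apply, Finset.sum_eq_single (ConjClasses.mk x)]
  · rw [coeff_smul_apply', coeff_classSum, if_pos (isConj_out_mk x), mul_one]
    exact (ha.coeff_eq_of_isConj (isConj_out_mk x)).symm
  · intro c _ hc
    rw [coeff_smul_apply', coeff_classSum, if_neg, mul_zero]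
    intro h
    exact hc ((mk_out_eq c).symm.trans (ConjClasses.mk_eq_mk_iff_isConj.2 h))
  · simp

/-- The linear extension of a function `χ` on `G` to the group algebra. -/
noncomputable def ev (χ : G → R) : R[G] →ₗ[R] R :=
  (Finsupp.linearCombination R χ).comp (MonoidAlgebra.coeffLinearEquiv R).toLinearMap

theorem ev_apply [Fintype G] (χ : G → R) (a : R[G]) : ev χ a = ∑ g, a.coeff g * χ g := by
  change Finsupp.linearCombination R χ a.coeff = _
  rw [Finsupp.linearCombination_apply, Finsupp.sum_fintype]
  · rfl
  · simp

theorem ev_apply_finsum [Finite G] (χ : G → R) (a : R[G]) :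
    ev χ a = ∑ᶠ g, a.coeff g * χ g := by
  have := Fintype.ofFinite G
  rw [ev_apply, finsum_eq_sum_of_fintype]

@[simp] theorem ev_single (χ : G → R) (g : G) (r : R) :
    ev χ (MonoidAlgebra.single g r) = r * χ g := by
  change Finsupp.linearCombination R χ (Finsupp.single g r) = _
  simp

@[simp] theorem ev_one (χ : G → R) : ev χ (1 : R[G]) = χ 1 := by
  rw [MonoidAlgebra.one_def, ev_single, one_mul]

theorem ev_mk [Fintype G] (χ f : G → R) : ev χ (mk f) = ∑ g, f g * χ g := ev_apply χ _

theorem ev_setSum [Finite G] (χ : G → R) (X : Set G) : ev χ (setSum R X) = ∑ᶠ x ∈ X, χ x := by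
  classical
  have := Fintype.ofFinite G
  rw [ev_apply, finsum_mem_eq_finite_toFinset_sum _ (Set.toFinite _)]
  simp only [coeff_setSum, ite_mul, one_mul, zero_mul]
  rw [← Finset.sum_filter]
  congr 1
  ext x
  simp

theorem ev_add_fun (χ ψ : G → R) (a : R[G]) : ev (χ + ψ) a = ev χ a + ev ψ a := by
  induction a using MonoidAlgebra.induction_linear with
  | zero => simp
  | add b c hb hc => rw [map_add, map_add, map_add, hb, hc]; ring
  | single g r => simp [mul_add]

theorem ev_smul_fun (c : R) (χ : G → R) (a : R[G]) : ev (c • χ) a = c * ev χ a := by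
  induction a using MonoidAlgebra.induction_linear with
  | zero => simp
  | add b d hb hd => rw [map_add, map_add, hb, hd]; ring
  | single g r => simp; ring

theorem ev_zero_fun (a : R[G]) : ev (0 : G → R) a = 0 := by
  have := ev_smul_fun (0 : R) (0 : G → R) a
  simpa using this

theorem ev_sum_fun {ι : Type*} (s : Finset ι) (χ : ι → G → R) (a : R[G]) :
    ev (∑ i ∈ s, χ i) a = ∑ i ∈ s, ev (χ i) a := by
  classical
  induction s using Finset.induction_on with
  | empty => simp [ev_zero_fun]
  | insert i s hi ih => rw [Finset.sum_insert hi, Finset.sum_insert hi, ev_add_fun, ih]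

theorem ev_mul_single [Fintype G] (χ : G → R) (a : R[G]) (h : G) :
    ev χ (a * MonoidAlgebra.single h 1) = ∑ g, a.coeff g * χ (g * h) := by
  conv_lhs => rw [eq_sum_single a, Finset.sum_mul, map_sum]
  simp [MonoidAlgebra.single_mul_single]

theorem ev_single_mul [Fintype G] (χ : G → R) (a : R[G]) (h : G) :
    ev χ (MonoidAlgebra.single h 1 * a) = ∑ g, a.coeff g * χ (h * g) := by
  conv_lhs => rw [eq_sum_single a, Finset.mul_sum, map_sum]
  simp [MonoidAlgebra.single_mul_single]

/-- The linear extension of a class function is a trace function. -/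
theorem ev_mul_comm {χ : G → R} (hχ : ∀ g h : G, χ (h * g * h⁻¹) = χ g) (a b : R[G]) :
    ev χ (a * b) = ev χ (b * a) := by
  induction a using MonoidAlgebra.induction_linear with
  | zero => simp
  | add c d hc hd => rw [add_mul, mul_add, map_add, map_add, hc, hd]
  | single g r =>
    induction b using MonoidAlgebra.induction_linear with
    | zero => simp
    | add c d hc hd => rw [add_mul, mul_add, map_add, map_add, hc, hd]
    | single h s =>
      rw [MonoidAlgebra.single_mul_single, MonoidAlgebra.single_mul_single, ev_single, ev_single,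
        ← hχ (g * h) h, _root_.mul_comm r s]
      congr 2
      group

/-- The number of conjugates of `g` is the index of its centralizer. -/
theorem ncard_conj_eq_index (g : G) :
    Nat.card {x : G | IsConj g x} = (Subgroup.centralizer ({g} : Set G)).index := by
  have h1 : {x : G | IsConj g x} = MulAction.orbit (ConjAct G) g := by
    ext x
    rw [Set.mem_ofPred_eq, ConjAct.mem_orbit_conjAct]
    exact ⟨IsConj.symm, IsConj.symm⟩
  rw [h1, Nat.card_congr (MulAction.orbitEquivQuotientStabilizer (ConjAct G) g),
    Subgroup.centralizer_eq_comap_stabilizer]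
  exact (Subgroup.index_comap_of_surjective (MulAction.stabilizer (ConjAct G) g)
    (f := (ConjAct.toConjAct : G ≃* ConjAct G).toMonoidHom)
    (ConjAct.toConjAct : G ≃* ConjAct G).surjective).symm

theorem ev_classSum [Finite G] {χ : G → R} (hχ : ∀ g h : G, χ (h * g * h⁻¹) = χ g) (g : G) :
    ev χ (classSum R g) = ((Subgroup.centralizer ({g} : Set G)).index : R) * χ g := by
  classical
  unfold classSum
  rw [ev_setSum, finsum_mem_congr rfl (g := fun _ => χ g), ← ncard_conj_eq_index,
    finsum_mem_eq_finite_toFinset_sum _ (Set.toFinite _), Finset.sum_const, nsmul_eq_mul,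
    Nat.card_coe_set_eq, Set.ncard_eq_toFinset_card]
  intro x hx
  obtain ⟨c, rfl⟩ := isConj_iff.1 hx
  exact hχ g c

/-- The part of `a` supported on the subgroup `H`, as an element of the group algebra of `H`. -/
noncomputable def trunc (H : Subgroup G) : R[G] →ₗ[R] R[H] where
  toFun a := MonoidAlgebra.comapDomain (Subtype.val : H → G) Subtype.val_injective a
  map_add' _ _ := alg_ext fun _ => rfl
  map_smul' _ _ := alg_ext fun _ => rfl

@[simp] theorem coeff_trunc (H : Subgroup G) (a : R[G]) (h : H) :
    (trunc H a).coeff h = a.coeff (h : G) := rfl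

theorem IsCen.trunc {a : R[G]} (ha : IsCen a) (H : Subgroup G) : IsCen (trunc H a) :=
  fun g h => ha (g : G) (h : G)

theorem trunc_one (H : Subgroup G) : trunc H (1 : R[G]) = 1 := by
  classical
  refine alg_ext fun h => ?_
  rw [coeff_trunc, coeff_one', coeff_one']
  simp

/-- The inclusion of the group algebra of a subgroup. -/
noncomputable def incl (H : Subgroup G) : R[H] →ₐ[R] R[G] :=
  MonoidAlgebra.mapDomainAlgHom R R H.subtype

@[simp] theorem incl_single (H : Subgroup G) (h : H) (r : R) :
    incl H (MonoidAlgebra.single h r) = MonoidAlgebra.single (h : G) r := by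
  simp [incl]

@[simp] theorem coeff_incl_coe (H : Subgroup G) (a : R[H]) (h : H) :
    (incl H a).coeff (h : G) = a.coeff h :=
  Finsupp.mapDomain_apply Subtype.val_injective a.coeff h

theorem coeff_incl_of_mem (H : Subgroup G) (a : R[H]) {g : G} (hg : g ∈ H) :
    (incl H a).coeff g = a.coeff ⟨g, hg⟩ := coeff_incl_coe H a ⟨g, hg⟩

theorem coeff_incl_of_notMem (H : Subgroup G) (a : R[H]) {g : G} (hg : g ∉ H) :
    (incl H a).coeff g = 0 := by
  refine Finsupp.mapDomain_of_notMem_range a.coeff g ?_
  rintro ⟨h, rfl⟩
  exact hg h.2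

@[simp] theorem trunc_incl (H : Subgroup G) (a : R[H]) : trunc H (incl H a) = a :=
  alg_ext fun h => coeff_incl_coe H a h

theorem incl_injective (H : Subgroup G) : Function.Injective (incl (R := R) H) :=
  Function.LeftInverse.injective (trunc_incl H)

theorem ev_incl (H : Subgroup G) (χ : G → R) (a : R[H]) :
    ev χ (incl H a) = ev (fun h : H => χ h) a := by
  induction a using MonoidAlgebra.induction_linear with
  | zero => simp
  | add b c hb hc => rw [map_add, map_add, map_add, hb, hc]
  | single g r => simp

theorem trunc_single_of_mem (H : Subgroup G) {g : G} (hg : g ∈ H) (r : R) :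
    trunc H (MonoidAlgebra.single g r) = MonoidAlgebra.single ⟨g, hg⟩ r := by
  rw [← trunc_incl H (MonoidAlgebra.single ⟨g, hg⟩ r), incl_single]

theorem trunc_single_of_notMem (H : Subgroup G) {g : G} (hg : g ∉ H) (r : R) :
    trunc H (MonoidAlgebra.single g r) = 0 := by
  classical
  refine alg_ext fun h => ?_
  rw [coeff_trunc, coeff_single', if_neg]
  · rfl
  · rintro rfl
    exact hg h.2

/-- Truncation is a left module map over the group algebra of `H`. -/
theorem trunc_incl_mul (H : Subgroup G) (a : R[H]) (b : R[G]) :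
    trunc H (incl H a * b) = a * trunc H b := by
  induction a using MonoidAlgebra.induction_linear with
  | zero => simp
  | add c d hc hd => rw [map_add, add_mul, add_mul, map_add, hc, hd]
  | single g r =>
    refine alg_ext fun h => ?_
    rw [incl_single, coeff_trunc, coeff_single_mul', coeff_single_mul', coeff_trunc]
    rfl

/-- Truncation is a right module map over the group algebra of `H`. -/
theorem trunc_mul_incl (H : Subgroup G) (a : R[H]) (b : R[G]) :
    trunc H (b * incl H a) = trunc H b * a := by
  induction a using MonoidAlgebra.induction_linear with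
  | zero => simp
  | add c d hc hd => rw [map_add, mul_add, mul_add, map_add, hc, hd]
  | single g r =>
    refine alg_ext fun h => ?_
    rw [incl_single, coeff_trunc, coeff_mul_single', coeff_mul_single', coeff_trunc]
    rfl

theorem trunc_setSum [Finite G] (H : Subgroup G) (X : Set G) :
    trunc H (setSum R X) = setSum R {h : H | (h : G) ∈ X} := by
  classical
  refine alg_ext fun h => ?_
  rw [coeff_trunc, coeff_setSum, coeff_setSum]
  rfl

theorem trunc_mk [Finite G] (H : Subgroup G) (f : G → R) :
    trunc H (mk f) = mk fun h : H => f h := alg_ext fun _ => rfl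

end Generic

end CL.Blocks
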