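import Cfsg.Agent.Base
import Cfsg.Agent.Blocks.GroupAlg

/-!
# The centre of a group algebra

`CL.Blocks.ZA R G` is the centre of the group algebra `R[G]`.  Its elements are handled through
their coefficient functions `z.co : G → R` (class functions), class sums `ZA.cls R g`, and the
natural maps: restriction of coefficients `ZA.res`, truncation `ZA.trunc`, push-forward
`ZA.push` along a surjective homomorphism and change of coefficients `ZA.mapR`.
-/

set_option autoImplicit false
set_option linter.unusedSectionVars false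

namespace CL.Blocks

open MonoidAlgebra

/-- The centre `Z(RG)` of the group algebra. -/
abbrev ZA (R G : Type*) [CommRing R] [Group G] : Type _ :=
  Subalgebra.center R (MonoidAlgebra R G)

namespace ZA

variable {R G H Q : Type*} [CommRing R] [Group G] [Group H] [Group Q]

/-- The coefficient of the group element `g` in the central element `z`. -/
def co (z : ZA R G) (g : G) : R := (z : MonoidAlgebra R G).coeff g

theorem isCen (z : ZA R G) : IsCen (z : MonoidAlgebra R G) := isCen_iff_mem_center.2 z.2

/-- A central element of the group algebra as an element of `ZA R G`. -/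
def ofIsCen {a : MonoidAlgebra R G} (ha : IsCen a) : ZA R G := ⟨a, isCen_iff_mem_center.1 ha⟩

theorem coe_ofIsCen {a : MonoidAlgebra R G} (ha : IsCen a) :
    (ofIsCen ha : MonoidAlgebra R G) = a := rfl

theorem co_ofIsCen {a : MonoidAlgebra R G} (ha : IsCen a) (g : G) :
    (ofIsCen ha).co g = a.coeff g := rfl

theorem co_def (z : ZA R G) (g : G) : z.co g = (z : MonoidAlgebra R G).coeff g := rfl

theorem co_conj (z : ZA R G) (g h : G) : z.co (h * g * h⁻¹) = z.co g :=
  isCen_iff_mem_center.2 z.2 g h

theorem co_eq_of_isConj (z : ZA R G) {g h : G} (hgh : IsConj g h) : z.co g = z.co h := by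
  obtain ⟨x, rfl⟩ := isConj_iff.1 hgh
  exact (z.co_conj g x).symm

theorem co_mul_comm (z : ZA R G) (g h : G) : z.co (g * h) = z.co (h * g) := by
  rw [← z.co_conj (g * h) h]; congr 1; group

theorem ext' {z w : ZA R G} (h : ∀ g, z.co g = w.co g) : z = w := Subtype.ext (alg_ext h)

theorem ext'_iff {z w : ZA R G} : z = w ↔ ∀ g, z.co g = w.co g :=
  ⟨fun h _ => h ▸ rfl, ext'⟩

theorem co_zero (g : G) : (0 : ZA R G).co g = 0 := rfl

theorem co_add (z w : ZA R G) (g : G) : (z + w).co g = z.co g + w.co g := rfl

theorem co_neg (z : ZA R G) (g : G) : (-z).co g = -z.co g := rfl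

theorem co_sub (z w : ZA R G) (g : G) : (z - w).co g = z.co g - w.co g := rfl

theorem co_smul (r : R) (z : ZA R G) (g : G) : (r • z).co g = r * z.co g := rfl

theorem exists_co_ne_zero {z : ZA R G} (h : z ≠ 0) : ∃ g, z.co g ≠ 0 := by
  by_contra hc
  push Not at hc
  exact h (ext' hc)

theorem ne_zero_of_co_ne_zero {z : ZA R G} {g : G} (h : z.co g ≠ 0) : z ≠ 0 := by
  rintro rfl
  exact h rfl

/-- The coefficient of `g` as a linear map. -/
def coL (g : G) : ZA R G →ₗ[R] R where
  toFun z := z.co g
  map_add' _ _ := rfl
  map_smul' _ _ := rfl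

theorem coL_apply (g : G) (z : ZA R G) : coL g z = z.co g := rfl

theorem co_sum {ι : Type*} (s : Finset ι) (f : ι → ZA R G) (g : G) :
    (∑ i ∈ s, f i).co g = ∑ i ∈ s, (f i).co g := map_sum (coL g) f s

theorem co_one [DecidableEq G] (g : G) : (1 : ZA R G).co g = if g = 1 then 1 else 0 := by
  change (1 : MonoidAlgebra R G).coeff g = _
  rw [one_def, coeff_single, Finsupp.single_apply]
  simp only [eq_comm]

theorem co_one_one : (1 : ZA R G).co 1 = 1 := by
  classical
  simp [co_one]

theorem co_one_of_ne {g : G} (h : g ≠ 1) : (1 : ZA R G).co g = 0 := by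
  classical
  simp [co_one, h]

theorem co_mul [Fintype G] (z w : ZA R G) (g : G) :
    (z * w).co g = ∑ a, z.co a * w.co (a⁻¹ * g) := coeff_mul_left _ _ g

theorem co_mul' [Fintype G] (z w : ZA R G) (g : G) :
    (z * w).co g = ∑ a, z.co (g * a⁻¹) * w.co a := coeff_mul_right _ _ g

section Finite

variable [Finite G] [Finite H] [Finite Q]

/-- The central element with a given class function as coefficient function. -/
noncomputable def mk' (f : G → R) (hf : ∀ g h : G, f (h * g * h⁻¹) = f g) : ZA R G :=
  ⟨mk f, isCen_iff_mem_center.1 (isCen_mk hf)⟩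

theorem co_mk' (f : G → R) (hf) (g : G) : (mk' f hf).co g = f g := rfl

theorem isConj_conj_iff (a g h : G) : IsConj a (h * g * h⁻¹) ↔ IsConj a g :=
  ⟨fun h1 => h1.trans (isConj_iff.2 ⟨h, rfl⟩).symm, fun h1 => h1.trans (isConj_iff.2 ⟨h, rfl⟩)⟩

variable (R) in
/-- The class sum of `g`. -/
noncomputable def cls (g : G) : ZA R G :=
  ⟨classSum R g, isCen_iff_mem_center.1 (isCen_classSum g)⟩

theorem coe_cls (g : G) : (cls R g : MonoidAlgebra R G) = classSum R g := rfl

theorem co_cls (g x : G) [Decidable (IsConj g x)] :
    (cls R g).co x = if IsConj g x then 1 else 0 := coeff_classSum g x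

theorem co_cls_of_isConj {g x : G} (h : IsConj g x) : (cls R g).co x = 1 := by
  classical
  rw [co_cls, if_pos h]

theorem co_cls_self (g : G) : (cls R g).co g = 1 := co_cls_of_isConj (IsConj.refl g)

theorem co_cls_of_not_isConj {g x : G} (h : ¬ IsConj g x) : (cls R g).co x = 0 := by
  classical
  rw [co_cls, if_neg h]

theorem isConj_of_co_cls_ne_zero {g x : G} (h : (cls R g).co x ≠ 0) : IsConj g x := by
  by_contra hc
  exact h (co_cls_of_not_isConj hc)

theorem cls_eq_of_isConj {g h : G} (hgh : IsConj g h) : cls R g = cls R h := by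
  apply ext'
  intro x
  by_cases hx : IsConj g x
  · rw [co_cls_of_isConj hx, co_cls_of_isConj (hgh.symm.trans hx)]
  · rw [co_cls_of_not_isConj hx, co_cls_of_not_isConj fun h' => hx (hgh.trans h')]

theorem cls_one : cls R (1 : G) = 1 := by
  classical
  apply ext'
  intro x
  rw [co_cls, co_one]
  simp [eq_comm]

theorem isConj_out_iff (K : ConjClasses G) (g : G) :
    IsConj (Quotient.out K : G) g ↔ K = ConjClasses.mk g := by
  rw [← ConjClasses.mk_eq_mk_iff_isConj]
  have : ConjClasses.mk (Quotient.out K : G) = K := Quotient.out_eq _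
  rw [this]

/-- Every central element is a combination of class sums. -/
theorem eq_sum_cls [Fintype (ConjClasses G)] (z : ZA R G) :
    z = ∑ K : ConjClasses G, z.co (Quotient.out K) • cls R (Quotient.out K : G) := by
  classical
  apply ext'
  intro g
  rw [co_sum, Finset.sum_eq_single (ConjClasses.mk g)]
  · rw [co_smul, co_cls_of_isConj (isConj_out_mk g), mul_one, z.co_eq_of_isConj (isConj_out_mk g)]
  · intro K _ hK
    rw [co_smul, co_cls_of_not_isConj (by rwa [isConj_out_iff]), mul_zero]
  · simp

theorem linearMap_apply_eq_sum [Fintype (ConjClasses G)] {V : Type*} [AddCommGroup V] [Module R V]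
    (f : ZA R G →ₗ[R] V) (z : ZA R G) :
    f z = ∑ K : ConjClasses G, z.co (Quotient.out K) • f (cls R (Quotient.out K : G)) := by
  conv_lhs => rw [z.eq_sum_cls]
  simp only [map_sum, map_smul]

/-- A linear map vanishing on the class sums in the support of `z` kills `z`. -/
theorem linearMap_apply_eq_zero {V : Type*} [AddCommGroup V] [Module R V]
    (f : ZA R G →ₗ[R] V) (z : ZA R G) (h : ∀ g, z.co g ≠ 0 → f (cls R g) = 0) : f z = 0 := by
  have := Fintype.ofFinite (ConjClasses G)
  rw [linearMap_apply_eq_sum]
  refine Finset.sum_eq_zero fun K _ => ?_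
  by_cases hK : z.co (Quotient.out K) = 0
  · rw [hK, zero_smul]
  · rw [h _ hK, smul_zero]

theorem exists_co_ne_zero_of_linearMap {V : Type*} [AddCommGroup V] [Module R V]
    (f : ZA R G →ₗ[R] V) {z : ZA R G} (h : f z ≠ 0) : ∃ g, z.co g ≠ 0 ∧ f (cls R g) ≠ 0 := by
  by_contra hc
  push Not at hc
  exact h (linearMap_apply_eq_zero f z hc)

/-- Two linear maps that agree on the class sums in the support of `z` agree at `z`. -/
theorem linearMap_apply_congr {V : Type*} [AddCommGroup V] [Module R V]
    (f f' : ZA R G →ₗ[R] V) (z : ZA R G) (h : ∀ g, z.co g ≠ 0 → f (cls R g) = f' (cls R g)) :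
    f z = f' z := by
  have := linearMap_apply_eq_zero (f - f') z fun g hg => by
    rw [LinearMap.sub_apply, h g hg, sub_self]
  rwa [LinearMap.sub_apply, sub_eq_zero] at this

theorem linearMap_ext {V : Type*} [AddCommGroup V] [Module R V]
    {f f' : ZA R G →ₗ[R] V} (h : ∀ g, f (cls R g) = f' (cls R g)) : f = f' :=
  LinearMap.ext fun z => linearMap_apply_congr f f' z fun g _ => h g

theorem algHom_ext {A : Type*} [Ring A] [Algebra R A]
    {f f' : ZA R G →ₐ[R] A} (h : ∀ g, f (cls R g) = f' (cls R g)) : f = f' :=
  AlgHom.toLinearMap_injective (linearMap_ext h)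

/-- Induction over the span of the class sums in the support. -/
theorem mem_of_cls_mem (W : Submodule R (ZA R G)) (z : ZA R G)
    (h : ∀ g, z.co g ≠ 0 → cls R g ∈ W) : z ∈ W := by
  have := linearMap_apply_eq_zero W.mkQ z fun g hg => (Submodule.Quotient.mk_eq_zero W).2 (h g hg)
  exact (Submodule.Quotient.mk_eq_zero W).1 this

/-- A central element all of whose class sums are nilpotent is nilpotent. -/
theorem isNilpotent_of_cls (z : ZA R G) (h : ∀ g, z.co g ≠ 0 → IsNilpotent (cls R g)) :
    IsNilpotent z :=
  mem_of_cls_mem ((nilradical (ZA R G)).restrictScalars R) z h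

/-- The linear functional on `Z(RG)` with prescribed values `c g` on the class sums. -/
noncomputable def functional (c : G → R) : ZA R G →ₗ[R] R :=
  haveI := Fintype.ofFinite (ConjClasses G)
  ∑ K : ConjClasses G, c (Quotient.out K) • coL (Quotient.out K : G)

theorem functional_cls (c : G → R) (hc : ∀ g h : G, c (h * g * h⁻¹) = c g) (g : G) :
    functional c (cls R g) = c g := by
  classical
  unfold functional
  rw [LinearMap.sum_apply, Finset.sum_eq_single (ConjClasses.mk g)]
  · rw [LinearMap.smul_apply, coL_apply, co_cls_of_isConj (isConj_out_mk g).symm, smul_eq_mul,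
      mul_one]
    obtain ⟨x, hx⟩ := isConj_iff.1 (isConj_out_mk g)
    rw [← hc _ x, hx]
  · intro K _ hK
    rw [LinearMap.smul_apply, coL_apply, co_cls_of_not_isConj, smul_zero]
    intro h
    exact hK ((isConj_out_iff K g).1 h.symm)
  · simp

instance instModuleFinite : Module.Finite R (ZA R G) := by
  classical
  have := Fintype.ofFinite (ConjClasses G)
  refine ⟨⟨Finset.univ.image fun K : ConjClasses G => cls R (Quotient.out K : G), ?_⟩⟩
  rw [eq_top_iff]
  intro z _
  rw [z.eq_sum_cls]
  exact Submodule.sum_mem _ fun K _ => Submodule.smul_mem _ _ (Submodule.subset_span (by simp))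

/-! ### Restriction of coefficients -/

variable (R) in
/-- Restriction of the coefficient function along a homomorphism `φ : H →* G` (for an inclusion of
a subgroup: keep the part of `z` lying in `H`). -/
noncomputable def res (φ : H →* G) : ZA R G →ₗ[R] ZA R H where
  toFun z := mk' (fun h => z.co (φ h)) fun g h => by
    simp only [map_mul, map_inv]; exact z.co_conj _ _
  map_add' _ _ := ext' fun _ => rfl
  map_smul' _ _ := ext' fun _ => rfl

omit [Finite G] in
theorem co_res (φ : H →* G) (z : ZA R G) (h : H) : (res R φ z).co h = z.co (φ h) := rfl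

omit [Finite G] in
theorem coe_res_subtype (K : Subgroup G) [Finite K] (z : ZA R G) :
    (res R K.subtype z : MonoidAlgebra R K) = CL.Blocks.trunc K (z : MonoidAlgebra R G) :=
  alg_ext fun _ => rfl

omit [Finite G] in
theorem res_res (φ : H →* G) (ψ : Q →* H) (z : ZA R G) :
    res R ψ (res R φ z) = res R (φ.comp ψ) z := ext' fun _ => rfl

theorem res_id (z : ZA R G) : res R (MonoidHom.id G) z = z := ext' fun _ => rfl

omit [Finite G] in
theorem res_one {φ : H →* G} (hφ : Function.Injective φ) : res R φ 1 = 1 := by
  classical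
  apply ext'
  intro h
  rw [co_res, co_one, co_one]
  simp only [map_eq_one_iff φ hφ]

/-- Restriction along an isomorphism is multiplicative. -/
theorem res_mul_of_bijective {φ : H →* G} (hφ : Function.Bijective φ) (z w : ZA R G) :
    res R φ (z * w) = res R φ z * res R φ w := by
  have := Fintype.ofFinite G
  have := Fintype.ofFinite H
  apply ext'
  intro h
  rw [co_res, co_mul, co_mul]
  refine (Fintype.sum_bijective φ hφ _ _ fun a => ?_).symm
  rw [co_res, co_res, map_mul, map_inv]

variable (R) in
/-- Transport of central elements along an isomorphism `e : H ≃* G`, as an algebra map. -/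
noncomputable def resEquiv (e : H ≃* G) : ZA R G →ₐ[R] ZA R H :=
  AlgHom.ofLinearMap (res R e.toMonoidHom) (res_one e.injective)
    (res_mul_of_bijective e.bijective)

theorem resEquiv_apply (e : H ≃* G) (z : ZA R G) : resEquiv R e z = res R e.toMonoidHom z := rfl

theorem co_resEquiv (e : H ≃* G) (z : ZA R G) (h : H) : (resEquiv R e z).co h = z.co (e h) := rfl

theorem resEquiv_cls (e : H ≃* G) (h : H) : resEquiv R e (cls R (e h)) = cls R h := by
  apply ext'
  intro x
  rw [co_resEquiv]
  by_cases hx : IsConj h x
  · rw [co_cls_of_isConj hx]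
    exact co_cls_of_isConj (e.toMonoidHom.map_isConj hx)
  · rw [co_cls_of_not_isConj hx, co_cls_of_not_isConj]
    intro h'
    apply hx
    simpa using e.symm.toMonoidHom.map_isConj h'

/-! ### Truncation -/

open Classical in
variable (R) in
/-- The part of a central element supported on a conjugation-invariant subset. -/
noncomputable def trunc (s : Set G) (hs : ∀ g h : G, h * g * h⁻¹ ∈ s ↔ g ∈ s) :
    ZA R G →ₗ[R] ZA R G where
  toFun z := mk' (fun g => if g ∈ s then z.co g else 0) fun g h => by
    simp only [hs, co_conj]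
  map_add' z w := ext' fun g => by
    simp only [co_mk', co_add]
    split_ifs <;> simp
  map_smul' r z := ext' fun g => by
    simp only [co_mk', co_smul, RingHom.id_apply]
    split_ifs <;> simp

open Classical in
theorem co_trunc (s : Set G) (hs) (z : ZA R G) (g : G) :
    (trunc R s hs z).co g = if g ∈ s then z.co g else 0 := rfl

theorem co_trunc_of_mem {s : Set G} (hs) (z : ZA R G) {g : G} (hg : g ∈ s) :
    (trunc R s hs z).co g = z.co g := by rw [co_trunc, if_pos hg]

theorem co_trunc_of_not_mem {s : Set G} (hs) (z : ZA R G) {g : G} (hg : g ∉ s) :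
    (trunc R s hs z).co g = 0 := by rw [co_trunc, if_neg hg]

/-! ### Change of coefficients -/

omit [Finite G] in
theorem mapRingHom_mem_center {R' : Type*} [CommRing R'] (f : R →+* R') (z : ZA R G) :
    MonoidAlgebra.mapRingHom G f (z : MonoidAlgebra R G) ∈
      Subalgebra.center R' (MonoidAlgebra R' G) :=
  isCen_iff_mem_center.1 fun g h => by
    rw [coeff_mapRingHom, coeff_mapRingHom]
    exact congrArg f (z.co_conj g h)

variable (G) in
/-- Apply a ring homomorphism to the coefficients. -/
noncomputable def mapR {R' : Type*} [CommRing R'] (f : R →+* R') : ZA R G →+* ZA R' G :=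
  ((MonoidAlgebra.mapRingHom G f).comp
    (Subalgebra.center R (MonoidAlgebra R G)).val.toRingHom).codRestrict _
    (mapRingHom_mem_center f)

omit [Finite G] in
theorem co_mapR {R' : Type*} [CommRing R'] (f : R →+* R') (z : ZA R G) (g : G) :
    (mapR G f z).co g = f (z.co g) := coeff_mapRingHom f _ g

theorem mapR_cls {R' : Type*} [CommRing R'] (f : R →+* R') (g : G) :
    mapR G f (cls R g) = cls R' g := by
  classical
  apply ext'
  intro x
  rw [co_mapR, co_cls, co_cls]
  split_ifs <;> simp

omit [Finite G] in
theorem mapR_smul {R' : Type*} [CommRing R'] (f : R →+* R') (r : R) (z : ZA R G) :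
    mapR G f (r • z) = f r • mapR G f z :=
  ext' fun g => by rw [co_mapR, co_smul, co_smul, co_mapR, map_mul]

omit [Finite G] in
theorem mapR_algebraMap {R' : Type*} [CommRing R'] (f : R →+* R') (r : R) :
    mapR G f (algebraMap R (ZA R G) r) = algebraMap R' (ZA R' G) (f r) := by
  rw [Algebra.algebraMap_eq_smul_one, Algebra.algebraMap_eq_smul_one, mapR_smul, map_one]

theorem mapR_surjective {R' : Type*} [CommRing R'] {f : R →+* R'} (hf : Function.Surjective f) :
    Function.Surjective (mapR G f) := by
  intro z
  refine ⟨mk' (fun g => Function.surjInv hf (z.co g)) fun g h => by rw [co_conj], ext' fun g => ?_⟩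
  rw [co_mapR, co_mk', Function.surjInv_eq hf]

omit [Finite G] in
theorem mapR_injective {R' : Type*} [CommRing R'] {f : R →+* R'} (hf : Function.Injective f) :
    Function.Injective (mapR G f) := fun z w h =>
  ext' fun g => hf (by rw [← co_mapR, ← co_mapR, h])

omit [Finite G] in
theorem mapR_res {R' : Type*} [CommRing R'] (f : R →+* R') (φ : H →* G) (z : ZA R G) :
    mapR H f (res R φ z) = res R' φ (mapR G f z) :=
  ext' fun h => by rw [co_mapR, co_res, co_res, co_mapR]

/-! ### Push-forward along a surjective homomorphism -/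

omit [Finite G] [Finite Q] in
theorem mapDomain_mem_center {π : G →* Q} (hπ : Function.Surjective π) (z : ZA R G) :
    MonoidAlgebra.mapDomainAlgHom R R π (z : MonoidAlgebra R G) ∈
      Subalgebra.center R (MonoidAlgebra R Q) := by
  rw [Subalgebra.mem_center_iff]
  intro y
  obtain ⟨x, rfl⟩ : ∃ x, MonoidAlgebra.mapDomainAlgHom R R π x = y := by
    obtain ⟨x, hx⟩ := Finsupp.mapDomain_surjective hπ y.coeff
    exact ⟨MonoidAlgebra.ofCoeff x, MonoidAlgebra.ext hx⟩
  rw [← map_mul, ← map_mul, Subalgebra.mem_center_iff.1 z.2 x]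

variable (R) in
/-- The algebra map `Z(RG) → Z(RQ)` induced by a surjective homomorphism `π : G →* Q`. -/
noncomputable def push (π : G →* Q) (hπ : Function.Surjective π) : ZA R G →ₐ[R] ZA R Q :=
  ((MonoidAlgebra.mapDomainAlgHom R R π).comp
    (Subalgebra.center R (MonoidAlgebra R G)).val).codRestrict _ (mapDomain_mem_center hπ)

omit [Finite G] [Finite Q] in
theorem coe_push (π : G →* Q) (hπ : Function.Surjective π) (z : ZA R G) :
    (push R π hπ z : MonoidAlgebra R Q) = MonoidAlgebra.mapDomainAlgHom R R π z := rfl

omit [Finite G] [Finite Q] in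
theorem co_push [Fintype G] [DecidableEq Q] (π : G →* Q) (hπ : Function.Surjective π)
    (z : ZA R G) (q : Q) : (push R π hπ z).co q = ∑ g with π g = q, z.co g := by
  change (Finsupp.mapDomain π (z : MonoidAlgebra R G).coeff) q = _
  rw [Finsupp.mapDomain, Finsupp.sum_apply, Finsupp.sum_fintype _ _ (by simp), Finset.sum_filter]
  refine Finset.sum_congr rfl fun g _ => ?_
  rw [Finsupp.single_apply]
  rfl

omit [Finite Q] in
theorem mapR_push {R' : Type*} [CommRing R'] (f : R →+* R') (π : G →* Q)
    (hπ : Function.Surjective π) (z : ZA R G) :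
    mapR Q f (push R π hπ z) = push R' π hπ (mapR G f z) := by
  classical
  have := Fintype.ofFinite G
  refine ext' fun q => ?_
  rw [co_mapR, co_push, co_push, map_sum]
  simp only [co_mapR]

end Finite

end ZA

end CL.Blocks
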