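import Cfsg.Agent.Blocks.Sharp
import Cfsg.Agent.Char.Induce

/-!
# Induced characters and induced blocks; Okuyama's theorem, the Third Main Theorem, Blau's theorem
and kernels of blocks
-/

set_option linter.unusedSectionVars false

namespace CL.Blocks

open Cfsg CL.Char
open scoped MonoidAlgebra ComplexConjugate

variable {G : Type*} [Group G] [Finite G] {p : ℕ} {M : Ideal AlgInt}

theorem ev_indFun [Fintype G] (H : Subgroup G) (ξ : H → ℂ) {a : ℂ[G]} (ha : IsCen a) :
    ev (indFun H ξ) a = (H.index : ℂ) * ev ξ (trunc H a) := by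
  have := Fintype.ofFinite H
  have h := sum_indFun_mul H ξ (χ := fun g => a.coeff g) ha
  have h1 : (Nat.card G : ℂ) = H.index * Nat.card H := by
    rw [← Nat.cast_mul, H.index_mul_card]
  have h2 : (Nat.card H : ℂ) ≠ 0 := card_ne_zero
  have h3 : (H.index : ℂ) ≠ 0 := Nat.cast_ne_zero.2 H.index_ne_zero_of_finite
  rw [ev_apply, ev_apply]
  simp only [coeff_trunc, mul_comm (a.coeff _)]
  rw [h1] at h
  field_simp at h
  rw [h, mul_comm]

/-- `ω_{ξ^G}(a) = ω_ξ(a|_H)` for central `a`. -/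
theorem om_indFun [Fintype G] (H : Subgroup G) (ξ : H → ℂ) {a : ℂ[G]} (ha : IsCen a) :
    om (indFun H ξ) a = om ξ (trunc H a) := by
  have h3 : (H.index : ℂ) ≠ 0 := Nat.cast_ne_zero.2 H.index_ne_zero_of_finite
  rw [om, om, ev_indFun H ξ ha, indFun_one, mul_div_mul_left _ _ h3]

theorem inducedCentralChar_eq [Fintype G] (H : Subgroup G) (ξ : H → ℂ) (g : G) :
    inducedCentralChar H ξ g = centralChar (indFun H ξ) g := by
  rw [← om_trunc_classSum, ← om_classSum (indFun_isClassFunction H ξ),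
    om_indFun H ξ (isCen_classSum g)]

theorem isInducedBlock_of_irr_indFun [M.IsMaximal] [Fintype G] (H : Subgroup G)
    (ξ : IrrCharacter H) (hind : IsIrrCharacter G (indFun H (ξ : H → ℂ))) :
    IsInducedBlock M H (blockOf M (ξ : H → ℂ)) (blockOf M (indFun H (ξ : H → ℂ))) :=
  isInducedBlock_of_pair (isPBlock_blockOf ξ) (isPBlock_blockOf' hind) (self_mem_blockOf ξ)
    (χ := ⟨_, hind⟩) (self_mem_blockOf ⟨_, hind⟩) fun g => by
      rw [inducedCentralChar_eq]
      exact memLocalIdeal_sub_self _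

/-- The value of a class function on `f_A`. -/
theorem ev_idem [Fintype G] {φ : G → ℂ} (hφ : IsClassFunction G φ) (A : Set (IrrCharacter G))
    [DecidablePred (· ∈ A)] :
    ev φ (idem A) = ∑ χ : IrrCharacter G with χ ∈ A, classInner φ χ * (χ : G → ℂ) 1 := by
  conv_lhs => rw [classFun_eq_sum hφ, ev_sum_fun]
  rw [Finset.sum_filter]
  refine Finset.sum_congr rfl fun χ _ => ?_
  rw [ev_smul_fun, ev_eq_om_mul, om_idem]
  split_ifs <;> simp

/-- `ω_ξ(f_A|_H) = (ξ^G)_A(1) / ξ^G(1)`. -/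
theorem om_trunc_idem [Fintype G] (H : Subgroup G) [Fintype H] (ξ : H → ℂ)
    (A : Set (IrrCharacter G)) [DecidablePred (· ∈ A)] :
    om ξ (trunc H (idem A)) = (∑ χ : IrrCharacter G with χ ∈ A,
      classInner ξ (fun h : H => (χ : G → ℂ) h) * (χ : G → ℂ) 1) / (H.index * ξ 1) := by
  rw [← om_indFun H ξ (isCen_idem A), om, ev_idem (indFun_isClassFunction H ξ), indFun_one]
  simp only [classInner_indFun_left H ξ (irr_isClassFunction (Subtype.prop _))]

theorem induced_om_trunc_idem [M.IsMaximal] {H : Subgroup G} {b : Set (IrrCharacter H)}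
    {B : Set (IrrCharacter G)} (hind : IsInducedBlock M H b B) {ξ : IrrCharacter H} (hξ : ξ ∈ b) :
    MemLocalIdeal M (om (ξ : H → ℂ) (trunc H (idem B)) - 1) := by
  obtain ⟨χ, hχ⟩ := block_nonempty hind.2.1
  have := induced_om_trunc_sub hind hξ hχ (isCen_idem B) (intCoeff_idem hind.2.1)
  rwa [om_idem_of_mem hχ] at this

theorem induced_om_trunc_idem_of_ne [M.IsMaximal] {H : Subgroup G} {b : Set (IrrCharacter H)}
    {B B' : Set (IrrCharacter G)} (hind : IsInducedBlock M H b B) (hB' : IsPBlock M B')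
    (hne : B' ≠ B) {ξ : IrrCharacter H} (hξ : ξ ∈ b) :
    MemLocalIdeal M (om (ξ : H → ℂ) (trunc H (idem B'))) := by
  obtain ⟨χ, hχ⟩ := block_nonempty hind.2.1
  have := induced_om_trunc_sub hind hξ hχ (isCen_idem B') (intCoeff_idem hB')
  rwa [om_idem_of_notMem fun h => hne (block_eq_of_mem hB' hind.2.1 h hχ), sub_zero] at this

/-- If `b^G` is defined, it is the block `B` with `ω_ξ(f_B|_H)` a unit. -/
theorem induced_iff_om_trunc_idem [M.IsMaximal] {H : Subgroup G} {b : Set (IrrCharacter H)}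
    (hdef : InducedBlockDefined M H b) {B : Set (IrrCharacter G)} (hB : IsPBlock M B)
    {ξ : IrrCharacter H} (hξ : ξ ∈ b) :
    IsInducedBlock M H b B ↔ ¬ MemLocalIdeal M (om (ξ : H → ℂ) (trunc H (idem B))) := by
  constructor
  · intro h h1
    exact not_memLocalIdeal_one ((memLocalIdeal_congr (induced_om_trunc_idem h hξ)).1 h1)
  · intro h
    obtain ⟨B', hB'⟩ := hdef
    by_cases hne : B = B'
    · rwa [hne]
    · exact (h (induced_om_trunc_idem_of_ne hB' hB hne hξ)).elim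

theorem induced_exists_constituent [M.IsMaximal] [Fintype G] {H : Subgroup G} [Fintype H]
    {b : Set (IrrCharacter H)} {B : Set (IrrCharacter G)} (hind : IsInducedBlock M H b B)
    {ξ : IrrCharacter H} (hξ : ξ ∈ b) :
    ∃ χ ∈ B, classInner (fun h : H => (χ : G → ℂ) h) (ξ : H → ℂ) ≠ 0 := by
  classical
  by_contra hc
  push Not at hc
  have h := induced_om_trunc_idem hind hξ
  rw [om_trunc_idem, Finset.sum_eq_zero, zero_div, zero_sub, memLocalIdeal_neg_iff] at h
  · exact not_memLocalIdeal_one h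
  · intro χ hχ
    rw [classInner_eq_zero_comm.1 (hc χ (Finset.mem_filter.1 hχ).2), zero_mul]

/-- Key criterion: if `b^G` is defined, `θ ∈ B` has height zero and `ξ ∈ b`, then `b^G = B` iff
`ω_ξ((θ_H)^♯)` is a unit. -/
theorem induced_iff_om_sharp (hM : IsPModular p M) {H : Subgroup G} {b : Set (IrrCharacter H)}
    (hdef : InducedBlockDefined M H b) {B : Set (IrrCharacter G)} (hB : IsPBlock M B)
    {θ : IrrCharacter G} (hθ : θ ∈ B) (h0 : blockHeight p B (θ : G → ℂ) = 0)
    {ξ : IrrCharacter H} (hξ : ξ ∈ b) :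
    IsInducedBlock M H b B ↔
      ¬ MemLocalIdeal M (om (ξ : H → ℂ) (sharp p fun h : H => (θ : G → ℂ) h)) := by
  have := hM.2.1
  obtain ⟨B', hB'⟩ := hdef
  obtain ⟨χ, hχ⟩ := block_nonempty hB'.2.1
  have h1 := induced_om_trunc_sub hB' hξ hχ (isCen_sharp_irr (p := p) θ) (intCoeff_sharp_irr θ)
  rw [trunc_sharp] at h1
  rw [memLocalIdeal_congr h1, not_memLocalIdeal_om_sharp_iff_mem hM hB hθ h0]
  constructor
  · intro h
    rwa [induced_unique h hB']
  · intro h
    rwa [block_eq_of_mem hB hB'.2.1 h hχ]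

/-- **Okuyama's theorem**. -/
theorem okuyama (hM : IsPModular p M) {H : Subgroup G} (χ : IrrCharacter G)
    (hres : IsIrrCharacter H (fun h : H => (χ : G → ℂ) h))
    (hχ0 : blockHeight p (blockOf M (χ : G → ℂ)) (χ : G → ℂ) = 0)
    (hψ0 : blockHeight p (blockOf M (fun h : H => (χ : G → ℂ) h))
      (fun h : H => (χ : G → ℂ) h) = 0)
    {e : Set (IrrCharacter H)} (he : InducedBlockDefined M H e) :
    IsInducedBlock M H e (blockOf M (χ : G → ℂ)) ↔ e = blockOf M (fun h : H => (χ : G → ℂ) h) := by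
  have := hM.2.1
  have heb : IsPBlock M e := he.choose_spec.1
  obtain ⟨ξ, hξ⟩ := block_nonempty heb
  rw [induced_iff_om_sharp hM he (isPBlock_blockOf χ) (self_mem_blockOf χ) hχ0 hξ]
  have h := not_memLocalIdeal_om_sharp_iff_mem hM (isPBlock_blockOf' hres) (θ := ⟨_, hres⟩)
    (self_mem_blockOf ⟨_, hres⟩) hψ0 ξ
  refine h.trans ⟨fun h1 => block_eq_of_mem heb (isPBlock_blockOf' hres) hξ h1, fun h1 => ?_⟩
  rwa [← h1]

/-- **Brauer's Third Main Theorem**. -/
theorem third_main (hM : IsPModular p M) {H : Subgroup G} {b : Set (IrrCharacter H)}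
    (hdef : InducedBlockDefined M H b) :
    IsInducedBlock M H b (principalBlock M G) ↔ b = principalBlock M H :=
  okuyama hM (irrOne G) irr_one (blockHeight_one _) (blockHeight_one _) hdef

/-- **Blau's theorem**. -/
theorem blau (hM : IsPModular p M) [Fintype G] {H : Subgroup G} [Fintype H]
    {b : Set (IrrCharacter H)} {B : Set (IrrCharacter G)} (hind : IsInducedBlock M H b B)
    {χ : IrrCharacter G} (hχ : χ ∈ B) (h0 : blockHeight p B (χ : G → ℂ) = 0) :
    ∃ ξ ∈ b, blockHeight p b (ξ : H → ℂ) = 0 ∧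
      ∃ n : ℕ, classInner (fun h : H => (χ : G → ℂ) h) (ξ : H → ℂ) = (n : ℂ) ∧ ¬ p ∣ n := by
  have := hM.2.1
  obtain ⟨η, hη⟩ := block_nonempty hind.1
  have h := (induced_iff_om_sharp hM ⟨B, hind⟩ hind.2.1 hχ h0 hη).1 hind
  obtain ⟨c, hc, hsum⟩ := char_exists_eq_sum (char_restrict (irr_isCharacter χ.2) H)
  rw [hsum, sharp_sum, om_sum] at h
  obtain ⟨ξ, -, hξ⟩ := exists_not_memLocalIdeal_of_sum _ h
  rw [sharp_smul, om_smul] at hξ
  have h1 : ¬ MemLocalIdeal M (om (η : H → ℂ) (sharp p (ξ : H → ℂ))) := fun h1 =>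
    hξ (memLocalIdeal_mul_left (memLocalRing_natCast _) h1)
  have h2 : ¬ MemLocalIdeal M (c ξ : ℂ) := fun h2 =>
    hξ (memLocalIdeal_mul_right h2
      (memLocalRing_om η (isCen_sharp_irr ξ) (intCoeff_sharp_irr ξ)))
  obtain ⟨h3, h4⟩ := mem_and_height_of_not_memLocalIdeal_om_sharp hM hind.1 hη h1
  exact ⟨ξ, h3, h4, c ξ, hc ξ, fun h5 => h2 ((memLocalIdeal_natCast hM).2 h5)⟩

end CL.Blocks
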