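import Cfsg.Agent.Base

/-!
# The `p`-part and the `p'`-part of a group element (`Cfsg.IsPPart`)
-/

set_option autoImplicit false

namespace CL.Blocks

open Cfsg

variable {G : Type*} [Group G] {p : ℕ}

theorem isPPart_mul {x y : G} (hc : Commute x y) (hx : ∃ k : ℕ, orderOf x = p ^ k)
    (hy : ¬ p ∣ orderOf y) : IsPPart p (x * y) x := ⟨y, rfl, hc, hx, hy⟩

theorem isPPart_mul' {x y : G} (hc : Commute x y) (hx : ∃ k : ℕ, orderOf x = p ^ k)
    (hy : ¬ p ∣ orderOf y) : IsPPart p (y * x) x := ⟨y, hc.eq, hc, hx, hy⟩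

theorem isPPart_iff {g x : G} : IsPPart p g x ↔
    Commute x g ∧ (∃ k : ℕ, orderOf x = p ^ k) ∧ ¬ p ∣ orderOf (x⁻¹ * g) := by
  constructor
  · rintro ⟨y, rfl, hc, hx, hy⟩
    exact ⟨(Commute.refl x).mul_right hc, hx, by simpa using hy⟩
  · rintro ⟨hc, hx, hy⟩
    exact ⟨x⁻¹ * g, by simp, (Commute.refl x).inv_right.mul_right hc, hx, hy⟩

theorem ppart_orderOf {g x : G} (h : IsPPart p g x) : ∃ k : ℕ, orderOf x = p ^ k :=
  (isPPart_iff.1 h).2.1

theorem ppart_commute {g x : G} (h : IsPPart p g x) : Commute x g := (isPPart_iff.1 h).1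

theorem ppart_not_dvd {g x : G} (h : IsPPart p g x) : ¬ p ∣ orderOf (x⁻¹ * g) :=
  (isPPart_iff.1 h).2.2

theorem exists_orderOf_eq_pow_iff [hp : Fact p.Prime] {x : G} :
    (∃ k : ℕ, orderOf x = p ^ k) ↔ ∃ k : ℕ, x ^ p ^ k = 1 := by
  constructor
  · rintro ⟨k, hk⟩
    exact ⟨k, hk ▸ pow_orderOf_eq_one x⟩
  · rintro ⟨k, hk⟩
    obtain ⟨j, -, hj⟩ := (Nat.dvd_prime_pow hp.out).1 (orderOf_dvd_of_pow_eq_one hk)
    exact ⟨j, hj⟩

theorem exists_orderOf_eq_pow_of_mem [Fact p.Prime] {P : Subgroup G} (hP : IsPGroup p P) {x : G}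
    (hx : x ∈ P) : ∃ k : ℕ, orderOf x = p ^ k := by
  obtain ⟨k, hk⟩ := hP ⟨x, hx⟩
  exact exists_orderOf_eq_pow_iff.2 ⟨k, congrArg Subtype.val hk⟩

theorem isPGroup_zpowers_of_orderOf [Fact p.Prime] {x : G} (hx : ∃ k : ℕ, orderOf x = p ^ k) :
    IsPGroup p (Subgroup.zpowers x) := by
  obtain ⟨k, hk⟩ := hx
  exact IsPGroup.of_card (by rw [Nat.card_zpowers, hk])

theorem eq_one_of_orderOf_pow_of_not_dvd {x : G} (hx : ∃ k : ℕ, orderOf x = p ^ k)
    (hx' : ¬ p ∣ orderOf x) : x = 1 := by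
  obtain ⟨k, hk⟩ := hx
  rcases k with _ | k
  · simpa using hk
  · exact absurd (hk ▸ dvd_pow_self p k.succ_ne_zero) hx'

theorem not_dvd_orderOf_one [hp : Fact p.Prime] : ¬ p ∣ orderOf (1 : G) := by
  simpa using hp.out.ne_one

theorem not_dvd_orderOf_conj {g : G} (h : G) : ¬ p ∣ orderOf (h * g * h⁻¹) ↔ ¬ p ∣ orderOf g := by
  rw [← (MulAut.conj h).orderOf_eq g]; rfl

theorem orderOf_conj' (h g : G) : orderOf (h * g * h⁻¹) = orderOf g :=
  (MulAut.conj h).orderOf_eq g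

theorem orderOf_eq_of_isConj {g h : G} (hgh : IsConj g h) : orderOf g = orderOf h := by
  obtain ⟨c, rfl⟩ := isConj_iff.1 hgh
  exact (orderOf_conj' c g).symm

theorem not_dvd_orderOf_pow {y : G} (hy : ¬ p ∣ orderOf y) (n : ℕ) : ¬ p ∣ orderOf (y ^ n) :=
  fun h => hy (h.trans (orderOf_pow_dvd n))

theorem not_dvd_orderOf_mul [hp : Fact p.Prime] {x y : G} (hc : Commute x y)
    (hx : ¬ p ∣ orderOf x) (hy : ¬ p ∣ orderOf y) : ¬ p ∣ orderOf (x * y) := fun h =>
  ((Nat.Prime.dvd_mul hp.out).1 (h.trans hc.orderOf_mul_dvd_mul_orderOf)).elim hx hy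

theorem not_dvd_orderOf_map {H : Type*} [Group H] (f : G →* H) {y : G} (hy : ¬ p ∣ orderOf y) :
    ¬ p ∣ orderOf (f y) := fun h => hy (h.trans (orderOf_map_dvd f y))

theorem exists_orderOf_map_eq_pow [Fact p.Prime] {H : Type*} [Group H] (f : G →* H) {x : G}
    (hx : ∃ k : ℕ, orderOf x = p ^ k) : ∃ k : ℕ, orderOf (f x) = p ^ k := by
  rw [exists_orderOf_eq_pow_iff] at hx ⊢
  obtain ⟨k, hk⟩ := hx
  exact ⟨k, by rw [← map_pow, hk, map_one]⟩

theorem exists_orderOf_mul_eq_pow [Fact p.Prime] {x y : G} (hc : Commute x y)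
    (hx : ∃ k : ℕ, orderOf x = p ^ k) (hy : ∃ k : ℕ, orderOf y = p ^ k) :
    ∃ k : ℕ, orderOf (x * y) = p ^ k := by
  rw [exists_orderOf_eq_pow_iff] at hx hy ⊢
  obtain ⟨k, hk⟩ := hx
  obtain ⟨l, hl⟩ := hy
  refine ⟨k + l, ?_⟩
  rw [hc.mul_pow, pow_add, pow_mul, hk, one_pow, mul_comm (p ^ k), pow_mul, hl, one_pow, one_mul]

/-- Commuting elements of coprime orders: the first is a power of the product. -/
theorem exists_mul_pow_eq_left {x y : G} (hc : Commute x y)
    (h : (orderOf x).Coprime (orderOf y)) : ∃ n : ℕ, (x * y) ^ n = x ∧ y ^ n = 1 := by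
  obtain ⟨t, ht⟩ := exists_pow_eq_self_of_coprime (x := x) h.symm
  refine ⟨orderOf y * t, ?_, ?_⟩
  · rw [hc.mul_pow, pow_mul, ht, pow_mul, pow_orderOf_eq_one, one_pow, mul_one]
  · rw [pow_mul, pow_orderOf_eq_one, one_pow]

theorem coprime_orderOf_of_ppart [hp : Fact p.Prime] {x y : G} (hx : ∃ k : ℕ, orderOf x = p ^ k)
    (hy : ¬ p ∣ orderOf y) : (orderOf x).Coprime (orderOf y) := by
  obtain ⟨k, hk⟩ := hx
  rw [hk]
  exact Nat.Coprime.pow_left k ((Nat.Prime.coprime_iff_not_dvd hp.out).2 hy)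

variable [hp : Fact p.Prime]

/-- The `p`-factor of a commuting decomposition is a power of the product. -/
theorem exists_mul_pow_eq_ppart {x y : G} (hc : Commute x y) (hx : ∃ k : ℕ, orderOf x = p ^ k)
    (hy : ¬ p ∣ orderOf y) : ∃ n : ℕ, (x * y) ^ n = x :=
  let ⟨n, hn, _⟩ := exists_mul_pow_eq_left hc (coprime_orderOf_of_ppart hx hy)
  ⟨n, hn⟩

/-- The `p'`-factor of a commuting decomposition is a power of the product. -/
theorem exists_mul_pow_eq_pregpart {x y : G} (hc : Commute x y) (hx : ∃ k : ℕ, orderOf x = p ^ k)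
    (hy : ¬ p ∣ orderOf y) : ∃ n : ℕ, (x * y) ^ n = y := by
  obtain ⟨n, hn, -⟩ := exists_mul_pow_eq_left hc.symm (coprime_orderOf_of_ppart hx hy).symm
  exact ⟨n, by rw [hc.eq, hn]⟩

theorem ppart_exists_pow {g x : G} (h : IsPPart p g x) : ∃ n : ℕ, g ^ n = x := by
  obtain ⟨y, rfl, hc, hx, hy⟩ := h
  exact exists_mul_pow_eq_ppart hc hx hy

theorem ppart_exists_pow' {g x : G} (h : IsPPart p g x) : ∃ n : ℕ, g ^ n = x⁻¹ * g := by
  obtain ⟨y, rfl, hc, hx, hy⟩ := h
  simpa using exists_mul_pow_eq_pregpart hc hx hy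

theorem ppart_mem_zpowers {g x : G} (h : IsPPart p g x) : x ∈ Subgroup.zpowers g := by
  obtain ⟨n, rfl⟩ := ppart_exists_pow h
  exact Subgroup.npow_mem_zpowers g n

theorem ppart_mem {g x : G} (h : IsPPart p g x) {H : Subgroup G} (hg : g ∈ H) : x ∈ H := by
  obtain ⟨n, rfl⟩ := ppart_exists_pow h
  exact H.pow_mem hg n

theorem ppart_commute_of_commute {g x c : G} (h : IsPPart p g x) (hc : Commute c g) :
    Commute c x := by
  obtain ⟨n, rfl⟩ := ppart_exists_pow h
  exact hc.pow_right n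

theorem ppart_unique {g x x' : G} (h : IsPPart p g x) (h' : IsPPart p g x') : x = x' := by
  have hxx : Commute x x' := ppart_commute_of_commute h' (ppart_commute h)
  obtain ⟨hc, hx, hy⟩ := isPPart_iff.1 h
  obtain ⟨hc', hx', hy'⟩ := isPPart_iff.1 h'
  have h1 : ∃ k : ℕ, orderOf (x⁻¹ * x') = p ^ k :=
    exists_orderOf_mul_eq_pow hxx.inv_left (by simpa using hx) hx'
  have h2 : ¬ p ∣ orderOf ((x⁻¹ * g) * (x'⁻¹ * g)⁻¹) := by
    refine not_dvd_orderOf_mul (Commute.inv_right ?_) hy (by rwa [orderOf_inv])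
    exact (hxx.inv_inv.mul_right hc.inv_left).mul_left
      (hc'.inv_left.symm.mul_right (Commute.refl g))
  have h3 : (x⁻¹ * g) * (x'⁻¹ * g)⁻¹ = x⁻¹ * x' := by group
  rw [h3] at h2
  exact inv_mul_eq_one.1 (eq_one_of_orderOf_pow_of_not_dvd h1 h2)

theorem exists_isPPart_of_isOfFinOrder {g : G} (hg : IsOfFinOrder g) : ∃ x, IsPPart p g x := by
  have h0 : orderOf g ≠ 0 := hg.orderOf_pos.ne'
  obtain ⟨k, m, hm, hk⟩ := Nat.exists_eq_pow_mul_and_not_dvd h0 p hp.out.ne_one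
  have hcop : Nat.Coprime (p ^ k) m :=
    (Nat.Coprime.pow_left k ((Nat.Prime.coprime_iff_not_dvd hp.out).2 hm))
  have hb := Nat.gcd_eq_gcd_ab (p ^ k) m
  rw [hcop] at hb
  refine ⟨g ^ ((m : ℤ) * Nat.gcdB (p ^ k) m), g ^ (((p ^ k : ℕ) : ℤ) * Nat.gcdA (p ^ k) m),
    ?_, Commute.zpow_zpow_self _ _ _, exists_orderOf_eq_pow_iff.2 ⟨k, ?_⟩, ?_⟩
  · rw [← zpow_add, add_comm, ← hb]; simp
  · rw [← zpow_natCast, ← zpow_mul, ← orderOf_dvd_iff_zpow_eq_one, hk]
    exact ⟨Nat.gcdB (p ^ k) m, by push_cast; ring⟩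
  · have : orderOf (g ^ (((p ^ k : ℕ) : ℤ) * Nat.gcdA (p ^ k) m)) ∣ m := by
      rw [orderOf_dvd_iff_pow_eq_one, ← zpow_natCast, ← zpow_mul, ← orderOf_dvd_iff_zpow_eq_one, hk]
      exact ⟨Nat.gcdA (p ^ k) m, by push_cast; ring⟩
    exact fun h => hm (h.trans this)

variable (p) in
theorem exists_isPPart [Finite G] (g : G) : ∃ x, IsPPart p g x :=
  exists_isPPart_of_isOfFinOrder (isOfFinOrder_of_finite g)

variable (p) in
/-- Decomposition of an element into commuting `p`- and `p'`-factors. -/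
theorem exists_ppart_mul [Finite G] (g : G) : ∃ x y : G, x * y = g ∧ Commute x y ∧
    (∃ k : ℕ, orderOf x = p ^ k) ∧ ¬ p ∣ orderOf y := exists_isPPart p g

theorem ppart_map {H : Type*} [Group H] (f : G →* H) {g x : G} (h : IsPPart p g x) :
    IsPPart p (f g) (f x) := by
  obtain ⟨y, rfl, hc, hx, hy⟩ := h
  exact ⟨f y, (map_mul f x y).symm, hc.map f, exists_orderOf_map_eq_pow f hx,
    not_dvd_orderOf_map f hy⟩

omit hp in
theorem ppart_map_iff {H : Type*} [Group H] (f : G →* H) (hf : Function.Injective f) {g x : G} :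
    IsPPart p (f g) (f x) ↔ IsPPart p g x := by
  rw [isPPart_iff, isPPart_iff, ← map_inv, ← map_mul, orderOf_injective f hf,
    orderOf_injective f hf, commute_map_iff hf]

omit hp in
theorem ppart_coe_iff {H : Subgroup G} {g x : H} : IsPPart p (g : G) (x : G) ↔ IsPPart p g x :=
  ppart_map_iff H.subtype H.subtype_injective

theorem ppart_conj {g x : G} (h : IsPPart p g x) (c : G) :
    IsPPart p (c * g * c⁻¹) (c * x * c⁻¹) := ppart_map (MulAut.conj c).toMonoidHom h

theorem ppart_isConj {g h x z : G} (hgh : IsConj g h) (hx : IsPPart p g x) (hz : IsPPart p h z) :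
    IsConj x z := by
  obtain ⟨c, rfl⟩ := isConj_iff.1 hgh
  exact isConj_iff.2 ⟨c, ppart_unique (ppart_conj hx c) hz⟩

omit hp in
theorem ppart_inv {g x : G} (h : IsPPart p g x) : IsPPart p g⁻¹ x⁻¹ := by
  obtain ⟨y, rfl, hc, hx, hy⟩ := h
  exact ⟨y⁻¹, by rw [hc.eq, mul_inv_rev], hc.inv_inv, by simpa using hx, by simpa using hy⟩

theorem ppart_pow {g x : G} (h : IsPPart p g x) (n : ℕ) : IsPPart p (g ^ n) (x ^ n) := by
  obtain ⟨y, rfl, hc, hx, hy⟩ := h
  refine ⟨y ^ n, (hc.mul_pow n).symm, hc.pow_pow n n, ?_, not_dvd_orderOf_pow hy n⟩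
  rw [exists_orderOf_eq_pow_iff] at hx ⊢
  obtain ⟨k, hk⟩ := hx
  exact ⟨k, by rw [← pow_mul, mul_comm, pow_mul, hk, one_pow]⟩

omit hp in
theorem isPPart_one_iff {g : G} : IsPPart p g 1 ↔ ¬ p ∣ orderOf g := by
  rw [isPPart_iff]
  simp only [Commute.one_left, orderOf_one, inv_one, one_mul, true_and, and_iff_right_iff_imp]
  exact fun _ => ⟨0, by simp⟩

theorem ppart_eq_one_iff {g x : G} (h : IsPPart p g x) : x = 1 ↔ ¬ p ∣ orderOf g :=
  ⟨fun hx => isPPart_one_iff.1 (hx ▸ h), fun hg => ppart_unique h (isPPart_one_iff.2 hg)⟩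

theorem ppart_ne_one_iff {g x : G} (h : IsPPart p g x) : x ≠ 1 ↔ p ∣ orderOf g := by
  rw [Ne, ppart_eq_one_iff h, not_not]

theorem isPPart_self {x : G} (hx : ∃ k : ℕ, orderOf x = p ^ k) : IsPPart p x x :=
  ⟨1, mul_one x, Commute.one_right x, hx, not_dvd_orderOf_one⟩

/-- A nontrivial `p`-element times a commuting `p`-regular element is `p`-singular. -/
theorem dvd_orderOf_mul_of_ne_one {x y : G} (hc : Commute x y) (hx : ∃ k : ℕ, orderOf x = p ^ k)
    (hy : ¬ p ∣ orderOf y) (hx1 : x ≠ 1) : p ∣ orderOf (x * y) :=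
  (ppart_ne_one_iff (isPPart_mul hc hx hy)).1 hx1

theorem dvd_orderOf_mul_of_ne_one' {x y : G} (hc : Commute x y) (hx : ∃ k : ℕ, orderOf x = p ^ k)
    (hy : ¬ p ∣ orderOf y) (hx1 : x ≠ 1) : p ∣ orderOf (y * x) :=
  hc.eq ▸ dvd_orderOf_mul_of_ne_one hc hx hy hx1

theorem commute_mul_iff_ppart {x y c : G} (hc : Commute x y) (hx : ∃ k : ℕ, orderOf x = p ^ k)
    (hy : ¬ p ∣ orderOf y) : Commute c (x * y) ↔ Commute c x ∧ Commute c y := by
  refine ⟨fun h => ⟨?_, ?_⟩, fun h => h.1.mul_right h.2⟩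
  · obtain ⟨n, hn⟩ := exists_mul_pow_eq_ppart hc hx hy
    exact hn ▸ h.pow_right n
  · obtain ⟨n, hn⟩ := exists_mul_pow_eq_pregpart hc hx hy
    exact hn ▸ h.pow_right n

omit hp in
theorem mem_centralizer_singleton_iff_commute {c g : G} :
    c ∈ Subgroup.centralizer ({g} : Set G) ↔ Commute c g :=
  Subgroup.mem_centralizer_singleton_iff

theorem centralizer_mul_ppart {x y : G} (hc : Commute x y) (hx : ∃ k : ℕ, orderOf x = p ^ k)
    (hy : ¬ p ∣ orderOf y) : Subgroup.centralizer ({x * y} : Set G) =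
      Subgroup.centralizer ({x} : Set G) ⊓ Subgroup.centralizer ({y} : Set G) := by
  ext c
  simp only [Subgroup.mem_inf, mem_centralizer_singleton_iff_commute]
  exact commute_mul_iff_ppart hc hx hy

theorem centralizer_le_of_ppart {g x : G} (h : IsPPart p g x) :
    Subgroup.centralizer ({g} : Set G) ≤ Subgroup.centralizer ({x} : Set G) := fun _ hc =>
  mem_centralizer_singleton_iff_commute.2
    (ppart_commute_of_commute h (mem_centralizer_singleton_iff_commute.1 hc))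

omit hp in
theorem mem_centralizer_of_ppart {g x : G} (h : IsPPart p g x) :
    g ∈ Subgroup.centralizer ({x} : Set G) :=
  mem_centralizer_singleton_iff_commute.2 (ppart_commute h).symm

/-- Two elements of the form `x * y`, `x * y'` (with the same `p`-part `x`) that are conjugate
are conjugate by an element centralizing `x`. -/
theorem commute_of_conj_of_ppart {g g' x c : G} (h : IsPPart p g x) (h' : IsPPart p g' x)
    (hc : c * g * c⁻¹ = g') : Commute c x := by
  have := ppart_unique (hc ▸ ppart_conj h c) h'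
  exact mul_inv_eq_iff_eq_mul.1 this

/-! ### The parts as functions -/

section Fun

variable [Finite G]

variable (p) in
/-- The `p`-part of `g`. -/
noncomputable def pPart (g : G) : G := Classical.choose (exists_isPPart p g)

variable (p) in
/-- The `p'`-part of `g`. -/
noncomputable def pReg (g : G) : G := (pPart p g)⁻¹ * g

theorem isPPart_pPart (g : G) : IsPPart p g (pPart p g) := Classical.choose_spec (exists_isPPart p g)

theorem pPart_eq_iff {g x : G} : pPart p g = x ↔ IsPPart p g x :=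
  ⟨fun h => h ▸ isPPart_pPart g, fun h => ppart_unique (isPPart_pPart g) h⟩

theorem pPart_mul_pReg (g : G) : pPart p g * pReg p g = g := by simp [pReg]

theorem commute_pPart_pReg (g : G) : Commute (pPart p g) (pReg p g) :=
  (Commute.refl _).inv_right.mul_right (ppart_commute (isPPart_pPart g))

theorem pReg_mul_pPart (g : G) : pReg p g * pPart p g = g := by
  rw [← (commute_pPart_pReg g).eq, pPart_mul_pReg]

theorem orderOf_pPart (g : G) : ∃ k : ℕ, orderOf (pPart p g) = p ^ k :=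
  ppart_orderOf (isPPart_pPart g)

theorem not_dvd_orderOf_pReg (g : G) : ¬ p ∣ orderOf (pReg p g) := ppart_not_dvd (isPPart_pPart g)

theorem pPart_mul {x y : G} (hc : Commute x y) (hx : ∃ k : ℕ, orderOf x = p ^ k)
    (hy : ¬ p ∣ orderOf y) : pPart p (x * y) = x := pPart_eq_iff.2 (isPPart_mul hc hx hy)

theorem pReg_mul {x y : G} (hc : Commute x y) (hx : ∃ k : ℕ, orderOf x = p ^ k)
    (hy : ¬ p ∣ orderOf y) : pReg p (x * y) = y := by
  rw [pReg, pPart_mul hc hx hy, inv_mul_cancel_left]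

theorem pPart_eq_one_iff {g : G} : pPart p g = 1 ↔ ¬ p ∣ orderOf g :=
  ppart_eq_one_iff (isPPart_pPart g)

theorem pReg_eq_self_iff {g : G} : pReg p g = g ↔ ¬ p ∣ orderOf g := by
  rw [pReg, ← pPart_eq_one_iff, mul_eq_right, inv_eq_one]

theorem pPart_eq_self_iff {g : G} : pPart p g = g ↔ ∃ k : ℕ, orderOf g = p ^ k :=
  ⟨fun h => h ▸ orderOf_pPart g, fun h => pPart_eq_iff.2 (isPPart_self h)⟩

theorem pReg_eq_one_iff {g : G} : pReg p g = 1 ↔ ∃ k : ℕ, orderOf g = p ^ k := by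
  rw [pReg, inv_mul_eq_one, pPart_eq_self_iff]

theorem map_pPart {H : Type*} [Group H] [Finite H] (f : G →* H) (g : G) :
    f (pPart p g) = pPart p (f g) := (pPart_eq_iff.2 (ppart_map f (isPPart_pPart g))).symm

theorem map_pReg {H : Type*} [Group H] [Finite H] (f : G →* H) (g : G) :
    f (pReg p g) = pReg p (f g) := by rw [pReg, pReg, map_mul, map_inv, map_pPart]

theorem coe_pPart {H : Subgroup G} (g : H) : ((pPart p g : H) : G) = pPart p (g : G) :=
  map_pPart H.subtype g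

theorem coe_pReg {H : Subgroup G} (g : H) : ((pReg p g : H) : G) = pReg p (g : G) :=
  map_pReg H.subtype g

theorem pPart_conj (c g : G) : pPart p (c * g * c⁻¹) = c * pPart p g * c⁻¹ :=
  (map_pPart (MulAut.conj c).toMonoidHom g).symm

theorem pReg_conj (c g : G) : pReg p (c * g * c⁻¹) = c * pReg p g * c⁻¹ :=
  (map_pReg (MulAut.conj c).toMonoidHom g).symm

theorem pPart_inv (g : G) : pPart p g⁻¹ = (pPart p g)⁻¹ :=
  pPart_eq_iff.2 (ppart_inv (isPPart_pPart g))

theorem pReg_inv (g : G) : pReg p g⁻¹ = (pReg p g)⁻¹ := by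
  rw [pReg, pReg, pPart_inv, mul_inv_rev, inv_inv, (ppart_commute (isPPart_pPart g)).inv_right.eq]

theorem exists_pow_eq_pPart (g : G) : ∃ n : ℕ, g ^ n = pPart p g :=
  ppart_exists_pow (isPPart_pPart g)

theorem exists_pow_eq_pReg (g : G) : ∃ n : ℕ, g ^ n = pReg p g :=
  ppart_exists_pow' (isPPart_pPart g)

theorem pPart_mem {H : Subgroup G} {g : G} (hg : g ∈ H) : pPart p g ∈ H :=
  ppart_mem (isPPart_pPart g) hg

theorem pReg_mem {H : Subgroup G} {g : G} (hg : g ∈ H) : pReg p g ∈ H :=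
  H.mul_mem (H.inv_mem (pPart_mem hg)) hg

theorem commute_pPart_of_commute {c g : G} (h : Commute c g) : Commute c (pPart p g) :=
  ppart_commute_of_commute (isPPart_pPart g) h

theorem commute_pReg_of_commute {c g : G} (h : Commute c g) : Commute c (pReg p g) :=
  (commute_pPart_of_commute h).inv_right.mul_right h

theorem isConj_pPart {g h : G} (hgh : IsConj g h) : IsConj (pPart p g) (pPart p h) :=
  ppart_isConj hgh (isPPart_pPart g) (isPPart_pPart h)

theorem isConj_pReg {g h : G} (hgh : IsConj g h) : IsConj (pReg p g) (pReg p h) := by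
  obtain ⟨c, rfl⟩ := isConj_iff.1 hgh
  exact isConj_iff.2 ⟨c, (pReg_conj c g).symm⟩

theorem pReg_pReg (g : G) : pReg p (pReg p g) = pReg p g :=
  pReg_eq_self_iff.2 (not_dvd_orderOf_pReg g)

theorem pPart_pPart (g : G) : pPart p (pPart p g) = pPart p g :=
  pPart_eq_self_iff.2 (orderOf_pPart g)

theorem centralizer_eq_pPart_inf_pReg (g : G) : Subgroup.centralizer ({g} : Set G) =
    Subgroup.centralizer ({pPart p g} : Set G) ⊓ Subgroup.centralizer ({pReg p g} : Set G) := by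
  conv_lhs => rw [← pPart_mul_pReg (p := p) g]
  exact centralizer_mul_ppart (commute_pPart_pReg g) (orderOf_pPart g) (not_dvd_orderOf_pReg g)

/-- Multiplying by a commuting `p`-element does not change the `p'`-part. -/
theorem pReg_mul_of_commute {x g : G} (hc : Commute x g) (hx : ∃ k : ℕ, orderOf x = p ^ k) :
    pReg p (x * g) = pReg p g := by
  conv_lhs => rw [← pPart_mul_pReg (p := p) g, ← mul_assoc]
  exact pReg_mul ((commute_pReg_of_commute hc).mul_left (commute_pPart_pReg g))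
    (exists_orderOf_mul_eq_pow (commute_pPart_of_commute hc) hx (orderOf_pPart g))
    (not_dvd_orderOf_pReg g)

theorem pPart_mul_of_commute {x g : G} (hc : Commute x g) (hx : ∃ k : ℕ, orderOf x = p ^ k) :
    pPart p (x * g) = x * pPart p g := by
  conv_lhs => rw [← pPart_mul_pReg (p := p) g, ← mul_assoc]
  exact pPart_mul ((commute_pReg_of_commute hc).mul_left (commute_pPart_pReg g))
    (exists_orderOf_mul_eq_pow (commute_pPart_of_commute hc) hx (orderOf_pPart g))
    (not_dvd_orderOf_pReg g)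

/-- A large power of `p` kills the `p`-part and fixes the `p'`-part, for all elements at once. -/
theorem exists_pow_pow_eq_pReg : ∃ k : ℕ, 0 < k ∧ ∀ g : G, g ^ p ^ k = pReg p g := by
  have h0 : Nat.card G ≠ 0 := Nat.card_pos.ne'
  obtain ⟨a, m, hm, ha⟩ := Nat.exists_eq_pow_mul_and_not_dvd h0 p hp.out.ne_one
  have hm0 : 0 < m := Nat.pos_of_ne_zero (by rintro rfl; exact hm (dvd_zero p))
  have hcop : Nat.Coprime p m := (Nat.Prime.coprime_iff_not_dvd hp.out).2 hm
  have ht : 0 < Nat.totient m := Nat.totient_pos.2 hm0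
  refine ⟨Nat.totient m * (a + 1), by positivity, fun g => ?_⟩
  conv_lhs => rw [← pPart_mul_pReg (p := p) g, (commute_pPart_pReg g).mul_pow]
  have h1 : pPart p g ^ p ^ (Nat.totient m * (a + 1)) = 1 := by
    obtain ⟨k, hk⟩ := orderOf_pPart (p := p) g
    have h2 : p ^ k ∣ p ^ a * m := by rw [← hk, ← ha]; exact orderOf_dvd_natCard _
    have h3 : p ^ k ∣ p ^ a := (Nat.Coprime.pow_left k hcop).dvd_of_dvd_mul_right h2
    rw [← orderOf_dvd_iff_pow_eq_one, hk]
    exact h3.trans (pow_dvd_pow p (by nlinarith))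
  have h2 : pReg p g ^ p ^ (Nat.totient m * (a + 1)) = pReg p g := by
    have h3 : orderOf (pReg p g) ∣ p ^ a * m := by rw [← ha]; exact orderOf_dvd_natCard _
    have h4 : orderOf (pReg p g) ∣ m :=
      (Nat.Coprime.pow_right a ((Nat.Prime.coprime_iff_not_dvd hp.out).2
        (not_dvd_orderOf_pReg g)).symm).dvd_of_dvd_mul_left h3
    have h5 : p ^ (Nat.totient m * (a + 1)) ≡ 1 [MOD m] := by
      have := (Nat.ModEq.pow_totient hcop).pow (a + 1)
      rwa [← pow_mul, one_pow] at this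
    conv_rhs => rw [← pow_one (pReg p g)]
    rw [pow_eq_pow_iff_modEq]
    exact h5.of_dvd h4
  rw [h1, h2, one_mul]

end Fun

end CL.Blocks
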