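import Cfsg.Agent.Base

/-!
# The local ring at a maximal ideal `M` of the algebraic integers

`locRing M` is the subring of `ℂ` of the local integers at `M` (`Cfsg.MemLocalRing`).  It is a
local ring whose maximal ideal is `Cfsg.MemLocalIdeal M`.
-/

set_option autoImplicit false

namespace CL.Blocks

open Cfsg

section Basic

variable {M : Ideal AlgInt}

theorem algInt_coe_ne_zero_of_notMem {b : AlgInt} (hb : b ∉ M) : (b : ℂ) ≠ 0 := by
  intro h
  apply hb
  have : b = 0 := Subtype.ext h
  rw [this]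
  exact M.zero_mem

theorem memLocalRing_of_memLocalIdeal {z : ℂ} (h : MemLocalIdeal M z) : MemLocalRing M z := by
  obtain ⟨a, b, -, hb, h⟩ := h
  exact ⟨a, b, hb, h⟩

variable [hM : M.IsMaximal]

theorem algInt_one_notMem : (1 : AlgInt) ∉ M := (Ideal.ne_top_iff_one M).1 hM.ne_top

theorem algInt_mul_notMem {a b : AlgInt} (ha : a ∉ M) (hb : b ∉ M) : a * b ∉ M := fun h =>
  (hM.isPrime.mem_or_mem h).elim ha hb

theorem memLocalRing_algInt (a : AlgInt) : MemLocalRing M (a : ℂ) :=
  ⟨a, 1, algInt_one_notMem, by simp⟩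

theorem memLocalRing_of_isIntegral {z : ℂ} (hz : IsIntegral ℤ z) : MemLocalRing M z :=
  memLocalRing_algInt (⟨z, hz⟩ : AlgInt)

variable (M) in
/-- The local ring at `M`, as a subring of `ℂ`. -/
def locRing : Subring ℂ where
  carrier := {z | MemLocalRing M z}
  mul_mem' := by
    rintro _ _ ⟨a, b, hb, rfl⟩ ⟨c, d, hd, rfl⟩
    exact ⟨a * c, b * d, algInt_mul_notMem hb hd, by simp [div_mul_div_comm]⟩
  one_mem' := memLocalRing_algInt (1 : AlgInt)
  add_mem' := by
    rintro _ _ ⟨a, b, hb, rfl⟩ ⟨c, d, hd, rfl⟩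
    refine ⟨a * d + b * c, b * d, algInt_mul_notMem hb hd, ?_⟩
    rw [div_add_div _ _ (algInt_coe_ne_zero_of_notMem hb) (algInt_coe_ne_zero_of_notMem hd)]
    simp
  zero_mem' := memLocalRing_algInt (0 : AlgInt)
  neg_mem' := by
    rintro _ ⟨a, b, hb, rfl⟩
    exact ⟨-a, b, hb, by simp [neg_div]⟩

theorem mem_locRing {z : ℂ} : z ∈ locRing M ↔ MemLocalRing M z := Iff.rfl

theorem algInt_mem_locRing (a : AlgInt) : (a : ℂ) ∈ locRing M := memLocalRing_algInt a

theorem mem_locRing_of_isIntegral {z : ℂ} (hz : IsIntegral ℤ z) : z ∈ locRing M :=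
  memLocalRing_of_isIntegral hz

theorem mem_locRing_of_memLocalIdeal {z : ℂ} (h : MemLocalIdeal M z) : z ∈ locRing M :=
  memLocalRing_of_memLocalIdeal h

/-! ### Closure properties of `MemLocalRing` -/

theorem memLocalRing_zero : MemLocalRing M 0 := (locRing M).zero_mem
theorem memLocalRing_one : MemLocalRing M 1 := (locRing M).one_mem
theorem memLocalRing_add {x y : ℂ} (hx : MemLocalRing M x) (hy : MemLocalRing M y) :
    MemLocalRing M (x + y) := (locRing M).add_mem hx hy
theorem memLocalRing_sub {x y : ℂ} (hx : MemLocalRing M x) (hy : MemLocalRing M y) :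
    MemLocalRing M (x - y) := (locRing M).sub_mem hx hy
theorem memLocalRing_mul {x y : ℂ} (hx : MemLocalRing M x) (hy : MemLocalRing M y) :
    MemLocalRing M (x * y) := (locRing M).mul_mem hx hy
theorem memLocalRing_neg {x : ℂ} (hx : MemLocalRing M x) : MemLocalRing M (-x) :=
  (locRing M).neg_mem hx
theorem memLocalRing_pow {x : ℂ} (hx : MemLocalRing M x) (n : ℕ) : MemLocalRing M (x ^ n) :=
  (locRing M).pow_mem hx n
theorem memLocalRing_natCast (n : ℕ) : MemLocalRing M (n : ℂ) := natCast_mem (locRing M) n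
theorem memLocalRing_intCast (n : ℤ) : MemLocalRing M (n : ℂ) := intCast_mem (locRing M) n
theorem memLocalRing_sum {ι : Type*} (s : Finset ι) {f : ι → ℂ}
    (h : ∀ i ∈ s, MemLocalRing M (f i)) : MemLocalRing M (∑ i ∈ s, f i) :=
  (locRing M).sum_mem h
theorem memLocalRing_prod {ι : Type*} (s : Finset ι) {f : ι → ℂ}
    (h : ∀ i ∈ s, MemLocalRing M (f i)) : MemLocalRing M (∏ i ∈ s, f i) :=
  (locRing M).prod_mem h

/-! ### Closure properties of `MemLocalIdeal` -/

theorem memLocalIdeal_algInt {a : AlgInt} : MemLocalIdeal M (a : ℂ) ↔ a ∈ M := by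
  constructor
  · rintro ⟨c, d, hc, hd, h⟩
    rw [div_eq_iff (algInt_coe_ne_zero_of_notMem hd)] at h
    have : c = a * d := Subtype.ext h
    rw [this] at hc
    exact (hM.isPrime.mem_or_mem hc).resolve_right hd
  · intro h
    exact ⟨a, 1, h, algInt_one_notMem, by simp⟩

theorem memLocalIdeal_zero : MemLocalIdeal M 0 :=
  (memLocalIdeal_algInt (a := 0)).2 M.zero_mem

theorem not_memLocalIdeal_one : ¬ MemLocalIdeal M 1 := fun h =>
  algInt_one_notMem ((memLocalIdeal_algInt (a := 1)).1 h)

theorem ne_zero_of_not_memLocalIdeal {z : ℂ} (h : ¬ MemLocalIdeal M z) : z ≠ 0 := by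
  rintro rfl
  exact h memLocalIdeal_zero

theorem memLocalIdeal_add {x y : ℂ} (hx : MemLocalIdeal M x) (hy : MemLocalIdeal M y) :
    MemLocalIdeal M (x + y) := by
  obtain ⟨a, b, ha, hb, rfl⟩ := hx
  obtain ⟨c, d, hc, hd, rfl⟩ := hy
  refine ⟨a * d + b * c, b * d, M.add_mem (M.mul_mem_right _ ha) (M.mul_mem_left _ hc),
    algInt_mul_notMem hb hd, ?_⟩
  rw [div_add_div _ _ (algInt_coe_ne_zero_of_notMem hb) (algInt_coe_ne_zero_of_notMem hd)]
  simp

theorem memLocalIdeal_mul_left {x y : ℂ} (hx : MemLocalRing M x) (hy : MemLocalIdeal M y) :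
    MemLocalIdeal M (x * y) := by
  obtain ⟨a, b, hb, rfl⟩ := hx
  obtain ⟨c, d, hc, hd, rfl⟩ := hy
  exact ⟨a * c, b * d, M.mul_mem_left _ hc, algInt_mul_notMem hb hd, by simp [div_mul_div_comm]⟩

theorem memLocalIdeal_mul_right {x y : ℂ} (hx : MemLocalIdeal M x) (hy : MemLocalRing M y) :
    MemLocalIdeal M (x * y) := by
  rw [mul_comm]
  exact memLocalIdeal_mul_left hy hx

theorem memLocalIdeal_neg {x : ℂ} (hx : MemLocalIdeal M x) : MemLocalIdeal M (-x) := by
  rw [← neg_one_mul]
  exact memLocalIdeal_mul_left (memLocalRing_neg memLocalRing_one) hx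

theorem memLocalIdeal_neg_iff {x : ℂ} : MemLocalIdeal M (-x) ↔ MemLocalIdeal M x :=
  ⟨fun h => by simpa using memLocalIdeal_neg h, memLocalIdeal_neg⟩

theorem memLocalIdeal_sub {x y : ℂ} (hx : MemLocalIdeal M x) (hy : MemLocalIdeal M y) :
    MemLocalIdeal M (x - y) := by
  rw [sub_eq_add_neg]
  exact memLocalIdeal_add hx (memLocalIdeal_neg hy)

theorem memLocalIdeal_sub_comm {x y : ℂ} (h : MemLocalIdeal M (x - y)) :
    MemLocalIdeal M (y - x) := by
  rw [← neg_sub]
  exact memLocalIdeal_neg h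

theorem memLocalIdeal_sub_trans {x y z : ℂ} (h₁ : MemLocalIdeal M (x - y))
    (h₂ : MemLocalIdeal M (y - z)) : MemLocalIdeal M (x - z) := by
  have := memLocalIdeal_add h₁ h₂
  rwa [sub_add_sub_cancel] at this

theorem memLocalIdeal_sub_self (x : ℂ) : MemLocalIdeal M (x - x) := by
  rw [sub_self]
  exact memLocalIdeal_zero

/-- Congruent numbers are together in the local ideal. -/
theorem memLocalIdeal_congr {x y : ℂ} (h : MemLocalIdeal M (x - y)) :
    MemLocalIdeal M x ↔ MemLocalIdeal M y :=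
  ⟨fun hx => by simpa using memLocalIdeal_sub hx h, fun hy => by simpa using memLocalIdeal_add h hy⟩

theorem memLocalRing_congr {x y : ℂ} (h : MemLocalIdeal M (x - y)) :
    MemLocalRing M x ↔ MemLocalRing M y :=
  ⟨fun hx => by simpa using memLocalRing_sub hx (memLocalRing_of_memLocalIdeal h),
    fun hy => by simpa using memLocalRing_add (memLocalRing_of_memLocalIdeal h) hy⟩

theorem memLocalIdeal_sum {ι : Type*} (s : Finset ι) {f : ι → ℂ}
    (h : ∀ i ∈ s, MemLocalIdeal M (f i)) : MemLocalIdeal M (∑ i ∈ s, f i) :=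
  Finset.sum_induction f (MemLocalIdeal M) (fun _ _ => memLocalIdeal_add) memLocalIdeal_zero h

/-- If a sum is outside the local ideal, so is one of its terms. -/
theorem exists_not_memLocalIdeal_of_sum {ι : Type*} (s : Finset ι) {f : ι → ℂ}
    (h : ¬ MemLocalIdeal M (∑ i ∈ s, f i)) : ∃ i ∈ s, ¬ MemLocalIdeal M (f i) := by
  by_contra hc
  push Not at hc
  exact h (memLocalIdeal_sum s hc)

omit hM in
/-- A local integer outside the local ideal has a local integer as inverse. -/
theorem memLocalRing_inv {z : ℂ} (hz : MemLocalRing M z) (hz' : ¬ MemLocalIdeal M z) :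
    MemLocalRing M z⁻¹ := by
  obtain ⟨a, b, hb, rfl⟩ := hz
  have ha : a ∉ M := fun ha => hz' ⟨a, b, ha, hb, rfl⟩
  exact ⟨b, a, ha, by simp⟩

theorem not_memLocalIdeal_of_inv {z : ℂ} (hz0 : z ≠ 0) (hz : MemLocalRing M z⁻¹) :
    ¬ MemLocalIdeal M z := fun h => by
  have := memLocalIdeal_mul_right h hz
  rw [mul_inv_cancel₀ hz0] at this
  exact not_memLocalIdeal_one this

theorem not_memLocalIdeal_inv {z : ℂ} (hz : MemLocalRing M z) (hz0 : z ≠ 0) :
    ¬ MemLocalIdeal M z⁻¹ :=
  not_memLocalIdeal_of_inv (inv_ne_zero hz0) (by simpa using hz)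

theorem memLocalRing_div {x z : ℂ} (hx : MemLocalRing M x) (hz : MemLocalRing M z)
    (hz' : ¬ MemLocalIdeal M z) : MemLocalRing M (x / z) := by
  rw [div_eq_mul_inv]
  exact memLocalRing_mul hx (memLocalRing_inv hz hz')

theorem memLocalIdeal_div {x z : ℂ} (hx : MemLocalIdeal M x) (hz : MemLocalRing M z)
    (hz' : ¬ MemLocalIdeal M z) : MemLocalIdeal M (x / z) := by
  rw [div_eq_mul_inv]
  exact memLocalIdeal_mul_right hx (memLocalRing_inv hz hz')

/-- Multiplying by a unit does not change membership in the local ideal (no integrality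
assumption on `x`). -/
theorem memLocalIdeal_mul_unit_iff {x u : ℂ} (hu : MemLocalRing M u) (hu' : ¬ MemLocalIdeal M u) :
    MemLocalIdeal M (x * u) ↔ MemLocalIdeal M x := by
  refine ⟨fun h => ?_, fun h => memLocalIdeal_mul_right h hu⟩
  have := memLocalIdeal_div h hu hu'
  rwa [mul_div_cancel_right₀ _ (ne_zero_of_not_memLocalIdeal hu')] at this

theorem memLocalRing_mul_unit_iff {x u : ℂ} (hu : MemLocalRing M u) (hu' : ¬ MemLocalIdeal M u) :
    MemLocalRing M (x * u) ↔ MemLocalRing M x := by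
  refine ⟨fun h => ?_, fun h => memLocalRing_mul h hu⟩
  have := memLocalRing_div h hu hu'
  rwa [mul_div_cancel_right₀ _ (ne_zero_of_not_memLocalIdeal hu')] at this

/-- The local ideal is prime. -/
theorem memLocalIdeal_or_of_mul {x y : ℂ} (hy : MemLocalRing M y) (h : MemLocalIdeal M (x * y)) :
    MemLocalIdeal M x ∨ MemLocalIdeal M y := by
  by_cases hy' : MemLocalIdeal M y
  · exact Or.inr hy'
  · exact Or.inl ((memLocalIdeal_mul_unit_iff hy hy').1 h)

theorem not_memLocalIdeal_mul {x y : ℂ} (hx : ¬ MemLocalIdeal M x) (hy : MemLocalRing M y)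
    (hy' : ¬ MemLocalIdeal M y) : ¬ MemLocalIdeal M (x * y) := fun h =>
  (memLocalIdeal_or_of_mul hy h).elim hx hy'

theorem not_memLocalIdeal_prod {ι : Type*} (s : Finset ι) {f : ι → ℂ}
    (h : ∀ i ∈ s, MemLocalRing M (f i)) (h' : ∀ i ∈ s, ¬ MemLocalIdeal M (f i)) :
    ¬ MemLocalIdeal M (∏ i ∈ s, f i) := by
  classical
  induction s using Finset.induction_on with
  | empty => simpa using not_memLocalIdeal_one
  | insert a s ha ih =>
    rw [Finset.prod_insert ha]
    exact not_memLocalIdeal_mul (h' a (by simp))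
      (memLocalRing_prod s fun i hi => h i (by simp [hi]))
      (ih (fun i hi => h i (by simp [hi])) fun i hi => h' i (by simp [hi]))

theorem not_memLocalIdeal_pow {x : ℂ} (hx : MemLocalRing M x) (hx' : ¬ MemLocalIdeal M x) (n : ℕ) :
    ¬ MemLocalIdeal M (x ^ n) := by
  have := not_memLocalIdeal_prod (M := M) (Finset.range n) (f := fun _ => x) (fun _ _ => hx)
    (fun _ _ => hx')
  simpa using this

theorem memLocalIdeal_of_pow {x : ℂ} (hx : MemLocalRing M x) {n : ℕ}
    (h : MemLocalIdeal M (x ^ n)) : MemLocalIdeal M x := by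
  by_contra hx'
  exact not_memLocalIdeal_pow hx hx' n h

theorem memLocalIdeal_pow {x : ℂ} (hx : MemLocalIdeal M x) {n : ℕ} (hn : n ≠ 0) :
    MemLocalIdeal M (x ^ n) := by
  obtain ⟨k, rfl⟩ := Nat.exists_eq_succ_of_ne_zero hn
  rw [pow_succ]
  exact memLocalIdeal_mul_left (memLocalRing_pow (memLocalRing_of_memLocalIdeal hx) k) hx

theorem memLocalIdeal_mul_sub_mul {x y x' y' : ℂ} (hx : MemLocalRing M x) (hy' : MemLocalRing M y')
    (h₁ : MemLocalIdeal M (x - x')) (h₂ : MemLocalIdeal M (y - y')) :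
    MemLocalIdeal M (x * y - x' * y') := by
  have : x * y - x' * y' = x * (y - y') + (x - x') * y' := by ring
  rw [this]
  exact memLocalIdeal_add (memLocalIdeal_mul_left hx h₂) (memLocalIdeal_mul_right h₁ hy')

theorem memLocalIdeal_pow_sub_pow {x y : ℂ} (hx : MemLocalRing M x)
    (h : MemLocalIdeal M (x - y)) (n : ℕ) : MemLocalIdeal M (x ^ n - y ^ n) := by
  have hy : MemLocalRing M y := (memLocalRing_congr h).1 hx
  induction n with
  | zero => simpa using memLocalIdeal_zero
  | succ n ih =>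
    rw [pow_succ, pow_succ]
    exact memLocalIdeal_mul_sub_mul (memLocalRing_pow hx n) hy ih h

theorem memLocalIdeal_sum_sub_sum {ι : Type*} (s : Finset ι) {f g : ι → ℂ}
    (h : ∀ i ∈ s, MemLocalIdeal M (f i - g i)) :
    MemLocalIdeal M (∑ i ∈ s, f i - ∑ i ∈ s, g i) := by
  rw [← Finset.sum_sub_distrib]
  exact memLocalIdeal_sum s h

/-! ### The ring structure -/

theorem isUnit_locRing_iff {x : locRing M} : IsUnit x ↔ ¬ MemLocalIdeal M (x : ℂ) := by
  constructor
  · rintro ⟨u, rfl⟩ h
    have := memLocalIdeal_mul_right h (u⁻¹ : (locRing M)ˣ).1.2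
    rw [← Subring.coe_mul, Units.mul_inv] at this
    exact not_memLocalIdeal_one this
  · intro h
    refine IsUnit.of_mul_eq_one ⟨(x : ℂ)⁻¹, memLocalRing_inv x.2 h⟩ (Subtype.ext ?_)
    simp [mul_inv_cancel₀ (ne_zero_of_not_memLocalIdeal h)]

instance locRing_isLocalRing : IsLocalRing (locRing M) := by
  refine IsLocalRing.of_isUnit_or_isUnit_one_sub_self fun a => ?_
  by_contra h
  rw [not_or, isUnit_locRing_iff, isUnit_locRing_iff, not_not, not_not] at h
  have := memLocalIdeal_add h.1 h.2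
  simp only [AddSubgroupClass.coe_sub, OneMemClass.coe_one, add_sub_cancel] at this
  exact not_memLocalIdeal_one this

theorem mem_maximalIdeal_locRing {x : locRing M} :
    x ∈ IsLocalRing.maximalIdeal (locRing M) ↔ MemLocalIdeal M (x : ℂ) := by
  rw [IsLocalRing.mem_maximalIdeal, mem_nonunits_iff, isUnit_locRing_iff, not_not]

theorem residue_eq_zero_iff_memLocalIdeal {x : locRing M} :
    IsLocalRing.residue (locRing M) x = 0 ↔ MemLocalIdeal M (x : ℂ) := by
  rw [IsLocalRing.residue_eq_zero_iff, mem_maximalIdeal_locRing]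

theorem residue_eq_iff_memLocalIdeal {x y : locRing M} :
    IsLocalRing.residue (locRing M) x = IsLocalRing.residue (locRing M) y ↔
      MemLocalIdeal M ((x : ℂ) - y) := by
  rw [← sub_eq_zero, ← map_sub, residue_eq_zero_iff_memLocalIdeal]
  rfl

variable (M) in
/-- The inclusion of the algebraic integers in the local ring at `M`. -/
def algIntToLocRing : AlgInt →+* locRing M where
  toFun a := ⟨a, algInt_mem_locRing a⟩
  map_one' := rfl
  map_mul' _ _ := rfl
  map_zero' := rfl
  map_add' _ _ := rfl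

theorem coe_algIntToLocRing (a : AlgInt) : (algIntToLocRing M a : ℂ) = a := rfl

/-- Every local integer is congruent to an algebraic integer. -/
theorem exists_algInt_sub_memLocalIdeal {z : ℂ} (hz : MemLocalRing M z) :
    ∃ a : AlgInt, MemLocalIdeal M (z - a) := by
  obtain ⟨a, b, hb, rfl⟩ := hz
  obtain ⟨c, m, hm, h⟩ := hM.exists_inv hb
  refine ⟨a * c, a * m, b, M.mul_mem_left _ hm, hb, ?_⟩
  have h' : (c : ℂ) * b + m = 1 := by exact_mod_cast congrArg Subtype.val h
  have hb0 := algInt_coe_ne_zero_of_notMem hb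
  simp only [MulMemClass.coe_mul]
  field_simp
  linear_combination (a : ℂ) * h'

open Classical in
variable (M) in
/-- Reduction modulo the local ideal as a total function on `ℂ` (junk value `0` off the ring). -/
noncomputable def red (z : ℂ) : IsLocalRing.ResidueField (locRing M) :=
  if h : z ∈ locRing M then IsLocalRing.residue (locRing M) ⟨z, h⟩ else 0

theorem red_of_mem {z : ℂ} (h : MemLocalRing M z) :
    red M z = IsLocalRing.residue (locRing M) ⟨z, h⟩ := dif_pos h

theorem red_coe (x : locRing M) : red M (x : ℂ) = IsLocalRing.residue (locRing M) x :=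
  red_of_mem x.2

theorem red_zero : red M 0 = 0 := by
  rw [← map_zero (IsLocalRing.residue (locRing M)), ← red_coe]; rfl

theorem red_one : red M 1 = 1 := by
  rw [← map_one (IsLocalRing.residue (locRing M)), ← red_coe]; rfl

theorem red_add {x y : ℂ} (hx : MemLocalRing M x) (hy : MemLocalRing M y) :
    red M (x + y) = red M x + red M y := by
  rw [red_of_mem hx, red_of_mem hy, ← map_add, ← red_coe]; rfl

theorem red_sub {x y : ℂ} (hx : MemLocalRing M x) (hy : MemLocalRing M y) :
    red M (x - y) = red M x - red M y := by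
  rw [red_of_mem hx, red_of_mem hy, ← map_sub, ← red_coe]; rfl

theorem red_neg {x : ℂ} (hx : MemLocalRing M x) : red M (-x) = -red M x := by
  rw [red_of_mem hx, ← map_neg, ← red_coe]; rfl

theorem red_mul {x y : ℂ} (hx : MemLocalRing M x) (hy : MemLocalRing M y) :
    red M (x * y) = red M x * red M y := by
  rw [red_of_mem hx, red_of_mem hy, ← map_mul, ← red_coe]; rfl

theorem red_pow {x : ℂ} (hx : MemLocalRing M x) (n : ℕ) : red M (x ^ n) = red M x ^ n := by
  rw [red_of_mem hx, ← map_pow, ← red_coe]; rfl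

theorem red_natCast (n : ℕ) : red M (n : ℂ) = n := by
  rw [← map_natCast (IsLocalRing.residue (locRing M)), ← red_coe]; rfl

theorem red_intCast (n : ℤ) : red M (n : ℂ) = n := by
  rw [← map_intCast (IsLocalRing.residue (locRing M)), ← red_coe]; rfl

theorem red_sum {ι : Type*} (s : Finset ι) {f : ι → ℂ} (h : ∀ i ∈ s, MemLocalRing M (f i)) :
    red M (∑ i ∈ s, f i) = ∑ i ∈ s, red M (f i) := by
  classical
  induction s using Finset.induction_on with
  | empty => simpa using red_zero
  | insert a s ha ih =>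
    rw [Finset.sum_insert ha, Finset.sum_insert ha, red_add (h a (by simp))
      (memLocalRing_sum s fun i hi => h i (by simp [hi])), ih fun i hi => h i (by simp [hi])]

theorem red_prod {ι : Type*} (s : Finset ι) {f : ι → ℂ} (h : ∀ i ∈ s, MemLocalRing M (f i)) :
    red M (∏ i ∈ s, f i) = ∏ i ∈ s, red M (f i) := by
  classical
  induction s using Finset.induction_on with
  | empty => simpa using red_one
  | insert a s ha ih =>
    rw [Finset.prod_insert ha, Finset.prod_insert ha, red_mul (h a (by simp))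
      (memLocalRing_prod s fun i hi => h i (by simp [hi])), ih fun i hi => h i (by simp [hi])]

theorem red_eq_zero_iff {x : ℂ} (hx : MemLocalRing M x) : red M x = 0 ↔ MemLocalIdeal M x := by
  rw [red_of_mem hx, residue_eq_zero_iff_memLocalIdeal]

theorem red_eq_zero_of_memLocalIdeal {x : ℂ} (hx : MemLocalIdeal M x) : red M x = 0 :=
  (red_eq_zero_iff (memLocalRing_of_memLocalIdeal hx)).2 hx

theorem red_eq_red_iff {x y : ℂ} (hx : MemLocalRing M x) (hy : MemLocalRing M y) :
    red M x = red M y ↔ MemLocalIdeal M (x - y) := by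
  rw [red_of_mem hx, red_of_mem hy, residue_eq_iff_memLocalIdeal]

theorem red_inv {x : ℂ} (hx : MemLocalRing M x) (hx' : ¬ MemLocalIdeal M x) :
    red M x⁻¹ = (red M x)⁻¹ := by
  have h := red_mul hx (memLocalRing_inv hx hx')
  rw [mul_inv_cancel₀ (ne_zero_of_not_memLocalIdeal hx'), red_one] at h
  exact eq_inv_of_mul_eq_one_right h.symm

theorem red_div {x y : ℂ} (hx : MemLocalRing M x) (hy : MemLocalRing M y)
    (hy' : ¬ MemLocalIdeal M y) : red M (x / y) = red M x / red M y := by
  rw [div_eq_mul_inv, red_mul hx (memLocalRing_inv hy hy'), red_inv hy hy', div_eq_mul_inv]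

theorem red_algInt_surjective (t : IsLocalRing.ResidueField (locRing M)) :
    ∃ a : AlgInt, red M (a : ℂ) = t := by
  obtain ⟨x, rfl⟩ := IsLocalRing.residue_surjective t
  obtain ⟨a, ha⟩ := exists_algInt_sub_memLocalIdeal (M := M) x.2
  refine ⟨a, ?_⟩
  rw [← red_coe, eq_comm, red_eq_red_iff x.2 (memLocalRing_algInt a)]
  exact ha

end Basic

end CL.Blocks
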