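import Cfsg.Agent.Base

/-!
# The twisting trick

An abstract vanishing lemma for traces: if `f` is an idempotent commuting with `h`, `w * h = ζ • (h * w)`
with `ζ ≠ 1` and `f * w * f + (1 - f)` is a unit, then every trace function kills `f * h`.
-/

set_option autoImplicit false

namespace CL.Blocks

open Cfsg

/-- For a permutation `σ` there is an integer valued function which goes up by one modulo `p` along `σ`
on all cycles whose length is divisible by `p`. -/
theorem exists_twist_fun {X : Type*} (σ : Equiv.Perm X) (p : ℕ) :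
    ∃ c : X → ℤ, ∀ x, (∀ n : ℤ, (σ ^ n) x = x → (p : ℤ) ∣ n) → (p : ℤ) ∣ c (σ x) - c x - 1 := by
  classical
  let s : Setoid X := Equiv.Perm.SameCycle.setoid σ
  let r : X → X := fun x => Quotient.out (Quotient.mk s x)
  have hr : ∀ x, σ.SameCycle (r x) x := fun x => Quotient.mk_out (s := s) x
  have hrσ : ∀ x, r (σ x) = r x := by
    intro x
    have : Quotient.mk s (σ x) = Quotient.mk s x := by
      apply Quotient.sound
      exact ⟨-1, by simp⟩
    simp only [r, this]
  choose c hc using hr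
  refine ⟨c, fun x hx => hx _ ?_⟩
  have h1 := hc x
  have h2 := hc (σ x)
  rw [hrσ] at h2
  have h3 : (σ ^ (c (σ x) - c x - 1)) ((σ ^ c x) (r x)) = (σ ^ (-1 : ℤ)) ((σ ^ c (σ x)) (r x)) := by
    rw [← Equiv.Perm.mul_apply, ← Equiv.Perm.mul_apply, ← zpow_add, ← zpow_add]
    congr 2
    ring
  rw [h1, h2] at h3
  rw [h3]
  simp

/-- The abstract twisting lemma. -/
theorem trace_eq_zero_of_twist {A : Type*} [Ring A] [Algebra ℂ A] (τ : A →ₗ[ℂ] ℂ)
    (hτ : ∀ a b, τ (a * b) = τ (b * a)) (f h w : A) (ζ : ℂ) (hζ : ζ ≠ 1) (hf : f * f = f)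
    (hfh : f * h = h * f) (hw : w * h = ζ • (h * w)) (hu : IsUnit (f * w * f + (1 - f))) :
    τ (f * h) = 0 := by
  obtain ⟨u, hu⟩ := hu
  have e1 : (1 - f) * (f * h) = 0 := by rw [sub_mul, one_mul, ← mul_assoc, hf, sub_self]
  have e2 : (f * h) * (1 - f) = 0 := by
    rw [mul_sub, mul_one, mul_assoc, ← hfh, ← mul_assoc, hf, sub_self]
  have e3 : f * w * f * (f * h) = ζ • ((f * h) * (f * w * f)) := by
    have a1 : f * w * f * (f * h) = f * (w * h) * f := by
      rw [mul_assoc (f * w) f, ← mul_assoc f f h, hf, hfh]; simp only [mul_assoc]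
    have a2 : (f * h) * (f * w * f) = f * (h * w) * f := by
      rw [← mul_assoc, ← mul_assoc, mul_assoc f h f, ← hfh, ← mul_assoc f f h, hf]
      simp only [mul_assoc]
    rw [a1, a2, hw, mul_smul_comm, smul_mul_assoc]
  have key : (u : A) * (f * h) = ζ • ((f * h) * u) := by
    rw [hu, add_mul, mul_add, e1, e2, add_zero, add_zero, e3]
  have h1 : τ (f * h) = τ ((↑u⁻¹ : A) * ((u : A) * (f * h))) := by
    rw [← mul_assoc, Units.inv_mul, one_mul]
  rw [key, mul_smul_comm, map_smul, hτ (↑u⁻¹ : A), mul_assoc, Units.mul_inv, mul_one,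
    smul_eq_mul] at h1
  have h2 : (1 - ζ) * τ (f * h) = 0 := by rw [sub_mul, one_mul, ← h1, sub_self]
  rcases mul_eq_zero.1 h2 with h3 | h3
  · exact absurd (sub_eq_zero.1 h3).symm hζ
  · exact h3

/-- A matrix congruent to the identity modulo a proper ideal of a subring of `ℂ` is invertible. -/
theorem isUnit_matrix_of_congr {n : Type*} [Fintype n] [DecidableEq n] (R : Subring ℂ) (I : Ideal R)
    (hI : I ≠ ⊤) (A : Matrix n n ℂ)
    (hA : ∀ i j, ∃ r ∈ I, (r : ℂ) = A i j - (1 : Matrix n n ℂ) i j) : IsUnit A := by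
  choose m hm hm' using hA
  let B : Matrix n n R := 1 + Matrix.of m
  have hB : B.map R.subtype = A := by
    ext i j
    simp only [B, Matrix.map_apply, Matrix.add_apply, Matrix.of_apply, map_add]
    rw [show R.subtype (m i j) = (m i j : ℂ) from rfl, hm']
    by_cases hij : i = j
    · subst hij; simp
    · simp [Matrix.one_apply_ne hij]
  have hB2 : B.map (Ideal.Quotient.mk I) = 1 := by
    ext i j
    simp only [B, Matrix.map_apply, Matrix.add_apply, Matrix.of_apply, map_add]
    rw [Ideal.Quotient.eq_zero_iff_mem.2 (hm i j)]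
    by_cases hij : i = j
    · subst hij; simp
    · simp [Matrix.one_apply_ne hij]
  have hdet : Ideal.Quotient.mk I B.det = 1 := by
    rw [RingHom.map_det, RingHom.mapMatrix_apply, hB2, Matrix.det_one]
  rw [Matrix.isUnit_iff_isUnit_det, isUnit_iff_ne_zero, ← hB]
  have : (B.map R.subtype).det = R.subtype B.det := by
    rw [RingHom.map_det, RingHom.mapMatrix_apply]
  rw [this]
  intro h0
  have h1 : B.det = 0 := by
    apply Subtype.ext
    simpa using h0
  rw [h1, map_zero] at hdet
  exact hI (Ideal.Quotient.zero_eq_one_iff.1 hdet)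

/-- An element of the group algebra congruent to `1` modulo a proper ideal of a subring of `ℂ` is a unit. -/
theorem isUnit_monoidAlgebra_of_congr {G : Type*} [Group G] [Finite G] (R : Subring ℂ) (I : Ideal R)
    (hI : I ≠ ⊤) (m : MonoidAlgebra ℂ G) (hm : ∀ g, ∃ r ∈ I, (r : ℂ) = m.coeff g) :
    IsUnit (1 + m) := by
  classical
  have := Fintype.ofFinite G
  let b := MonoidAlgebra.basis G ℂ
  have h1 : IsUnit (Algebra.leftMulMatrix b (1 + m)) := by
    apply isUnit_matrix_of_congr R I hI
    intro i j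
    rw [map_add, map_one, Matrix.add_apply, add_sub_cancel_left, Algebra.leftMulMatrix_eq_repr_mul]
    obtain ⟨r, hr, hr'⟩ := hm (i * j⁻¹)
    refine ⟨r, hr, ?_⟩
    rw [hr']
    change _ = (m * MonoidAlgebra.single j 1).coeff i
    rw [MonoidAlgebra.coeff_mul_single_apply, mul_one]
  rw [← Algebra.lmul_isUnit_iff (R := ℂ)]
  rw [Algebra.leftMulMatrix_apply] at h1
  exact (LinearMap.isUnit_toMatrix_iff (v₁ := b)).1 h1

end CL.Blocks
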