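import Cfsg.Agent.Base
import Cfsg.Agent.Blocks.LocalRing
import Cfsg.Agent.Blocks.TraceTwist
import Cfsg.Agent.Blocks.GroupAlg

/-!
# The group algebra `ℂ[G]` with coefficients in the local ring at `M`

* `IntCoeff M x`, `IdealCoeff M x`: all coefficients are local integers, resp. in the local ideal.
* `1 + m` is a unit when the coefficients of `m` lie in the local ideal.
-/

set_option autoImplicit false

namespace CL.Blocks

open Cfsg MonoidAlgebra

theorem ev_character {G : Type*} [Group G] {V : Type*} [AddCommGroup V] [Module ℂ V]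
    (ρ : Representation ℂ G V) (x : MonoidAlgebra ℂ G) :
    ev ρ.character x = LinearMap.trace ℂ V (ρ.asAlgebraHom x) := by
  induction x using MonoidAlgebra.induction_linear with
  | zero => simp
  | add x y hx hy => simp only [map_add, hx, hy]
  | single g d => simp [Representation.character]

section Coeff

variable {G : Type*} (M : Ideal AlgInt)

/-- All coefficients of `x` are local integers at `M`. -/
def IntCoeff (x : MonoidAlgebra ℂ G) : Prop := ∀ g, MemLocalRing M (x.coeff g)

/-- All coefficients of `x` lie in the local ideal at `M`. -/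
def IdealCoeff (x : MonoidAlgebra ℂ G) : Prop := ∀ g, MemLocalIdeal M (x.coeff g)

variable {M}

theorem IdealCoeff.intCoeff {x : MonoidAlgebra ℂ G} (hx : IdealCoeff M x) : IntCoeff M x :=
  fun g => memLocalRing_of_memLocalIdeal (hx g)

theorem intCoeff_mk [Group G] [Finite G] {z : G → ℂ} : IntCoeff M (mk z) ↔ ∀ g, MemLocalRing M (z g) :=
  Iff.rfl

theorem idealCoeff_mk [Group G] [Finite G] {z : G → ℂ} :
    IdealCoeff M (mk z) ↔ ∀ g, MemLocalIdeal M (z g) := Iff.rfl

variable [hM : M.IsMaximal]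

theorem IntCoeff.zero : IntCoeff M (0 : MonoidAlgebra ℂ G) := fun _ => memLocalRing_zero

theorem IntCoeff.add {x y : MonoidAlgebra ℂ G} (hx : IntCoeff M x) (hy : IntCoeff M y) :
    IntCoeff M (x + y) := fun g => memLocalRing_add (hx g) (hy g)

theorem IntCoeff.sub {x y : MonoidAlgebra ℂ G} (hx : IntCoeff M x) (hy : IntCoeff M y) :
    IntCoeff M (x - y) := fun g => memLocalRing_sub (hx g) (hy g)

theorem IntCoeff.neg {x : MonoidAlgebra ℂ G} (hx : IntCoeff M x) : IntCoeff M (-x) :=
  fun g => memLocalRing_neg (hx g)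

theorem IntCoeff.smul {c : ℂ} (hc : MemLocalRing M c) {x : MonoidAlgebra ℂ G} (hx : IntCoeff M x) :
    IntCoeff M (c • x) := fun g => memLocalRing_mul hc (hx g)

theorem IntCoeff.single (g : G) {c : ℂ} (hc : MemLocalRing M c) :
    IntCoeff M (MonoidAlgebra.single g c) := by
  classical
  intro h
  rw [MonoidAlgebra.coeff_single, Finsupp.single_apply]
  split_ifs
  · exact hc
  · exact memLocalRing_zero

theorem IntCoeff.sum {ι : Type*} (s : Finset ι) {x : ι → MonoidAlgebra ℂ G}
    (hx : ∀ i ∈ s, IntCoeff M (x i)) : IntCoeff M (∑ i ∈ s, x i) :=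
  Finset.sum_induction x (IntCoeff M) (fun _ _ => IntCoeff.add) IntCoeff.zero hx

theorem IdealCoeff.zero : IdealCoeff M (0 : MonoidAlgebra ℂ G) := fun _ => memLocalIdeal_zero

theorem IdealCoeff.add {x y : MonoidAlgebra ℂ G} (hx : IdealCoeff M x) (hy : IdealCoeff M y) :
    IdealCoeff M (x + y) := fun g => memLocalIdeal_add (hx g) (hy g)

theorem IdealCoeff.sub {x y : MonoidAlgebra ℂ G} (hx : IdealCoeff M x) (hy : IdealCoeff M y) :
    IdealCoeff M (x - y) := fun g => memLocalIdeal_sub (hx g) (hy g)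

theorem IdealCoeff.neg {x : MonoidAlgebra ℂ G} (hx : IdealCoeff M x) : IdealCoeff M (-x) :=
  fun g => memLocalIdeal_neg (hx g)

theorem IdealCoeff.smul {c : ℂ} (hc : MemLocalRing M c) {x : MonoidAlgebra ℂ G}
    (hx : IdealCoeff M x) : IdealCoeff M (c • x) := fun g => memLocalIdeal_mul_left hc (hx g)

theorem IntCoeff.smul_ideal {c : ℂ} (hc : MemLocalIdeal M c) {x : MonoidAlgebra ℂ G}
    (hx : IntCoeff M x) : IdealCoeff M (c • x) := fun g => memLocalIdeal_mul_right hc (hx g)

theorem IdealCoeff.single (g : G) {c : ℂ} (hc : MemLocalIdeal M c) :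
    IdealCoeff M (MonoidAlgebra.single g c) := by
  classical
  intro h
  rw [MonoidAlgebra.coeff_single, Finsupp.single_apply]
  split_ifs
  · exact hc
  · exact memLocalIdeal_zero

theorem IdealCoeff.sum {ι : Type*} (s : Finset ι) {x : ι → MonoidAlgebra ℂ G}
    (hx : ∀ i ∈ s, IdealCoeff M (x i)) : IdealCoeff M (∑ i ∈ s, x i) :=
  Finset.sum_induction x (IdealCoeff M) (fun _ _ => IdealCoeff.add) IdealCoeff.zero hx

theorem IntCoeff.ev_mem [Group G] [Finite G] {x : MonoidAlgebra ℂ G} (hx : IntCoeff M x) {θ : G → ℂ}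
    (hθ : ∀ g, MemLocalRing M (θ g)) : MemLocalRing M (ev θ x) := by
  have := Fintype.ofFinite G
  rw [ev_apply]
  exact memLocalRing_sum _ fun g _ => memLocalRing_mul (hx g) (hθ g)

theorem IdealCoeff.ev_mem [Group G] [Finite G] {x : MonoidAlgebra ℂ G} (hx : IdealCoeff M x) {θ : G → ℂ}
    (hθ : ∀ g, MemLocalRing M (θ g)) : MemLocalIdeal M (ev θ x) := by
  have := Fintype.ofFinite G
  rw [ev_apply]
  exact memLocalIdeal_sum _ fun g _ => memLocalIdeal_mul_right (hx g) (hθ g)

variable [Group G]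

theorem IntCoeff.one : IntCoeff M (1 : MonoidAlgebra ℂ G) := IntCoeff.single 1 memLocalRing_one

variable [Finite G]

theorem IntCoeff.mul {x y : MonoidAlgebra ℂ G} (hx : IntCoeff M x) (hy : IntCoeff M y) :
    IntCoeff M (x * y) := by
  have := Fintype.ofFinite G
  intro g
  rw [coeff_mul_left]
  exact memLocalRing_sum _ fun a _ => memLocalRing_mul (hx _) (hy _)

theorem IntCoeff.pow {x : MonoidAlgebra ℂ G} (hx : IntCoeff M x) (n : ℕ) : IntCoeff M (x ^ n) := by
  induction n with
  | zero => rw [pow_zero]; exact IntCoeff.one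
  | succ n ih => rw [pow_succ]; exact ih.mul hx

theorem IdealCoeff.mul_left {x y : MonoidAlgebra ℂ G} (hx : IntCoeff M x) (hy : IdealCoeff M y) :
    IdealCoeff M (x * y) := by
  have := Fintype.ofFinite G
  intro g
  rw [coeff_mul_left]
  exact memLocalIdeal_sum _ fun a _ => memLocalIdeal_mul_left (hx _) (hy _)

theorem IdealCoeff.mul_right {x y : MonoidAlgebra ℂ G} (hx : IdealCoeff M x) (hy : IntCoeff M y) :
    IdealCoeff M (x * y) := by
  have := Fintype.ofFinite G
  intro g
  rw [coeff_mul_left]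
  exact memLocalIdeal_sum _ fun a _ => memLocalIdeal_mul_right (hx _) (hy _)

variable (M G) in
/-- The group ring over the local ring at `M`, as a subring of `ℂ[G]`. -/
def intGrpRing : Subring (MonoidAlgebra ℂ G) where
  carrier := {x | IntCoeff M x}
  mul_mem' := IntCoeff.mul
  one_mem' := IntCoeff.one
  add_mem' := IntCoeff.add
  zero_mem' := IntCoeff.zero
  neg_mem' := IntCoeff.neg

theorem mem_intGrpRing {x : MonoidAlgebra ℂ G} : x ∈ intGrpRing G M ↔ IntCoeff M x := Iff.rfl

theorem IdealCoeff.isUnit_one_add {m : MonoidAlgebra ℂ G} (hm : IdealCoeff M m) : IsUnit (1 + m) :=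
  isUnit_monoidAlgebra_of_congr (locRing M) (IsLocalRing.maximalIdeal (locRing M))
    (IsLocalRing.maximalIdeal.isMaximal _).ne_top m fun g =>
      ⟨⟨m.coeff g, memLocalRing_of_memLocalIdeal (hm g)⟩, mem_maximalIdeal_locRing.2 (hm g), rfl⟩

end Coeff

theorem isUnit_matrix_of_memLocalIdeal {M : Ideal AlgInt} [M.IsMaximal] {n : Type*} [Fintype n]
    [DecidableEq n] (A : Matrix n n ℂ)
    (hA : ∀ i j, MemLocalIdeal M (A i j - (1 : Matrix n n ℂ) i j)) : IsUnit A :=
  isUnit_matrix_of_congr (locRing M) (IsLocalRing.maximalIdeal (locRing M))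
    (IsLocalRing.maximalIdeal.isMaximal _).ne_top A fun i j =>
      ⟨⟨_, memLocalRing_of_memLocalIdeal (hA i j)⟩, mem_maximalIdeal_locRing.2 (hA i j), rfl⟩

end CL.Blocks
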