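import Cfsg.Agent.Blocks.Omega
import Cfsg.Agent.Blocks.TraceGrp

/-!
# The centre `Z(SG)` of the group ring over the local ring `S` at `M`, blocks and Osima's theorem
-/

set_option linter.unusedSectionVars false

namespace CL.Blocks

open Cfsg CL.Char
open scoped MonoidAlgebra ComplexConjugate

variable {G : Type*} [Group G] [Finite G] {M : Ideal AlgInt} [hM : M.IsMaximal]

/-! ### Integrality -/

theorem memLocalRing_char_apply {χ : G → ℂ} (hχ : IsCharacter G χ) (g : G) :
    MemLocalRing M (χ g) := memLocalRing_of_isIntegral (isIntegral_char_apply hχ g)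

theorem memLocalRing_irr_apply (χ : IrrCharacter G) (g : G) :
    MemLocalRing M ((χ : G → ℂ) g) := memLocalRing_of_isIntegral (isIntegral_irr_apply χ g)

theorem memLocalRing_centralChar (χ : IrrCharacter G) (g : G) :
    MemLocalRing M (centralChar (χ : G → ℂ) g) :=
  memLocalRing_of_isIntegral (isIntegral_centralChar χ g)

theorem intCoeff_setSum (X : Set G) : IntCoeff M (setSum ℂ X) := by
  classical
  intro g
  rw [coeff_setSum]
  split_ifs
  · exact memLocalRing_one
  · exact memLocalRing_zero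

theorem intCoeff_classSum (g : G) : IntCoeff M (classSum ℂ g) := intCoeff_setSum _

theorem intCoeff_algebraMap {c : ℂ} (hc : MemLocalRing M c) :
    IntCoeff M (algebraMap ℂ ℂ[G] c) := by
  rw [Algebra.algebraMap_eq_smul_one]
  exact IntCoeff.smul hc IntCoeff.one

omit hM in
theorem IntCoeff.trunc {a : ℂ[G]} (ha : IntCoeff M a) (H : Subgroup G) :
    IntCoeff M (trunc H a) := fun h => ha h

omit hM in
theorem IdealCoeff.trunc {a : ℂ[G]} (ha : IdealCoeff M a) (H : Subgroup G) :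
    IdealCoeff M (trunc H a) := fun h => ha h

theorem IntCoeff.incl {H : Subgroup G} {a : ℂ[H]} (ha : IntCoeff M a) :
    IntCoeff M (incl H a) := by
  intro g
  by_cases hg : g ∈ H
  · rw [coeff_incl_of_mem H a hg]; exact ha _
  · rw [coeff_incl_of_notMem H a hg]; exact memLocalRing_zero

theorem IdealCoeff.incl {H : Subgroup G} {a : ℂ[H]} (ha : IdealCoeff M a) :
    IdealCoeff M (incl H a) := by
  intro g
  by_cases hg : g ∈ H
  · rw [coeff_incl_of_mem H a hg]; exact ha _
  · rw [coeff_incl_of_notMem H a hg]; exact memLocalIdeal_zero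

theorem memLocalRing_om (χ : IrrCharacter G) {a : ℂ[G]} (ha : IsCen a) (hi : IntCoeff M a) :
    MemLocalRing M (om (χ : G → ℂ) a) := by
  have := Fintype.ofFinite (ConjClasses G)
  rw [ha.om_eq_sum (irr_isClassFunction χ.2)]
  exact memLocalRing_sum _ fun c _ => memLocalRing_mul (hi _) (memLocalRing_centralChar χ _)

theorem memLocalIdeal_om (χ : IrrCharacter G) {a : ℂ[G]} (ha : IsCen a) (hi : IdealCoeff M a) :
    MemLocalIdeal M (om (χ : G → ℂ) a) := by
  have := Fintype.ofFinite (ConjClasses G)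
  rw [ha.om_eq_sum (irr_isClassFunction χ.2)]
  exact memLocalIdeal_sum _ fun c _ =>
    memLocalIdeal_mul_right (hi _) (memLocalRing_centralChar χ _)

theorem memLocalRing_inducedCentralChar (H : Subgroup G) (ξ : IrrCharacter H) (g : G) :
    MemLocalRing M (inducedCentralChar H (ξ : H → ℂ) g) := by
  rw [← om_trunc_classSum]
  exact memLocalRing_om ξ ((isCen_classSum g).trunc H) ((intCoeff_classSum g).trunc H)

/-! ### The relation `SameBlock` -/

omit [Finite G] in
theorem sameBlock_refl (χ : G → ℂ) : SameBlock M χ χ := fun _ => memLocalIdeal_sub_self _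

omit [Finite G] in
theorem sameBlock_symm {χ ψ : G → ℂ} (h : SameBlock M χ ψ) : SameBlock M ψ χ :=
  fun g => memLocalIdeal_sub_comm (h g)

omit [Finite G] in
theorem sameBlock_trans {χ ψ φ : G → ℂ} (h₁ : SameBlock M χ ψ) (h₂ : SameBlock M ψ φ) :
    SameBlock M χ φ := fun g => memLocalIdeal_sub_trans (h₁ g) (h₂ g)

omit [Finite G] hM in
theorem mem_blockOf {χ : G → ℂ} {ψ : IrrCharacter G} :
    ψ ∈ blockOf M χ ↔ SameBlock M χ (ψ : G → ℂ) := Iff.rfl

omit [Finite G] in
theorem self_mem_blockOf (χ : IrrCharacter G) : χ ∈ blockOf M (χ : G → ℂ) := sameBlock_refl _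

omit [Finite G] in
theorem blockOf_eq_of_sameBlock {χ ψ : G → ℂ} (h : SameBlock M χ ψ) :
    blockOf M χ = blockOf M ψ :=
  Set.ext fun _ => ⟨fun h1 => sameBlock_trans (sameBlock_symm h) h1, fun h1 => sameBlock_trans h h1⟩

omit [Finite G] in
theorem blockOf_eq_iff {χ : G → ℂ} {ψ : IrrCharacter G} :
    blockOf M χ = blockOf M (ψ : G → ℂ) ↔ SameBlock M χ (ψ : G → ℂ) :=
  ⟨fun h => by rw [← mem_blockOf, h]; exact self_mem_blockOf ψ, blockOf_eq_of_sameBlock⟩

omit [Finite G] hM in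
theorem isPBlock_blockOf (χ : IrrCharacter G) : IsPBlock M (blockOf M (χ : G → ℂ)) := ⟨χ, rfl⟩

omit [Finite G] hM in
theorem isPBlock_blockOf' {χ : G → ℂ} (hχ : IsIrrCharacter G χ) : IsPBlock M (blockOf M χ) :=
  ⟨⟨χ, hχ⟩, rfl⟩

omit [Finite G] hM in
theorem principalBlock_eq : principalBlock M G = blockOf M (irrOne G : G → ℂ) := rfl

omit [Finite G] hM in
theorem isPBlock_principalBlock : IsPBlock M (principalBlock M G) := ⟨irrOne G, rfl⟩

omit [Finite G] in
theorem irrOne_mem_principalBlock : irrOne G ∈ principalBlock M G := self_mem_blockOf (irrOne G)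

omit [Finite G] in
theorem block_nonempty {B : Set (IrrCharacter G)} (hB : IsPBlock M B) : B.Nonempty := by
  obtain ⟨χ, rfl⟩ := hB
  exact ⟨χ, self_mem_blockOf χ⟩

omit [Finite G] in
theorem block_eq_blockOf {B : Set (IrrCharacter G)} (hB : IsPBlock M B) {χ : IrrCharacter G}
    (hχ : χ ∈ B) : B = blockOf M (χ : G → ℂ) := by
  obtain ⟨ψ, rfl⟩ := hB
  exact blockOf_eq_of_sameBlock hχ

omit [Finite G] in
theorem sameBlock_of_mem {B : Set (IrrCharacter G)} (hB : IsPBlock M B) {χ ψ : IrrCharacter G}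
    (hχ : χ ∈ B) (hψ : ψ ∈ B) : SameBlock M (χ : G → ℂ) (ψ : G → ℂ) := by
  rw [block_eq_blockOf hB hχ] at hψ
  exact hψ

omit [Finite G] in
theorem mem_block_of_sameBlock {B : Set (IrrCharacter G)} (hB : IsPBlock M B)
    {χ ψ : IrrCharacter G} (hχ : χ ∈ B) (h : SameBlock M (χ : G → ℂ) (ψ : G → ℂ)) : ψ ∈ B := by
  rw [block_eq_blockOf hB hχ]
  exact h

omit [Finite G] in
theorem mem_block_iff_sameBlock {B : Set (IrrCharacter G)} (hB : IsPBlock M B)
    {χ ψ : IrrCharacter G} (hχ : χ ∈ B) : ψ ∈ B ↔ SameBlock M (χ : G → ℂ) (ψ : G → ℂ) :=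
  ⟨sameBlock_of_mem hB hχ, mem_block_of_sameBlock hB hχ⟩

omit [Finite G] in
theorem block_eq_of_mem {B B' : Set (IrrCharacter G)} (hB : IsPBlock M B) (hB' : IsPBlock M B')
    {χ : IrrCharacter G} (h : χ ∈ B) (h' : χ ∈ B') : B = B' :=
  (block_eq_blockOf hB h).trans (block_eq_blockOf hB' h').symm

omit [Finite G] in
theorem block_disjoint {B B' : Set (IrrCharacter G)} (hB : IsPBlock M B) (hB' : IsPBlock M B')
    (h : B ≠ B') : Disjoint B B' :=
  Set.disjoint_left.2 fun _ h1 h2 => h (block_eq_of_mem hB hB' h1 h2)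

theorem memLocalIdeal_om_sub_of_sameBlock {χ ψ : G → ℂ} (hχ : IsClassFunction G χ)
    (hψ : IsClassFunction G ψ) (h : SameBlock M χ ψ) {a : ℂ[G]} (ha : IsCen a)
    (hi : IntCoeff M a) : MemLocalIdeal M (om χ a - om ψ a) := by
  have := Fintype.ofFinite (ConjClasses G)
  rw [ha.om_eq_sum hχ, ha.om_eq_sum hψ]
  refine memLocalIdeal_sum_sub_sum _ fun c _ => ?_
  rw [← mul_sub]
  exact memLocalIdeal_mul_left (hi _) (h _)

theorem sameBlock_iff_om {χ ψ : IrrCharacter G} :
    SameBlock M (χ : G → ℂ) (ψ : G → ℂ) ↔ ∀ a : ℂ[G], IsCen a → IntCoeff M a →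
      MemLocalIdeal M (om (χ : G → ℂ) a - om (ψ : G → ℂ) a) := by
  refine ⟨fun h a ha hi => memLocalIdeal_om_sub_of_sameBlock (irr_isClassFunction χ.2)
    (irr_isClassFunction ψ.2) h ha hi, fun h g => ?_⟩
  rw [← om_classSum_irr, ← om_classSum_irr]
  exact h _ (isCen_classSum g) (intCoeff_classSum g)

/-- `ω_χ ≡ ω_ψ` on `Z(SG)` for two members of a block. -/
theorem memLocalIdeal_om_sub_of_mem {B : Set (IrrCharacter G)} (hB : IsPBlock M B)
    {χ ψ : IrrCharacter G} (hχ : χ ∈ B) (hψ : ψ ∈ B) {a : ℂ[G]} (ha : IsCen a)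
    (hi : IntCoeff M a) : MemLocalIdeal M (om (χ : G → ℂ) a - om (ψ : G → ℂ) a) :=
  sameBlock_iff_om.1 (sameBlock_of_mem hB hχ hψ) a ha hi

theorem memLocalIdeal_om_iff_of_mem {B : Set (IrrCharacter G)} (hB : IsPBlock M B)
    {χ ψ : IrrCharacter G} (hχ : χ ∈ B) (hψ : ψ ∈ B) {a : ℂ[G]} (ha : IsCen a)
    (hi : IntCoeff M a) :
    MemLocalIdeal M (om (χ : G → ℂ) a) ↔ MemLocalIdeal M (om (ψ : G → ℂ) a) :=
  memLocalIdeal_congr (memLocalIdeal_om_sub_of_mem hB hχ hψ ha hi)

/-! ### Induced blocks in terms of `ω` -/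

theorem memLocalIdeal_om_trunc_sub {H : Subgroup G} {ξ : H → ℂ} {χ : G → ℂ}
    (hχ : IsClassFunction G χ)
    (h : ∀ g, MemLocalIdeal M (inducedCentralChar H ξ g - centralChar χ g)) {a : ℂ[G]}
    (ha : IsCen a) (hi : IntCoeff M a) : MemLocalIdeal M (om ξ (trunc H a) - om χ a) := by
  have := Fintype.ofFinite (ConjClasses G)
  rw [ha.om_trunc_eq_sum, ha.om_eq_sum hχ]
  refine memLocalIdeal_sum_sub_sum _ fun c _ => ?_
  rw [← mul_sub]
  exact memLocalIdeal_mul_left (hi _) (h _)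

/-- If `b^G = B` then `ω_ξ(a|_H) ≡ ω_χ(a)` for `a ∈ Z(SG)`, `ξ ∈ b`, `χ ∈ B`. -/
theorem induced_om_trunc_sub {H : Subgroup G} {b : Set (IrrCharacter H)}
    {B : Set (IrrCharacter G)} (h : IsInducedBlock M H b B) {ξ : IrrCharacter H} (hξ : ξ ∈ b)
    {χ : IrrCharacter G} (hχ : χ ∈ B) {a : ℂ[G]} (ha : IsCen a) (hi : IntCoeff M a) :
    MemLocalIdeal M (om (ξ : H → ℂ) (trunc H a) - om (χ : G → ℂ) a) :=
  memLocalIdeal_om_trunc_sub (irr_isClassFunction χ.2) (h.2.2 ξ hξ χ hχ) ha hi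

theorem memLocalIdeal_inducedCentralChar_sub {H : Subgroup G} {ξ η : IrrCharacter H}
    (h : SameBlock M (ξ : H → ℂ) (η : H → ℂ)) (g : G) :
    MemLocalIdeal M (inducedCentralChar H (ξ : H → ℂ) g - inducedCentralChar H (η : H → ℂ) g) := by
  rw [← om_trunc_classSum, ← om_trunc_classSum]
  exact sameBlock_iff_om.1 h _ ((isCen_classSum g).trunc H) ((intCoeff_classSum g).trunc H)

/-- To see that `b` induces `B` it suffices to test one pair of members. -/
theorem isInducedBlock_of_pair {H : Subgroup G} {b : Set (IrrCharacter H)}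
    {B : Set (IrrCharacter G)} (hb : IsPBlock M b) (hB : IsPBlock M B) {ξ : IrrCharacter H}
    (hξ : ξ ∈ b) {χ : IrrCharacter G} (hχ : χ ∈ B)
    (h : ∀ g, MemLocalIdeal M (inducedCentralChar H (ξ : H → ℂ) g - centralChar (χ : G → ℂ) g)) :
    IsInducedBlock M H b B :=
  ⟨hb, hB, fun _ hη _ hψ g => memLocalIdeal_sub_trans
    (memLocalIdeal_inducedCentralChar_sub (sameBlock_of_mem hb hη hξ) g)
    (memLocalIdeal_sub_trans (h g) (sameBlock_of_mem hB hχ hψ g))⟩

theorem isInducedBlock_of_om {H : Subgroup G} {b : Set (IrrCharacter H)}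
    {B : Set (IrrCharacter G)} (hb : IsPBlock M b) (hB : IsPBlock M B) {ξ : IrrCharacter H}
    (hξ : ξ ∈ b) {χ : IrrCharacter G} (hχ : χ ∈ B)
    (h : ∀ a : ℂ[G], IsCen a → IntCoeff M a →
      MemLocalIdeal M (om (ξ : H → ℂ) (trunc H a) - om (χ : G → ℂ) a)) :
    IsInducedBlock M H b B :=
  isInducedBlock_of_pair hb hB hξ hχ fun g => by
    rw [← om_trunc_classSum, ← om_classSum_irr]
    exact h _ (isCen_classSum g) (intCoeff_classSum g)

/-- The induced block is unique. -/
theorem induced_unique {H : Subgroup G} {b : Set (IrrCharacter H)} {B B' : Set (IrrCharacter G)}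
    (h : IsInducedBlock M H b B) (h' : IsInducedBlock M H b B') : B = B' := by
  obtain ⟨ξ, hξ⟩ := block_nonempty h.1
  obtain ⟨χ, hχ⟩ := block_nonempty h.2.1
  obtain ⟨χ', hχ'⟩ := block_nonempty h'.2.1
  refine block_eq_of_mem h.2.1 h'.2.1 (mem_block_of_sameBlock h.2.1 hχ fun g => ?_) hχ'
  exact memLocalIdeal_sub_trans (memLocalIdeal_sub_comm (h.2.2 ξ hξ χ hχ g))
    (h'.2.2 ξ hξ χ' hχ' g)

/-! ### The commutative ring `Z(SG)` -/

variable (M G) in
/-- The centre of the group ring over the local ring at `M`, inside `ℂ[G]`. -/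
def ZS : Subalgebra (locRing M) ℂ[G] where
  carrier := {a | IsCen a ∧ IntCoeff M a}
  mul_mem' ha hb := ⟨ha.1.mul hb.1, ha.2.mul hb.2⟩
  add_mem' ha hb := ⟨ha.1.add hb.1, ha.2.add hb.2⟩
  algebraMap_mem' s := ⟨isCen_algebraMap (s : ℂ), intCoeff_algebraMap s.2⟩

theorem mem_ZS {a : ℂ[G]} : a ∈ ZS G M ↔ IsCen a ∧ IntCoeff M a := Iff.rfl

theorem ZS.isCen (a : ZS G M) : IsCen (a : ℂ[G]) := a.2.1

theorem ZS.intCoeff (a : ZS G M) : IntCoeff M (a : ℂ[G]) := a.2.2

noncomputable instance instCommRingZS : CommRing (ZS G M) :=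
  { (inferInstance : Ring (ZS G M)) with
    mul_comm := fun a b => Subtype.ext (a.2.1.mul_comm b) }

theorem coe_smul_ZS (s : locRing M) (a : ZS G M) :
    ((s • a : ZS G M) : ℂ[G]) = (s : ℂ) • (a : ℂ[G]) := rfl

theorem coe_algebraMap_ZS (s : locRing M) :
    ((algebraMap (locRing M) (ZS G M) s : ZS G M) : ℂ[G]) = algebraMap ℂ ℂ[G] (s : ℂ) := rfl

variable (M) in
/-- The class sum as an element of `Z(SG)`. -/
noncomputable def classSumZ (g : G) : ZS G M :=
  ⟨classSum ℂ g, isCen_classSum g, intCoeff_classSum g⟩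

theorem coe_classSumZ (g : G) : (classSumZ M g : ℂ[G]) = classSum ℂ g := rfl

theorem ZS.eq_sum_classSumZ [Fintype (ConjClasses G)] (a : ZS G M) :
    a = ∑ c : ConjClasses G, (⟨(a : ℂ[G]).coeff (Quotient.out c), a.2.2 _⟩ : locRing M) •
      classSumZ M (Quotient.out c) := by
  refine Subtype.ext ?_
  rw [AddSubmonoidClass.coe_finsetSum]
  exact a.2.1.eq_sum_classSum

instance instFiniteZS : Module.Finite (locRing M) (ZS G M) := by
  have := Fintype.ofFinite (ConjClasses G)
  refine Module.finite_def.2 (Submodule.fg_def.2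
    ⟨Set.range fun c : ConjClasses G => classSumZ M (Quotient.out c), Set.finite_range _, ?_⟩)
  refine eq_top_iff.2 fun a _ => ?_
  rw [ZS.eq_sum_classSumZ a]
  exact Submodule.sum_mem _ fun c _ => Submodule.smul_mem _ _ (Submodule.subset_span ⟨c, rfl⟩)

variable (M) in
/-- `ω_χ : Z(SG) → S`. -/
noncomputable def omS (χ : IrrCharacter G) : ZS G M →ₐ[locRing M] locRing M where
  toFun a := ⟨om (χ : G → ℂ) a, memLocalRing_om χ a.2.1 a.2.2⟩
  map_one' := Subtype.ext (om_one χ)
  map_mul' a b := Subtype.ext (om_mul χ a.2.1 b)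
  map_zero' := Subtype.ext (om_zero _)
  map_add' _ _ := Subtype.ext (om_add _ _ _)
  commutes' s := Subtype.ext (om_algebraMap χ (s : ℂ))

theorem coe_omS (χ : IrrCharacter G) (a : ZS G M) :
    (omS M χ a : ℂ) = om (χ : G → ℂ) a := rfl

theorem ZS.ext_omS {a b : ZS G M} (h : ∀ χ, omS M χ a = omS M χ b) : a = b :=
  Subtype.ext (a.2.1.eq_of_om b.2.1 fun χ => congrArg Subtype.val (h χ))

variable (M) in
/-- `λ_χ : Z(SG) → S/𝔪`, the reduction of `ω_χ`; it only depends on the block of `χ`. -/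
noncomputable def lam (χ : IrrCharacter G) : ZS G M →+* IsLocalRing.ResidueField (locRing M) :=
  (IsLocalRing.residue (locRing M)).comp (omS M χ : ZS G M →+* locRing M)

theorem lam_apply (χ : IrrCharacter G) (a : ZS G M) :
    lam M χ a = red M (om (χ : G → ℂ) a) := (red_coe (omS M χ a)).symm

theorem lam_eq_zero_iff (χ : IrrCharacter G) (a : ZS G M) :
    lam M χ a = 0 ↔ MemLocalIdeal M (om (χ : G → ℂ) a) :=
  residue_eq_zero_iff_memLocalIdeal

theorem lam_algebraMap (χ : IrrCharacter G) (s : locRing M) :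
    lam M χ (algebraMap (locRing M) (ZS G M) s) = IsLocalRing.residue (locRing M) s := by
  change IsLocalRing.residue _ (omS M χ _) = _
  rw [AlgHom.commutes]; rfl

theorem lam_eq_iff_sameBlock {χ ψ : IrrCharacter G} :
    lam M χ = lam M ψ ↔ SameBlock M (χ : G → ℂ) (ψ : G → ℂ) := by
  rw [sameBlock_iff_om]
  constructor
  · intro h a ha hi
    exact residue_eq_iff_memLocalIdeal.1 (RingHom.congr_fun h ⟨a, ha, hi⟩)
  · intro h
    exact RingHom.ext fun a => residue_eq_iff_memLocalIdeal.2 (h a a.2.1 a.2.2)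

/-- `∏_χ (a - ω_χ(a)) = 0`. -/
theorem prod_sub_omS_eq_zero (a : ZS G M) :
    ∏ χ : IrrCharacter G, (a - algebraMap (locRing M) (ZS G M) (omS M χ a)) = 0 := by
  refine ZS.ext_omS fun ψ => ?_
  rw [map_prod, map_zero]
  refine Finset.prod_eq_zero (Finset.mem_univ ψ) ?_
  rw [map_sub, AlgHom.commutes]
  exact sub_self _

/-- A ring homomorphism from `Z(SG)` to a domain factors through some `ω_χ`. -/
theorem exists_eq_comp_omS {k : Type*} [CommRing k] [IsDomain k] (μ : ZS G M →+* k) :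
    ∃ χ : IrrCharacter G, ∀ a, μ a = μ (algebraMap (locRing M) (ZS G M) (omS M χ a)) := by
  classical
  have hp : (RingHom.ker μ).IsPrime := RingHom.ker_isPrime μ
  have hle : (Finset.univ.inf fun χ : IrrCharacter G =>
      RingHom.ker (omS M χ : ZS G M →+* locRing M)) ≤ RingHom.ker μ := by
    intro a ha
    have : a = 0 := ZS.ext_omS fun χ => by
      rw [map_zero]
      exact (Finset.inf_le (f := fun χ : IrrCharacter G =>
        RingHom.ker (omS M χ : ZS G M →+* locRing M)) (Finset.mem_univ χ)) ha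
    rw [this]
    exact Ideal.zero_mem _
  obtain ⟨χ, -, hχ⟩ := hp.inf_le'.1 hle
  refine ⟨χ, fun a => ?_⟩
  rw [← sub_eq_zero, ← map_sub]
  refine hχ ?_
  change omS M χ _ = 0
  rw [map_sub, AlgHom.commutes]
  exact sub_self _

/-- Every `S`-algebra homomorphism `Z(SG) → S/𝔪` is some `λ_χ`. -/
theorem exists_eq_lam (μ : ZS G M →+* IsLocalRing.ResidueField (locRing M))
    (hμ : ∀ s, μ (algebraMap (locRing M) (ZS G M) s) = IsLocalRing.residue (locRing M) s) :
    ∃ χ : IrrCharacter G, μ = lam M χ := by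
  obtain ⟨χ, hχ⟩ := exists_eq_comp_omS μ
  exact ⟨χ, RingHom.ext fun a => by rw [hχ a, hμ]; rfl⟩

/-- The ideal `𝔪 Z(SG)` of `Z(SG)`. -/
def idealZS (G : Type*) [Group G] [Finite G] (M : Ideal AlgInt) [M.IsMaximal] : Ideal (ZS G M) where
  carrier := {a | IdealCoeff M (a : ℂ[G])}
  add_mem' ha hb := IdealCoeff.add ha hb
  zero_mem' := IdealCoeff.zero
  smul_mem' a _ hb := IdealCoeff.mul_left a.2.2 hb

theorem mem_idealZS {a : ZS G M} : a ∈ idealZS G M ↔ IdealCoeff M (a : ℂ[G]) := Iff.rfl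

theorem algebraMap_mem_idealZS {s : locRing M} (hs : MemLocalIdeal M (s : ℂ)) :
    algebraMap (locRing M) (ZS G M) s ∈ idealZS G M := by
  rw [mem_idealZS, coe_algebraMap_ZS, Algebra.algebraMap_eq_smul_one]
  exact IntCoeff.smul_ideal hs IntCoeff.one

/-- A central integral element all of whose central characters lie in the local ideal is
nilpotent modulo the local ideal. -/
theorem idealCoeff_pow_card {a : ℂ[G]} (ha : IsCen a) (hi : IntCoeff M a)
    (h : ∀ χ : IrrCharacter G, MemLocalIdeal M (om (χ : G → ℂ) a)) :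
    IdealCoeff M (a ^ Fintype.card (IrrCharacter G)) := by
  let z : ZS G M := ⟨a, ha, hi⟩
  have h1 := congrArg (Ideal.Quotient.mk (idealZS G M)) (prod_sub_omS_eq_zero z)
  rw [map_prod, map_zero, Finset.prod_congr rfl (g := fun _ => Ideal.Quotient.mk (idealZS G M) z),
    Finset.prod_const, Finset.card_univ, ← map_pow, Ideal.Quotient.eq_zero_iff_mem] at h1
  · exact h1
  · intro χ _
    have h2 : algebraMap (locRing M) (ZS G M) (omS M χ z) ∈ idealZS G M :=
      algebraMap_mem_idealZS (s := omS M χ z) (h χ)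
    rw [map_sub, Ideal.Quotient.eq_zero_iff_mem.2 h2, sub_zero]

theorem exists_idealCoeff_pow {a : ℂ[G]} (ha : IsCen a) (hi : IntCoeff M a)
    (h : ∀ χ : IrrCharacter G, MemLocalIdeal M (om (χ : G → ℂ) a)) :
    ∃ n : ℕ, 0 < n ∧ IdealCoeff M (a ^ n) :=
  ⟨_, Fintype.card_pos, idealCoeff_pow_card ha hi h⟩

/-- If `ω_χ(a)` vanishes off `A` and is a unit on `A` then `f_A` is a multiple of `a` in `Z(SG)`. -/
theorem exists_mul_eq_idem {a : ℂ[G]} (ha : IsCen a) (hi : IntCoeff M a)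
    {A : Set (IrrCharacter G)} (h1 : ∀ χ ∈ A, ¬ MemLocalIdeal M (om (χ : G → ℂ) a))
    (h0 : ∀ χ ∉ A, om (χ : G → ℂ) a = 0) :
    ∃ c : ℂ[G], IsCen c ∧ IntCoeff M c ∧ a * c = idem A := by
  classical
  let z : ZS G M := ⟨a, ha, hi⟩
  let s : Finset (IrrCharacter G) := Finset.univ.filter (· ∈ A)
  let Q : ZS G M := ∏ χ ∈ s, (z - algebraMap (locRing M) (ZS G M) (omS M χ z))
  let q : locRing M := ∏ χ ∈ s, (-omS M χ z)
  have hq : IsUnit q := by
    refine IsUnit.prod_iff.2 fun χ hχ => IsUnit.neg ?_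
    exact isUnit_locRing_iff.2 (h1 χ (Finset.mem_filter.1 hχ).2)
  have hdvd : z ∣ Q - algebraMap (locRing M) (ZS G M) q := by
    rw [← Ideal.mem_span_singleton, ← Ideal.Quotient.eq_zero_iff_mem, map_sub, sub_eq_zero]
    simp only [Q, q, map_prod, map_sub, map_neg]
    refine Finset.prod_congr rfl fun χ _ => ?_
    rw [Ideal.Quotient.eq_zero_iff_mem.2 (Ideal.mem_span_singleton_self z), zero_sub]
  obtain ⟨d, hd⟩ := hdvd
  obtain ⟨u, hu⟩ := hq
  let c : ZS G M := -(algebraMap (locRing M) (ZS G M) (u⁻¹ : (locRing M)ˣ) * d)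
  refine ⟨c, c.2.1, c.2.2, ?_⟩
  have hzc : z * c = 1 - algebraMap (locRing M) (ZS G M) (u⁻¹ : (locRing M)ˣ) * Q := by
    have h3 : algebraMap (locRing M) (ZS G M) (u⁻¹ : (locRing M)ˣ) *
        algebraMap (locRing M) (ZS G M) q = 1 := by
      rw [← map_mul, ← hu, Units.inv_mul, map_one]
    have h4 : z * c = -(algebraMap (locRing M) (ZS G M) (u⁻¹ : (locRing M)ˣ) * (z * d)) := by
      simp only [c]; ring
    rw [h4, ← hd, mul_sub, h3]; ring
  have key : ∀ χ : IrrCharacter G, omS M χ (z * c) = if χ ∈ A then 1 else 0 := by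
    intro χ
    split_ifs with hχ
    · have : omS M χ Q = 0 := by
        simp only [Q, map_prod]
        refine Finset.prod_eq_zero (i := χ) (by simp [s, hχ]) ?_
        rw [map_sub, AlgHom.commutes]
        exact sub_self _
      rw [hzc, map_sub, map_mul, this, mul_zero, map_one, sub_zero]
    · have : omS M χ z = 0 := Subtype.ext (h0 χ hχ)
      rw [map_mul, this, zero_mul]
  refine eq_idem_of_om (ha.mul c.2.1) (fun χ hχ => ?_) fun χ hχ => ?_
  · have := congrArg Subtype.val (key χ)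
    rw [if_pos hχ] at this
    exact this
  · have := congrArg Subtype.val (key χ)
    rw [if_neg hχ] at this
    exact this

/-- A central integral element that is a unit on the block `B` and vanishes off `B`. -/
theorem exists_separating {B : Set (IrrCharacter G)} (hB : IsPBlock M B) :
    ∃ a : ℂ[G], IsCen a ∧ IntCoeff M a ∧ (∀ χ ∈ B, ¬ MemLocalIdeal M (om (χ : G → ℂ) a)) ∧
      ∀ χ ∉ B, om (χ : G → ℂ) a = 0 := by
  classical
  obtain ⟨χ₀, rfl⟩ := hB
  have hg : ∀ ψ : IrrCharacter G, ∃ g : G, ψ ∉ blockOf M (χ₀ : G → ℂ) →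
      ¬ MemLocalIdeal M (centralChar (χ₀ : G → ℂ) g - centralChar (ψ : G → ℂ) g) := by
    intro ψ
    by_cases h : ψ ∈ blockOf M (χ₀ : G → ℂ)
    · exact ⟨1, fun h' => (h' h).elim⟩
    · obtain ⟨g, hg⟩ := not_forall.1 h
      exact ⟨g, fun _ => hg⟩
  choose g hg using hg
  let s : Finset (IrrCharacter G) := Finset.univ.filter (· ∉ blockOf M (χ₀ : G → ℂ))
  let z : ZS G M := ∏ ψ ∈ s, (classSumZ M (g ψ) -
    algebraMap (locRing M) (ZS G M) (omS M ψ (classSumZ M (g ψ))))
  have hz : ∀ χ : IrrCharacter G, om (χ : G → ℂ) z =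
      ∏ ψ ∈ s, (centralChar (χ : G → ℂ) (g ψ) - centralChar (ψ : G → ℂ) (g ψ)) := by
    intro χ
    rw [← coe_omS]
    simp only [z, map_prod, map_sub, AlgHom.commutes, Algebra.algebraMap_self, RingHom.id_apply,
      SubmonoidClass.coe_finsetProd, AddSubgroupClass.coe_sub, coe_omS, coe_classSumZ,
      om_classSum_irr]
  refine ⟨z, z.2.1, z.2.2, fun χ hχ => ?_, fun χ hχ => ?_⟩
  · rw [hz]
    refine not_memLocalIdeal_prod s (fun ψ _ => memLocalRing_sub (memLocalRing_centralChar χ _)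
      (memLocalRing_centralChar ψ _)) fun ψ hψ h => ?_
    exact hg ψ (Finset.mem_filter.1 hψ).2 (memLocalIdeal_sub_trans (hχ _) h)
  · rw [hz]
    exact Finset.prod_eq_zero (i := χ) (by simp [s, hχ]) (sub_self _)

/-- **Osima's theorem**: block idempotents have local integer coefficients. -/
theorem intCoeff_idem {B : Set (IrrCharacter G)} (hB : IsPBlock M B) : IntCoeff M (idem B) := by
  obtain ⟨a, ha, hi, h1, h0⟩ := exists_separating hB
  obtain ⟨c, -, hc, h⟩ := exists_mul_eq_idem ha hi h1 h0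
  rw [← h]
  exact hi.mul hc

theorem memLocalRing_blockCoeff {B : Set (IrrCharacter G)} (hB : IsPBlock M B) (g : G) :
    MemLocalRing M (blockCoeff B g) := intCoeff_idem hB g

/-- The block idempotent as an element of `Z(SG)`. -/
noncomputable def idemZ {B : Set (IrrCharacter G)} (hB : IsPBlock M B) : ZS G M :=
  ⟨idem B, isCen_idem B, intCoeff_idem hB⟩

theorem coe_idemZ {B : Set (IrrCharacter G)} (hB : IsPBlock M B) :
    (idemZ hB : ℂ[G]) = idem B := rfl

/-- If `ω_χ(a)` is a unit for a member of the block `B`, then `f_B` is a multiple of `a`. -/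
theorem exists_mul_eq_idem_block {B : Set (IrrCharacter G)} (hB : IsPBlock M B) {a : ℂ[G]}
    (ha : IsCen a) (hi : IntCoeff M a) {χ : IrrCharacter G} (hχ : χ ∈ B)
    (h : ¬ MemLocalIdeal M (om (χ : G → ℂ) a)) :
    ∃ c : ℂ[G], IsCen c ∧ IntCoeff M c ∧ a * c = idem B ∧ c * idem B = c := by
  obtain ⟨c, hc, hci, h'⟩ := exists_mul_eq_idem (A := B) (ha.mul (isCen_idem B))
    (hi.mul (intCoeff_idem hB)) (fun ψ hψ => by
      rw [om_mul ψ ha, om_idem_of_mem hψ, mul_one, memLocalIdeal_om_iff_of_mem hB hψ hχ ha hi]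
      exact h) (fun ψ hψ => by rw [om_mul ψ ha, om_idem_of_notMem hψ, mul_zero])
  refine ⟨idem B * c, (isCen_idem B).mul hc, (intCoeff_idem hB).mul hci,
    by rw [← mul_assoc, h'], ?_⟩
  rw [mul_assoc, hc.mul_comm, ← mul_assoc, idem_mul_self]

/-- If `ω_χ(a)` lies in the local ideal for a member of the block `B`, then `a f_B` is nilpotent
modulo the local ideal. -/
theorem exists_idealCoeff_pow_mul_idem {B : Set (IrrCharacter G)} (hB : IsPBlock M B) {a : ℂ[G]}
    (ha : IsCen a) (hi : IntCoeff M a) {χ : IrrCharacter G} (hχ : χ ∈ B)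
    (h : MemLocalIdeal M (om (χ : G → ℂ) a)) :
    ∃ n : ℕ, 0 < n ∧ IdealCoeff M ((a * idem B) ^ n) := by
  refine exists_idealCoeff_pow (ha.mul (isCen_idem B)) (hi.mul (intCoeff_idem hB)) fun ψ => ?_
  rw [om_mul ψ ha]
  by_cases hψ : ψ ∈ B
  · rw [om_idem_of_mem hψ, mul_one, memLocalIdeal_om_iff_of_mem hB hψ hχ ha hi]
    exact h
  · rw [om_idem_of_notMem hψ, mul_zero]
    exact memLocalIdeal_zero

/-- A set of irreducible characters with integral idempotent is a union of blocks. -/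
theorem blockOf_subset_of_intCoeff {A : Set (IrrCharacter G)} (hA : IntCoeff M (idem A))
    {χ : IrrCharacter G} (hχ : χ ∈ A) : blockOf M (χ : G → ℂ) ⊆ A := by
  intro ψ hψ
  by_contra h
  have := sameBlock_iff_om.1 hψ _ (isCen_idem A) hA
  rw [om_idem_of_mem hχ, om_idem_of_notMem h, sub_zero] at this
  exact not_memLocalIdeal_one this

/-- An idempotent with coefficients in the local ideal vanishes. -/
theorem IdealCoeff.eq_zero_of_isIdempotentElem {e : ℂ[G]} (he : IsIdempotentElem e)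
    (h : IdealCoeff M e) : e = 0 := by
  have hu := h.neg.isUnit_one_add
  have : e * (1 + -e) = 0 := by rw [mul_add, mul_one, mul_neg, he.eq, add_neg_cancel]
  exact hu.mul_left_eq_zero.1 this

theorem not_idealCoeff_idem {A : Set (IrrCharacter G)} (hA : A.Nonempty) :
    ¬ IdealCoeff M (idem A) := by
  intro h
  obtain ⟨χ, hχ⟩ := hA
  have := memLocalIdeal_om χ (isCen_idem A) h
  rw [om_idem_of_mem hχ] at this
  exact not_memLocalIdeal_one this

/-- If `ω_χ(a)` is a unit, then on some class both the coefficient of `a` and the central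
character of `χ` are units. -/
theorem exists_coeff_centralChar_of_om {a : ℂ[G]} (ha : IsCen a) (hi : IntCoeff M a)
    {χ : IrrCharacter G} (h : ¬ MemLocalIdeal M (om (χ : G → ℂ) a)) :
    ∃ g : G, ¬ MemLocalIdeal M (a.coeff g) ∧ ¬ MemLocalIdeal M (centralChar (χ : G → ℂ) g) := by
  have := Fintype.ofFinite (ConjClasses G)
  rw [ha.om_eq_sum (irr_isClassFunction χ.2)] at h
  obtain ⟨c, -, hc⟩ := exists_not_memLocalIdeal_of_sum _ h
  exact ⟨Quotient.out c, fun h1 => hc (memLocalIdeal_mul_right h1 (memLocalRing_centralChar χ _)),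
    fun h1 => hc (memLocalIdeal_mul_left (hi _) h1)⟩

/-- Every block has a defect class. -/
theorem exists_isDefectClass {B : Set (IrrCharacter G)} (hB : IsPBlock M B) :
    ∃ g : G, IsDefectClass M B g := by
  obtain ⟨χ, hχ⟩ := block_nonempty hB
  obtain ⟨g, h1, h2⟩ := exists_coeff_centralChar_of_om (isCen_idem B) (intCoeff_idem hB)
    (χ := χ) (by rw [om_idem_of_mem hχ]; exact not_memLocalIdeal_one)
  refine ⟨g, memLocalRing_blockCoeff hB g, h1, fun ψ hψ h => h2 ?_⟩
  exact (memLocalIdeal_congr (sameBlock_of_mem hB hχ hψ g)).2 h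

theorem isDefectClass_of_mem {B : Set (IrrCharacter G)} (hB : IsPBlock M B) {g : G}
    (h1 : ¬ MemLocalIdeal M (blockCoeff B g)) {χ : IrrCharacter G} (hχ : χ ∈ B)
    (h2 : ¬ MemLocalIdeal M (centralChar (χ : G → ℂ) g)) : IsDefectClass M B g :=
  ⟨memLocalRing_blockCoeff hB g, h1,
    fun _ hψ h => h2 ((memLocalIdeal_congr (sameBlock_of_mem hB hχ hψ g)).2 h)⟩

/-! ### Sums over blocks -/

variable (M G) in
/-- The finite set of blocks. -/
noncomputable def blocks : Finset (Set (IrrCharacter G)) :=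
  (Set.toFinite {B : Set (IrrCharacter G) | IsPBlock M B}).toFinset

omit hM in
theorem mem_blocks {B : Set (IrrCharacter G)} : B ∈ blocks G M ↔ IsPBlock M B := by
  simp [blocks]

theorem sum_blocks_ite {β : Type*} [AddCommMonoid β] (χ : IrrCharacter G)
    (f : Set (IrrCharacter G) → β) [∀ B : Set (IrrCharacter G), Decidable (χ ∈ B)] :
    ∑ B ∈ blocks G M, (if χ ∈ B then f B else 0) = f (blockOf M (χ : G → ℂ)) := by
  rw [Finset.sum_eq_single (blockOf M (χ : G → ℂ)), if_pos (self_mem_blockOf χ)]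
  · intro B hB hne
    rw [if_neg fun h => hne (block_eq_blockOf (mem_blocks.1 hB) h)]
  · intro h
    exact (h (mem_blocks.2 (isPBlock_blockOf χ))).elim

theorem sum_blocks_idem : ∑ B ∈ blocks G M, idem B = 1 := by
  classical
  refine (IsCen.sum fun B _ => isCen_idem B).eq_of_om isCen_one fun χ => ?_
  rw [om_sum, om_one]
  simp only [om_idem]
  exact sum_blocks_ite χ fun _ => (1 : ℂ)

theorem sum_irr_eq_sum_blocks {β : Type*} [AddCommMonoid β] (f : IrrCharacter G → β) :
    ∑ χ : IrrCharacter G, f χ = ∑ B ∈ blocks G M, ∑ᶠ χ ∈ B, f χ := by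
  classical
  have : ∀ B : Set (IrrCharacter G), ∑ᶠ χ ∈ B, f χ = ∑ χ, if χ ∈ B then f χ else 0 := by
    intro B
    rw [finsum_mem_eq_finite_toFinset_sum _ (Set.toFinite _), ← Finset.sum_filter]
    exact Finset.sum_congr (by ext; simp) fun _ _ => rfl
  simp only [this]
  rw [Finset.sum_comm]
  exact Finset.sum_congr rfl fun χ _ => (sum_blocks_ite χ fun _ => f χ).symm

end CL.Blocks
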