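import Cfsg.Agent.Blocks.GroupAlg
import Cfsg.Agent.Char.Basic

/-!
# Central characters `ω_χ` on the complex group algebra and the central idempotents

`om χ a = χ(a) / χ(1)`; `idem A = ∑_{χ ∈ A} e_χ` (its coefficients are `Cfsg.blockCoeff A`).
-/

set_option linter.unusedSectionVars false

namespace CL.Blocks

open Cfsg CL.Char
open scoped MonoidAlgebra ComplexConjugate

variable {G : Type*} [Group G]

/-- `ω_χ(a) = χ(a) / χ(1)`. -/
noncomputable def om (χ : G → ℂ) (a : ℂ[G]) : ℂ := ev χ a / χ 1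

theorem om_def (χ : G → ℂ) (a : ℂ[G]) : om χ a = ev χ a / χ 1 := rfl

theorem om_apply [Fintype G] (χ : G → ℂ) (a : ℂ[G]) :
    om χ a = (∑ g, a.coeff g * χ g) / χ 1 := by rw [om, ev_apply]

theorem om_mk [Fintype G] (χ f : G → ℂ) : om χ (mk f) = (∑ g, f g * χ g) / χ 1 := om_apply χ _

theorem om_zero (χ : G → ℂ) : om χ (0 : ℂ[G]) = 0 := by simp [om]

theorem om_add (χ : G → ℂ) (a b : ℂ[G]) : om χ (a + b) = om χ a + om χ b := by
  simp [om, add_div]

theorem om_sub (χ : G → ℂ) (a b : ℂ[G]) : om χ (a - b) = om χ a - om χ b := by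
  simp [om, sub_div]

theorem om_neg (χ : G → ℂ) (a : ℂ[G]) : om χ (-a) = -om χ a := by
  simp [om, neg_div]

theorem om_smul (χ : G → ℂ) (c : ℂ) (a : ℂ[G]) : om χ (c • a) = c * om χ a := by
  simp [om, mul_div_assoc]

theorem om_sum {ι : Type*} (χ : G → ℂ) (s : Finset ι) (f : ι → ℂ[G]) :
    om χ (∑ i ∈ s, f i) = ∑ i ∈ s, om χ (f i) := by
  simp [om, Finset.sum_div]

theorem om_single (χ : G → ℂ) (g : G) (c : ℂ) :
    om χ (MonoidAlgebra.single g c) = c * χ g / χ 1 := by simp [om]

theorem om_one' {χ : G → ℂ} (h : χ 1 ≠ 0) : om χ (1 : ℂ[G]) = 1 := by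
  rw [om, ev_one, div_self h]

theorem om_one (χ : IrrCharacter G) : om (χ : G → ℂ) (1 : ℂ[G]) = 1 :=
  om_one' (irr_apply_one_ne_zero χ.2)

theorem om_algebraMap (χ : IrrCharacter G) (c : ℂ) :
    om (χ : G → ℂ) (algebraMap ℂ ℂ[G] c) = c := by
  rw [Algebra.algebraMap_eq_smul_one, om_smul, om_one, mul_one]

theorem ev_eq_om_mul (χ : IrrCharacter G) (a : ℂ[G]) :
    ev (χ : G → ℂ) a = om (χ : G → ℂ) a * (χ : G → ℂ) 1 := by
  rw [om, div_mul_cancel₀ _ (irr_apply_one_ne_zero χ.2)]

theorem om_incl (H : Subgroup G) (χ : G → ℂ) (a : ℂ[H]) :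
    om χ (incl H a) = om (fun h : H => χ h) a := by
  rw [om, om, ev_incl]; rfl

variable [Finite G]

theorem om_setSum (χ : G → ℂ) (X : Set G) : om χ (setSum ℂ X) = ∑ᶠ x ∈ X, χ x / χ 1 := by
  rw [om, ev_setSum, finsum_mem_eq_finite_toFinset_sum _ (Set.toFinite _),
    finsum_mem_eq_finite_toFinset_sum _ (Set.toFinite _), Finset.sum_div]

theorem om_classSum {χ : G → ℂ} (hχ : IsClassFunction G χ) (g : G) :
    om χ (classSum ℂ g) = centralChar χ g := by
  rw [om, ev_classSum hχ]; rfl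

theorem om_classSum_irr (χ : IrrCharacter G) (g : G) :
    om (χ : G → ℂ) (classSum ℂ g) = centralChar (χ : G → ℂ) g :=
  om_classSum (irr_isClassFunction χ.2) g

theorem om_trunc_classSum (H : Subgroup G) (ξ : H → ℂ) (g : G) :
    om ξ (trunc H (classSum ℂ g)) = inducedCentralChar H ξ g := by
  unfold classSum
  rw [trunc_setSum, om_setSum]; rfl

theorem brauerCentralChar_eq_om (P H : Subgroup G) (ξ : H → ℂ) (g : G) :
    brauerCentralChar P H ξ g = om ξ (setSum ℂ
      {h : H | IsConj g (h : G) ∧ (h : G) ∈ Subgroup.centralizer (P : Set G)}) := by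
  rw [om_setSum]; rfl

theorem centralChar_eq_of_isConj {χ : G → ℂ} (hχ : IsClassFunction G χ) {g h : G}
    (hgh : IsConj g h) : centralChar χ g = centralChar χ h := by
  rw [← om_classSum hχ, ← om_classSum hχ, classSum_eq_of_isConj hgh]

theorem centralChar_one {χ : G → ℂ} (h : χ 1 ≠ 0) : centralChar χ 1 = 1 := by
  have : Subgroup.centralizer ({1} : Set G) = ⊤ := by
    ext x; simp [Subgroup.mem_centralizer_iff]
  simp [centralChar, this, div_self h]

/-- For central `a`, `ω` is determined by the central characters on class representatives. -/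
theorem IsCen.om_eq_sum [Fintype (ConjClasses G)] {a : ℂ[G]} (ha : IsCen a) {χ : G → ℂ}
    (hχ : IsClassFunction G χ) :
    om χ a = ∑ c : ConjClasses G, a.coeff (Quotient.out c) * centralChar χ (Quotient.out c) := by
  conv_lhs => rw [ha.eq_sum_classSum, om_sum]
  simp only [om_smul, om_classSum hχ]

theorem IsCen.om_trunc_eq_sum [Fintype (ConjClasses G)] {a : ℂ[G]} (ha : IsCen a)
    (H : Subgroup G) (ξ : H → ℂ) :
    om ξ (CL.Blocks.trunc H a) =
      ∑ c : ConjClasses G, a.coeff (Quotient.out c) * inducedCentralChar H ξ (Quotient.out c) := by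
  conv_lhs => rw [ha.eq_sum_classSum, map_sum, om_sum]
  simp only [map_smul, om_smul, om_trunc_classSum]

/-- A central element acts as the scalar `ω_χ(a)`. -/
theorem ev_mul_of_isCen (χ : IrrCharacter G) {a : ℂ[G]} (ha : IsCen a) (b : ℂ[G]) :
    ev (χ : G → ℂ) (a * b) = om (χ : G → ℂ) a * ev (χ : G → ℂ) b := by
  have := Fintype.ofFinite G
  induction b using MonoidAlgebra.induction_linear with
  | zero => simp
  | add b c hb hc => rw [mul_add, map_add, map_add, hb, hc, mul_add]
  | single g r =>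
    have : (MonoidAlgebra.single g r : ℂ[G]) = r • MonoidAlgebra.single g (1 : ℂ) := by simp
    rw [this, mul_smul_comm, map_smul, map_smul, ev_mul_single, ev_single, one_mul,
      irr_sum_mul_apply_mul χ.2 (f := fun x => a.coeff x) ha g, om_apply, smul_eq_mul, smul_eq_mul]
    ring

theorem om_mul (χ : IrrCharacter G) {a : ℂ[G]} (ha : IsCen a) (b : ℂ[G]) :
    om (χ : G → ℂ) (a * b) = om (χ : G → ℂ) a * om (χ : G → ℂ) b := by
  rw [om, ev_mul_of_isCen χ ha, mul_div_assoc]; rfl

theorem om_mul' (χ : IrrCharacter G) (a : ℂ[G]) {b : ℂ[G]} (hb : IsCen b) :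
    om (χ : G → ℂ) (a * b) = om (χ : G → ℂ) a * om (χ : G → ℂ) b := by
  rw [← hb.mul_comm, om_mul χ hb, mul_comm]

theorem om_pow (χ : IrrCharacter G) {a : ℂ[G]} (ha : IsCen a) (n : ℕ) :
    om (χ : G → ℂ) (a ^ n) = om (χ : G → ℂ) a ^ n := by
  induction n with
  | zero => rw [pow_zero, pow_zero, om_one]
  | succ n ih => rw [pow_succ', om_mul χ ha, ih, pow_succ']

/-- `ω_χ` as an algebra homomorphism on the centre of the complex group algebra. -/
noncomputable def omHom (χ : IrrCharacter G) : Subalgebra.center ℂ ℂ[G] →ₐ[ℂ] ℂ where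
  toFun a := om (χ : G → ℂ) a
  map_one' := om_one χ
  map_mul' a b := om_mul χ (isCen_iff_mem_center.2 a.2) b
  map_zero' := om_zero _
  map_add' _ _ := om_add _ _ _
  commutes' c := om_algebraMap χ c

theorem omHom_apply (χ : IrrCharacter G) (a : Subalgebra.center ℂ ℂ[G]) :
    omHom χ a = om (χ : G → ℂ) a := rfl

theorem ev_eq_card_mul_classInner [Fintype G] {χ : G → ℂ} (hχ : IsCharacter G χ) (a : ℂ[G]) :
    ev χ a = (Nat.card G : ℂ) * classInner (fun g => a.coeff g⁻¹) χ := by
  rw [classInner_char_right _ hχ, ← mul_assoc, mul_inv_cancel₀ card_ne_zero, one_mul, ev_apply]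
  exact Fintype.sum_equiv (Equiv.inv G) _ _ fun g => by simp

/-- A central element killed by all central characters vanishes. -/
theorem IsCen.eq_zero_of_om {a : ℂ[G]} (ha : IsCen a)
    (h : ∀ χ : IrrCharacter G, om (χ : G → ℂ) a = 0) : a = 0 := by
  have := Fintype.ofFinite G
  have h1 : (fun g => a.coeff g⁻¹) = 0 := by
    refine classFun_eq_zero_of_inner (classFun_inv (φ := fun g => a.coeff g) ha) fun χ hχ => ?_
    have h2 := ev_eq_om_mul ⟨χ, hχ⟩ a
    rw [h, zero_mul, ev_eq_card_mul_classInner (irr_isCharacter hχ), mul_eq_zero] at h2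
    exact h2.resolve_left card_ne_zero
  refine alg_ext fun g => ?_
  simpa using congrFun h1 g⁻¹

theorem IsCen.eq_of_om {a b : ℂ[G]} (ha : IsCen a) (hb : IsCen b)
    (h : ∀ χ : IrrCharacter G, om (χ : G → ℂ) a = om (χ : G → ℂ) b) : a = b :=
  sub_eq_zero.1 <| (ha.sub hb).eq_zero_of_om fun χ => by rw [om_sub, h, sub_self]

/-! ### Integrality -/

theorem map_setSum {R S : Type*} [CommRing R] [CommRing S] (f : R →+* S) (X : Set G) :
    MonoidAlgebra.mapRingHom G f (setSum R X) = setSum S X := by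
  classical
  refine alg_ext fun g => ?_
  rw [MonoidAlgebra.coeff_mapRingHom, coeff_setSum, coeff_setSum]
  split_ifs <;> simp

theorem map_classSum {R S : Type*} [CommRing R] [CommRing S] (f : R →+* S) (g : G) :
    MonoidAlgebra.mapRingHom G f (classSum R g) = classSum S g := map_setSum f _

theorem isIntegral_setSum (X : Set G) : IsIntegral ℤ (setSum ℂ X) := by
  have h1 : IsIntegral ℤ (setSum ℤ X) := IsIntegral.of_finite ℤ _
  rw [← map_setSum (Int.castRingHom ℂ) X]
  exact h1.map (MonoidAlgebra.mapRingHom G (Int.castRingHom ℂ)).toIntAlgHom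

theorem isIntegral_om_of_isIntegral (χ : IrrCharacter G) {a : ℂ[G]} (ha : IsCen a)
    (h : IsIntegral ℤ a) : IsIntegral ℤ (om (χ : G → ℂ) a) := by
  have h1 : IsIntegral ℤ (⟨a, isCen_iff_mem_center.1 ha⟩ : Subalgebra.center ℂ ℂ[G]) :=
    (isIntegral_algHom_iff ((Subalgebra.center ℂ ℂ[G]).val.restrictScalars ℤ)
      Subtype.val_injective).1 h
  exact h1.map ((omHom χ).restrictScalars ℤ)

theorem isIntegral_centralChar (χ : IrrCharacter G) (g : G) :
    IsIntegral ℤ (centralChar (χ : G → ℂ) g) := by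
  rw [← om_classSum_irr]
  exact isIntegral_om_of_isIntegral χ (isCen_classSum g) (isIntegral_setSum _)

theorem isIntegral_om (χ : IrrCharacter G) {a : ℂ[G]} (ha : IsCen a)
    (h : ∀ g, IsIntegral ℤ (a.coeff g)) : IsIntegral ℤ (om (χ : G → ℂ) a) := by
  have := Fintype.ofFinite (ConjClasses G)
  rw [ha.om_eq_sum (irr_isClassFunction χ.2)]
  exact IsIntegral.sum _ fun c _ => (h _).mul (isIntegral_centralChar χ _)

theorem isIntegral_char_apply {χ : G → ℂ} (hχ : IsCharacter G χ) (g : G) :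
    IsIntegral ℤ (χ g) := by
  obtain ⟨s, -, hs, h, -⟩ := char_exists_eigenvalues_nat hχ g
  rw [h]
  refine IsIntegral.multiset_sum fun ζ hζ => ?_
  exact IsIntegral.of_pow (orderOf_pos g) (by rw [hs ζ hζ]; exact isIntegral_one)

theorem isIntegral_irr_apply (χ : IrrCharacter G) (g : G) : IsIntegral ℤ ((χ : G → ℂ) g) :=
  isIntegral_char_apply (irr_isCharacter χ.2) g

theorem conj_irr_apply (χ : IrrCharacter G) (g : G) :
    conj ((χ : G → ℂ) g) = (χ : G → ℂ) g⁻¹ := (char_apply_inv (irr_isCharacter χ.2) g).symm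

omit [Finite G] in
theorem cast_charDegree (χ : IrrCharacter G) :
    (charDegree (χ : G → ℂ) : ℂ) = (χ : G → ℂ) 1 := irr_cast_deg χ.2

omit [Finite G] in
theorem charDegree_pos (χ : IrrCharacter G) : 0 < charDegree (χ : G → ℂ) := irr_deg_pos χ.2

/-! ### Central idempotents -/

theorem blockCoeff_eq_sum (A : Set (IrrCharacter G)) [DecidablePred (· ∈ A)] (g : G) :
    blockCoeff A g = (Nat.card G : ℂ)⁻¹ *
      ∑ χ : IrrCharacter G, if χ ∈ A then (χ : G → ℂ) 1 * (χ : G → ℂ) g⁻¹ else 0 := by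
  rw [blockCoeff, finsum_mem_eq_finite_toFinset_sum _ (Set.toFinite _), ← Finset.sum_filter]
  congr 1
  refine Finset.sum_congr (by ext; simp) fun χ _ => ?_
  rw [conj_irr_apply]

theorem isClassFunction_blockCoeff (A : Set (IrrCharacter G)) :
    IsClassFunction G (blockCoeff A) := by
  classical
  intro g h
  rw [blockCoeff_eq_sum, blockCoeff_eq_sum]
  congr 1
  refine Finset.sum_congr rfl fun χ _ => ?_
  have := classFun_inv (irr_isClassFunction χ.2) g h
  simp only at this
  rw [this]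

theorem blockCoeff_eq_of_isConj (A : Set (IrrCharacter G)) {g h : G} (hgh : IsConj g h) :
    blockCoeff A g = blockCoeff A h := classFun_eq_of_isConj (isClassFunction_blockCoeff A) hgh

/-- The central idempotent `∑_{χ ∈ A} e_χ` of the complex group algebra. -/
noncomputable def idem (A : Set (IrrCharacter G)) : ℂ[G] := mk (blockCoeff A)

@[simp] theorem coeff_idem (A : Set (IrrCharacter G)) (g : G) :
    (idem A).coeff g = blockCoeff A g := rfl

theorem isCen_idem (A : Set (IrrCharacter G)) : IsCen (idem A) := isClassFunction_blockCoeff A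

theorem sum_irr_inv_mul [Fintype G] (ψ χ : IrrCharacter G) [Decidable (ψ = χ)] :
    ∑ g, (ψ : G → ℂ) g⁻¹ * (χ : G → ℂ) g = if ψ = χ then (Nat.card G : ℂ) else 0 := by
  have h := card_mul_classInner (χ : G → ℂ) ψ
  rw [irrChar_inner] at h
  simp only [conj_irr_apply, mul_comm ((χ : G → ℂ) _)] at h
  rw [← h]
  by_cases hh : ψ = χ
  · simp [hh]
  · rw [if_neg hh, if_neg (Ne.symm hh), mul_zero]

theorem om_idem (A : Set (IrrCharacter G)) (χ : IrrCharacter G) [Decidable (χ ∈ A)] :
    om (χ : G → ℂ) (idem A) = if χ ∈ A then 1 else 0 := by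
  classical
  have := Fintype.ofFinite G
  have h1 : ∑ g, blockCoeff A g * (χ : G → ℂ) g =
      (Nat.card G : ℂ)⁻¹ * ∑ ψ : IrrCharacter G, if ψ ∈ A then
        (ψ : G → ℂ) 1 * ∑ g, (ψ : G → ℂ) g⁻¹ * (χ : G → ℂ) g else 0 := by
    simp only [blockCoeff_eq_sum, mul_assoc, ← Finset.mul_sum, Finset.sum_mul]
    congr 1
    rw [Finset.sum_comm]
    refine Finset.sum_congr rfl fun ψ _ => ?_
    split_ifs
    · simp only [Finset.mul_sum, mul_assoc]
    · simp
  rw [idem, om_mk, h1, Finset.sum_eq_single χ]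
  · have h0 : (Nat.card G : ℂ) ≠ 0 := card_ne_zero
    have h2 := irr_apply_one_ne_zero χ.2
    rw [sum_irr_inv_mul, if_pos rfl]
    by_cases hA : χ ∈ A
    · rw [if_pos hA, if_pos hA]; field_simp
    · rw [if_neg hA, if_neg hA]; simp
  · intro ψ _ hψ
    rw [sum_irr_inv_mul, if_neg hψ]; simp
  · simp

theorem om_idem_of_mem {A : Set (IrrCharacter G)} {χ : IrrCharacter G} (h : χ ∈ A) :
    om (χ : G → ℂ) (idem A) = 1 := by
  classical
  rw [om_idem, if_pos h]

theorem om_idem_of_notMem {A : Set (IrrCharacter G)} {χ : IrrCharacter G} (h : χ ∉ A) :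
    om (χ : G → ℂ) (idem A) = 0 := by
  classical
  rw [om_idem, if_neg h]

theorem eq_idem_of_om {a : ℂ[G]} (ha : IsCen a) {A : Set (IrrCharacter G)}
    (h1 : ∀ χ ∈ A, om (χ : G → ℂ) a = 1) (h0 : ∀ χ ∉ A, om (χ : G → ℂ) a = 0) : a = idem A := by
  refine ha.eq_of_om (isCen_idem A) fun χ => ?_
  by_cases h : χ ∈ A
  · rw [h1 χ h, om_idem_of_mem h]
  · rw [h0 χ h, om_idem_of_notMem h]

theorem ev_idem_mul_of_mem {A : Set (IrrCharacter G)} {χ : IrrCharacter G} (h : χ ∈ A)
    (b : ℂ[G]) : ev (χ : G → ℂ) (idem A * b) = ev (χ : G → ℂ) b := by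
  rw [ev_mul_of_isCen χ (isCen_idem A), om_idem_of_mem h, one_mul]

theorem ev_idem_mul_of_notMem {A : Set (IrrCharacter G)} {χ : IrrCharacter G} (h : χ ∉ A)
    (b : ℂ[G]) : ev (χ : G → ℂ) (idem A * b) = 0 := by
  rw [ev_mul_of_isCen χ (isCen_idem A), om_idem_of_notMem h, zero_mul]

theorem idem_mul_idem (A B : Set (IrrCharacter G)) : idem A * idem B = idem (A ∩ B) := by
  refine eq_idem_of_om ((isCen_idem A).mul (isCen_idem B)) (fun χ h => ?_) fun χ h => ?_
  · rw [om_mul χ (isCen_idem A), om_idem_of_mem h.1, om_idem_of_mem h.2, one_mul]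
  · rw [om_mul χ (isCen_idem A)]
    by_cases hA : χ ∈ A
    · rw [om_idem_of_notMem (A := B) fun hB => h ⟨hA, hB⟩, mul_zero]
    · rw [om_idem_of_notMem hA, zero_mul]

theorem idem_mul_self (A : Set (IrrCharacter G)) : idem A * idem A = idem A := by
  rw [idem_mul_idem, Set.inter_self]

theorem isIdempotentElem_idem (A : Set (IrrCharacter G)) : IsIdempotentElem (idem A) :=
  idem_mul_self A

theorem idem_univ : idem (Set.univ : Set (IrrCharacter G)) = 1 :=
  (eq_idem_of_om isCen_one (fun χ _ => om_one χ) fun χ h => (h (Set.mem_univ χ)).elim).symm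

theorem idem_empty : idem (∅ : Set (IrrCharacter G)) = 0 :=
  (eq_idem_of_om isCen_zero (fun _ h => h.elim) fun _ _ => om_zero _).symm

theorem idem_mul_idem_of_disjoint {A B : Set (IrrCharacter G)} (h : Disjoint A B) :
    idem A * idem B = 0 := by
  rw [idem_mul_idem, h.inter_eq, idem_empty]

theorem idem_compl (A : Set (IrrCharacter G)) : idem Aᶜ = 1 - idem A := by
  refine (eq_idem_of_om (isCen_one.sub (isCen_idem A)) (fun χ h => ?_) fun χ h => ?_).symm
  · rw [om_sub, om_one, om_idem_of_notMem h, sub_zero]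
  · rw [om_sub, om_one, om_idem_of_mem (not_not.1 h), sub_self]

theorem idem_union {A B : Set (IrrCharacter G)} (h : Disjoint A B) :
    idem (A ∪ B) = idem A + idem B := by
  refine (eq_idem_of_om ((isCen_idem A).add (isCen_idem B)) (fun χ hχ => ?_) fun χ hχ => ?_).symm
  · rw [om_add]
    rcases hχ with hA | hB
    · rw [om_idem_of_mem hA, om_idem_of_notMem (Set.disjoint_left.1 h hA), add_zero]
    · rw [om_idem_of_mem hB, om_idem_of_notMem (Set.disjoint_right.1 h hB), zero_add]
  · rw [om_add, om_idem_of_notMem fun hA => hχ (Or.inl hA),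
      om_idem_of_notMem fun hB => hχ (Or.inr hB), add_zero]

theorem idem_injective : Function.Injective (idem (G := G)) := by
  intro A B h
  ext χ
  constructor
  · intro hA
    by_contra hB
    have := om_idem_of_mem hA
    rw [h, om_idem_of_notMem hB] at this
    exact zero_ne_one this
  · intro hB
    by_contra hA
    have := om_idem_of_mem hB
    rw [← h, om_idem_of_notMem hA] at this
    exact zero_ne_one this

/-- Spectral decomposition of a central element. -/
theorem IsCen.eq_sum_idem {a : ℂ[G]} (ha : IsCen a) :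
    a = ∑ χ : IrrCharacter G, om (χ : G → ℂ) a • idem {χ} := by
  refine ha.eq_of_om (IsCen.sum fun χ _ => (isCen_idem _).smul _) fun ψ => ?_
  rw [om_sum, Finset.sum_eq_single ψ]
  · rw [om_smul, om_idem_of_mem (Set.mem_singleton ψ), mul_one]
  · intro χ _ hχ
    rw [om_smul, om_idem_of_notMem (fun h => hχ (Set.mem_singleton_iff.1 h).symm), mul_zero]
  · simp

theorem blockCoeff_singleton (χ : IrrCharacter G) (g : G) :
    blockCoeff {χ} g = (Nat.card G : ℂ)⁻¹ * ((χ : G → ℂ) 1 * (χ : G → ℂ) g⁻¹) := by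
  rw [blockCoeff, finsum_mem_singleton, conj_irr_apply]

/-- The coefficients of a central element in terms of its central characters. -/
theorem IsCen.coeff_eq_sum {a : ℂ[G]} (ha : IsCen a) (g : G) :
    a.coeff g = (Nat.card G : ℂ)⁻¹ *
      ∑ χ : IrrCharacter G, om (χ : G → ℂ) a * ((χ : G → ℂ) 1 * (χ : G → ℂ) g⁻¹) := by
  conv_lhs => rw [ha.eq_sum_idem, coeff_sum_apply]
  rw [Finset.mul_sum]
  refine Finset.sum_congr rfl fun χ _ => ?_
  rw [coeff_smul_apply', coeff_idem, blockCoeff_singleton]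
  ring

/-- The coefficient of `1` is a combination of the irreducible characters (for every `a`). -/
theorem coeff_one_eq_sum (a : ℂ[G]) :
    a.coeff 1 = (Nat.card G : ℂ)⁻¹ * ∑ χ : IrrCharacter G, (χ : G → ℂ) 1 * ev (χ : G → ℂ) a := by
  classical
  have := Fintype.ofFinite G
  have h1 : ev (regChar G) a = (Nat.card G : ℂ) * a.coeff 1 := by
    rw [ev_apply, Finset.sum_eq_single 1 (fun g _ hg => by rw [regChar_of_ne hg, mul_zero])
      (by simp), regChar_one, mul_comm]
  rw [regChar_eq_sum, ev_sum_fun] at h1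
  simp only [ev_smul_fun] at h1
  rw [h1, ← mul_assoc, inv_mul_cancel₀ card_ne_zero, one_mul]

theorem idem_eq_sum (A : Set (IrrCharacter G)) [DecidablePred (· ∈ A)] :
    idem A = ∑ χ : IrrCharacter G with χ ∈ A, idem {χ} := by
  rw [(isCen_idem A).eq_sum_idem, Finset.sum_filter]
  refine Finset.sum_congr rfl fun χ _ => ?_
  rw [om_idem]
  split_ifs <;> simp

theorem IsCen.mul_idem_singleton {a : ℂ[G]} (ha : IsCen a) (χ : IrrCharacter G) :
    a * idem {χ} = om (χ : G → ℂ) a • idem {χ} := by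
  refine (ha.mul (isCen_idem _)).eq_of_om ((isCen_idem _).smul _) fun ψ => ?_
  rw [om_mul ψ ha, om_smul]
  by_cases h : ψ = χ
  · rw [h]
  · rw [om_idem_of_notMem (A := {χ}) h, mul_zero, mul_zero]

/-- The degree of an irreducible character divides the group order. -/
theorem charDegree_dvd_card (χ : IrrCharacter G) : charDegree (χ : G → ℂ) ∣ Nat.card G := by
  classical
  have := Fintype.ofFinite G
  have h1 : IsIntegral ℤ (om (χ : G → ℂ) (mk fun g => (χ : G → ℂ) g⁻¹)) :=
    isIntegral_om χ (isCen_mk (classFun_inv (irr_isClassFunction χ.2)))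
      fun g => isIntegral_irr_apply χ g⁻¹
  rw [om_mk, sum_irr_inv_mul, if_pos rfl, ← cast_charDegree] at h1
  have h2 : IsIntegral ℤ ((Nat.card G : ℚ) / (charDegree (χ : G → ℂ) : ℚ)) := by
    rw [← isIntegral_algebraMap_iff (R := ℤ) (A := ℚ) (B := ℂ) (algebraMap ℚ ℂ).injective]
    simpa using h1
  obtain ⟨z, hz⟩ := IsIntegrallyClosed.isIntegral_iff.1 h2
  have h3 : (charDegree (χ : G → ℂ) : ℚ) ≠ 0 := Nat.cast_ne_zero.2 (charDegree_pos χ).ne'
  rw [eq_div_iff h3] at hz
  have h4 : (Nat.card G : ℤ) = charDegree (χ : G → ℂ) * z := by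
    have : ((Nat.card G : ℤ) : ℚ) = ((charDegree (χ : G → ℂ) * z : ℤ) : ℚ) := by
      push_cast
      rw [← hz, mul_comm]
      simp
    exact_mod_cast this
  exact Int.natCast_dvd_natCast.1 ⟨z, h4⟩

end CL.Blocks
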