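import Cfsg.Agent.Base
import Cfsg.Agent.Blocks.LocalRing

/-!
# The local ring at a maximal ideal over `p`: integers, rationals, roots of unity, integrality
-/

set_option autoImplicit false

namespace CL.Blocks

open Cfsg Polynomial

variable {M : Ideal AlgInt} {p : ℕ}

theorem IsPModular.isMaximal (hM : IsPModular p M) : M.IsMaximal := hM.2.1

theorem memLocalIdeal_p (hM : IsPModular p M) : MemLocalIdeal M (p : ℂ) := by
  have := hM.2.1
  exact (memLocalIdeal_algInt (a := (p : AlgInt))).2 hM.2.2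

theorem memLocalIdeal_natCast (hM : IsPModular p M) {n : ℕ} :
    MemLocalIdeal M (n : ℂ) ↔ p ∣ n := by
  have := hM.2.1
  constructor
  · intro h
    by_contra hn
    have hc : IsCoprime (p : ℤ) (n : ℤ) :=
      Nat.isCoprime_iff_coprime.2 ((Nat.Prime.coprime_iff_not_dvd hM.1).2 hn)
    obtain ⟨a, b, hab⟩ := hc
    have h1 : (a : ℂ) * p + b * n = 1 := by exact_mod_cast congrArg (Int.cast : ℤ → ℂ) hab
    apply not_memLocalIdeal_one (M := M)
    rw [← h1]
    exact memLocalIdeal_add (memLocalIdeal_mul_left (memLocalRing_intCast a) (memLocalIdeal_p hM))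
      (memLocalIdeal_mul_left (memLocalRing_intCast b) h)
  · rintro ⟨k, rfl⟩
    push_cast
    exact memLocalIdeal_mul_right (memLocalIdeal_p hM) (memLocalRing_natCast k)

theorem memLocalIdeal_intCast (hM : IsPModular p M) {n : ℤ} :
    MemLocalIdeal M (n : ℂ) ↔ (p : ℤ) ∣ n := by
  have := hM.2.1
  rw [Int.natCast_dvd, ← memLocalIdeal_natCast hM]
  rcases Int.natAbs_eq n with h | h
  · rw [h]; simp
  · rw [h]; simp [memLocalIdeal_neg_iff]

theorem not_memLocalIdeal_natCast (hM : IsPModular p M) {n : ℕ} (hn : ¬ p ∣ n) :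
    ¬ MemLocalIdeal M (n : ℂ) := by
  rwa [memLocalIdeal_natCast hM]

theorem memLocalRing_inv_natCast (hM : IsPModular p M) {n : ℕ} (hn : ¬ p ∣ n) :
    MemLocalRing M (n : ℂ)⁻¹ := by
  have := hM.2.1
  exact memLocalRing_inv (memLocalRing_natCast n) (not_memLocalIdeal_natCast hM hn)

theorem charP_residueField [M.IsMaximal] (hM : IsPModular p M) :
    CharP (IsLocalRing.ResidueField (locRing M)) p := by
  refine ⟨fun n => ?_⟩
  rw [← red_natCast, red_eq_zero_iff (memLocalRing_natCast n), memLocalIdeal_natCast hM]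

theorem p_ne_zero_complex (hM : IsPModular p M) : (p : ℂ) ≠ 0 := by
  exact_mod_cast hM.1.ne_zero

/-- A nonzero natural number is its `p`-part times a unit of the local ring. -/
theorem natCast_eq_pow_mul_unit (hM : IsPModular p M) {n : ℕ} (hn : n ≠ 0) :
    ∃ u : ℕ, ¬ MemLocalIdeal M (u : ℂ) ∧ (n : ℂ) = (p : ℂ) ^ n.factorization p * u := by
  refine ⟨n / p ^ n.factorization p,
    not_memLocalIdeal_natCast hM (Nat.not_dvd_ordCompl hM.1 hn), ?_⟩
  exact_mod_cast (Nat.ordProj_mul_ordCompl_eq_self n p).symm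

theorem memLocalRing_pow_div_pow (hM : IsPModular p M) {a b : ℕ} :
    MemLocalRing M ((p : ℂ) ^ a / (p : ℂ) ^ b) ↔ b ≤ a := by
  have := hM.2.1
  have hp := p_ne_zero_complex hM
  constructor
  · intro h
    by_contra hab
    push Not at hab
    obtain ⟨k, rfl⟩ := Nat.exists_eq_add_of_lt hab
    have h2 := memLocalIdeal_mul_left h (memLocalIdeal_pow (memLocalIdeal_p hM) (n := k + 1) (by simp))
    have h3 : (p : ℂ) ^ a / (p : ℂ) ^ (a + k + 1) * (p : ℂ) ^ (k + 1) = 1 := by
      field_simp
      ring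
    rw [h3] at h2
    exact not_memLocalIdeal_one h2
  · intro h
    obtain ⟨k, rfl⟩ := Nat.exists_eq_add_of_le h
    rw [pow_add, mul_div_cancel_left₀ _ (pow_ne_zero _ hp)]
    exact memLocalRing_pow (memLocalRing_natCast p) k

theorem memLocalIdeal_pow_div_pow (hM : IsPModular p M) {a b : ℕ} :
    MemLocalIdeal M ((p : ℂ) ^ a / (p : ℂ) ^ b) ↔ b < a := by
  have := hM.2.1
  have hp := p_ne_zero_complex hM
  constructor
  · intro h
    have h1 := (memLocalRing_pow_div_pow hM).1 (memLocalRing_of_memLocalIdeal h)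
    refine lt_of_le_of_ne h1 ?_
    rintro rfl
    rw [div_self (pow_ne_zero _ hp)] at h
    exact not_memLocalIdeal_one h
  · intro h
    obtain ⟨k, rfl⟩ := Nat.exists_eq_add_of_lt h
    rw [add_assoc, pow_add, mul_div_cancel_left₀ _ (pow_ne_zero _ hp)]
    exact memLocalIdeal_pow (memLocalIdeal_p hM) (by simp)

/-- A quotient of nonzero naturals is a power of `p` quotient times a unit. -/
theorem natCast_div_natCast_eq (hM : IsPModular p M) {a b : ℕ} (ha : a ≠ 0) (hb : b ≠ 0) :
    ∃ u : ℂ, MemLocalRing M u ∧ ¬ MemLocalIdeal M u ∧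
      (a : ℂ) / (b : ℂ) = (p : ℂ) ^ a.factorization p / (p : ℂ) ^ b.factorization p * u := by
  have := hM.2.1
  obtain ⟨u, hu, ha'⟩ := natCast_eq_pow_mul_unit hM ha
  obtain ⟨v, hv, hb'⟩ := natCast_eq_pow_mul_unit hM hb
  refine ⟨(u : ℂ) / v, memLocalRing_div (memLocalRing_natCast u) (memLocalRing_natCast v) hv, ?_, ?_⟩
  · rw [div_eq_mul_inv]
    exact not_memLocalIdeal_mul hu (memLocalRing_inv (memLocalRing_natCast v) hv)
      (not_memLocalIdeal_inv (memLocalRing_natCast v) (ne_zero_of_not_memLocalIdeal hv))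
  · rw [div_mul_div_comm, ← ha', ← hb']

theorem memLocalRing_natCast_div_natCast (hM : IsPModular p M) {a b : ℕ} (ha : a ≠ 0) (hb : b ≠ 0) :
    MemLocalRing M ((a : ℂ) / (b : ℂ)) ↔ b.factorization p ≤ a.factorization p := by
  have := hM.2.1
  obtain ⟨u, hu, hu', h⟩ := natCast_div_natCast_eq hM ha hb
  rw [h, memLocalRing_mul_unit_iff hu hu', memLocalRing_pow_div_pow hM]

theorem memLocalIdeal_natCast_div_natCast (hM : IsPModular p M) {a b : ℕ} (ha : a ≠ 0)
    (hb : b ≠ 0) :
    MemLocalIdeal M ((a : ℂ) / (b : ℂ)) ↔ b.factorization p < a.factorization p := by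
  have := hM.2.1
  obtain ⟨u, hu, hu', h⟩ := natCast_div_natCast_eq hM ha hb
  rw [h, memLocalIdeal_mul_unit_iff hu hu', memLocalIdeal_pow_div_pow hM]

/-- Dividing by `n` or by its `p`-part is the same for membership in the local ring. -/
theorem memLocalRing_div_natCast_iff (hM : IsPModular p M) {n : ℕ} (hn : n ≠ 0) (z : ℂ) :
    MemLocalRing M (z / n) ↔ MemLocalRing M (z / (p : ℂ) ^ n.factorization p) := by
  have := hM.2.1
  obtain ⟨u, hu, h⟩ := natCast_eq_pow_mul_unit hM hn
  rw [← memLocalRing_mul_unit_iff (memLocalRing_natCast u) hu]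
  have hu0 := ne_zero_of_not_memLocalIdeal hu
  have hp := p_ne_zero_complex hM
  have : z / (n : ℂ) * u = z / (p : ℂ) ^ n.factorization p := by
    conv_lhs => rw [h]
    field_simp
  rw [this]

theorem memLocalIdeal_div_natCast_iff (hM : IsPModular p M) {n : ℕ} (hn : n ≠ 0) (z : ℂ) :
    MemLocalIdeal M (z / n) ↔ MemLocalIdeal M (z / (p : ℂ) ^ n.factorization p) := by
  have := hM.2.1
  obtain ⟨u, hu, h⟩ := natCast_eq_pow_mul_unit hM hn
  rw [← memLocalIdeal_mul_unit_iff (memLocalRing_natCast u) hu]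
  have hu0 := ne_zero_of_not_memLocalIdeal hu
  have hp := p_ne_zero_complex hM
  have : z / (n : ℂ) * u = z / (p : ℂ) ^ n.factorization p := by
    conv_lhs => rw [h]
    field_simp
  rw [this]

/-- An integer that is `p ^ k` times a local integer is divisible by `p ^ k`. -/
theorem pow_dvd_of_memLocalRing_div (hM : IsPModular p M) {n : ℤ} {k : ℕ}
    (h : MemLocalRing M ((n : ℂ) / (p : ℂ) ^ k)) : (p : ℤ) ^ k ∣ n := by
  have := hM.2.1
  rcases eq_or_ne n 0 with rfl | hn
  · simp
  have h1 : MemLocalRing M (((n.natAbs : ℕ) : ℂ) / ((p ^ k : ℕ) : ℂ)) := by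
    rcases Int.natAbs_eq n with h' | h'
    · rw [h'] at h; simpa using h
    · rw [h'] at h
      have := memLocalRing_neg h
      simpa [neg_div] using this
  rw [memLocalRing_natCast_div_natCast hM (Int.natAbs_ne_zero.2 hn) (pow_ne_zero _ hM.1.ne_zero),
    hM.1.factorization_pow, Finsupp.single_eq_same] at h1
  have h2 := (hM.1.pow_dvd_iff_le_factorization (Int.natAbs_ne_zero.2 hn)).2 h1
  have h3 : ((p ^ k : ℕ) : ℤ) ∣ n := Int.natCast_dvd.2 h2
  simpa using h3

/-! ### Roots of unity -/

theorem isIntegral_of_pow_eq_one' {z : ℂ} {n : ℕ} (hn : n ≠ 0) (hz : z ^ n = 1) :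
    IsIntegral ℤ z :=
  IsIntegral.of_pow (Nat.pos_of_ne_zero hn) (hz ▸ isIntegral_one)

theorem memLocalRing_of_pow_eq_one [M.IsMaximal] {z : ℂ} {n : ℕ} (hn : n ≠ 0) (hz : z ^ n = 1) :
    MemLocalRing M z :=
  memLocalRing_of_isIntegral (isIntegral_of_pow_eq_one' hn hz)

theorem not_memLocalIdeal_of_pow_eq_one [M.IsMaximal] {z : ℂ} {n : ℕ} (hn : n ≠ 0)
    (hz : z ^ n = 1) : ¬ MemLocalIdeal M z := fun h => by
  have := memLocalIdeal_pow h hn
  rw [hz] at this
  exact not_memLocalIdeal_one this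

/-- Frobenius is injective modulo the local ideal. -/
theorem memLocalIdeal_sub_of_pow_sub_pow (hM : IsPModular p M) {x y : ℂ} (hx : MemLocalRing M x)
    (hy : MemLocalRing M y) {k : ℕ} (h : MemLocalIdeal M (x ^ p ^ k - y ^ p ^ k)) :
    MemLocalIdeal M (x - y) := by
  have := hM.2.1
  have := charP_residueField hM
  have : Fact p.Prime := ⟨hM.1⟩
  rw [← red_eq_red_iff (memLocalRing_pow hx _) (memLocalRing_pow hy _), red_pow hx, red_pow hy,
    ← sub_eq_zero, ← sub_pow_char_pow, pow_eq_zero_iff (pow_ne_zero _ hM.1.ne_zero),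
    sub_eq_zero] at h
  exact (red_eq_red_iff hx hy).1 h

/-- A root of unity of `p`-power order is congruent to `1`. -/
theorem memLocalIdeal_sub_one_of_pow_eq_one (hM : IsPModular p M) {z : ℂ} {k : ℕ}
    (hz : z ^ p ^ k = 1) : MemLocalIdeal M (z - 1) := by
  have := hM.2.1
  refine memLocalIdeal_sub_of_pow_sub_pow hM (k := k)
    (memLocalRing_of_pow_eq_one (pow_ne_zero _ hM.1.ne_zero) hz) memLocalRing_one ?_
  rw [hz, one_pow, sub_self]
  exact memLocalIdeal_zero

theorem memLocalIdeal_one_sub_of_pow_eq_one (hM : IsPModular p M) {z : ℂ} {k : ℕ}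
    (hz : z ^ p ^ k = 1) : MemLocalIdeal M (1 - z) := by
  have := hM.2.1
  exact memLocalIdeal_sub_comm (memLocalIdeal_sub_one_of_pow_eq_one hM hz)

/-- Roots of unity of order prime to `p` stay distinct modulo the local ideal. -/
theorem eq_of_pow_eq_one_of_memLocalIdeal_sub (hM : IsPModular p M) {z w : ℂ} {m : ℕ}
    (hm : ¬ p ∣ m) (hz : z ^ m = 1) (hw : w ^ m = 1) (h : MemLocalIdeal M (z - w)) : z = w := by
  have := hM.2.1
  have := charP_residueField hM
  have hm0 : m ≠ 0 := by
    rintro rfl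
    exact hm (dvd_zero p)
  by_contra hne
  have h1 := Commute.geom_sum₂_mul (Commute.all z w) m
  rw [hz, hw, sub_self, mul_eq_zero, sub_eq_zero, or_iff_left hne] at h1
  have hz' := memLocalRing_of_pow_eq_one (M := M) hm0 hz
  have hw' := memLocalRing_of_pow_eq_one (M := M) hm0 hw
  have h2 := congrArg (red M) h1
  rw [red_sum _ (fun i _ => memLocalRing_mul (memLocalRing_pow hz' _) (memLocalRing_pow hw' _)),
    red_zero] at h2
  have h3 : red M z = red M w := (red_eq_red_iff hz' hw').2 h
  have h4 : ∀ i ∈ Finset.range m, red M (z ^ i * w ^ (m - 1 - i)) = red M w ^ (m - 1) := by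
    intro i hi
    rw [red_mul (memLocalRing_pow hz' _) (memLocalRing_pow hw' _), red_pow hz', red_pow hw', h3,
      ← pow_add]
    congr 1
    have := Finset.mem_range.1 hi
    omega
  rw [Finset.sum_congr rfl h4, Finset.sum_const, Finset.card_range, nsmul_eq_mul, mul_eq_zero,
    CharP.cast_eq_zero_iff _ p] at h2
  rcases h2 with h2 | h2
  · exact hm h2
  · have h6 : red M w = 0 := eq_zero_of_pow_eq_zero h2
    exact not_memLocalIdeal_of_pow_eq_one hm0 hw ((red_eq_zero_iff hw').1 h6)

/-! ### Integrality -/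

section Integral

variable [hM : M.IsMaximal]

omit hM in
theorem isAlgebraic_of_memLocalRing {z : ℂ} (hz : MemLocalRing M z) : IsAlgebraic ℤ z := by
  obtain ⟨a, b, -, rfl⟩ := hz
  have ha : IsAlgebraic ℤ (a : ℂ) := IsIntegral.isAlgebraic a.2
  have hb : IsAlgebraic ℤ (b : ℂ) := IsIntegral.isAlgebraic b.2
  rw [div_eq_mul_inv]
  exact ha.mul hb.inv

/-- The local ring is integrally closed in `ℂ`. -/
theorem memLocalRing_of_isIntegral_locRing {z : ℂ} (hz : IsIntegral (locRing M) z) :
    MemLocalRing M z := by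
  let _ : Algebra AlgInt (locRing M) := (algIntToLocRing M).toAlgebra
  have : IsScalarTower AlgInt (locRing M) ℂ := IsScalarTower.of_algebraMap_eq fun _ => rfl
  have : IsLocalization M.primeCompl (locRing M) := by
    rw [isLocalization_iff]
    refine ⟨fun y => ?_, fun w => ?_, fun {x y} h => ⟨1, ?_⟩⟩
    · rw [isUnit_locRing_iff]
      exact fun h => y.2 (memLocalIdeal_algInt.1 h)
    · obtain ⟨a, b, hb, h⟩ := w.2
      refine ⟨(a, ⟨b, hb⟩), Subtype.ext ?_⟩
      change (w : ℂ) * (b : ℂ) = a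
      rw [← h, div_mul_cancel₀ _ (algInt_coe_ne_zero_of_notMem hb)]
    · have : x = y := Subtype.ext (congrArg (fun t : locRing M => (t : ℂ)) h)
      rw [this]
  obtain ⟨m, hm⟩ := IsIntegral.exists_multiple_integral_of_isLocalization M.primeCompl z hz
  have hm' : IsIntegral ℤ (m • z) := isIntegral_trans _ hm
  refine ⟨⟨_, hm'⟩, m, m.2, ?_⟩
  change ((m : AlgInt) : ℂ) * z / ((m : AlgInt) : ℂ) = z
  rw [mul_div_cancel_left₀ _ (algInt_coe_ne_zero_of_notMem m.2)]

theorem memLocalRing_of_pow {z : ℂ} {n : ℕ} (hn : n ≠ 0) (hz : MemLocalRing M (z ^ n)) :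
    MemLocalRing M z :=
  memLocalRing_of_isIntegral_locRing (IsIntegral.of_pow (Nat.pos_of_ne_zero hn)
    (isIntegral_algebraMap (R := locRing M) (x := ⟨_, hz⟩)))

/-- A root of a monic polynomial with local integer coefficients is a local integer. -/
theorem memLocalRing_of_monic {z : ℂ} {f : ℂ[X]} (hf : f.Monic)
    (hc : ∀ i, MemLocalRing M (f.coeff i)) (hz : f.eval z = 0) : MemLocalRing M z := by
  have hl : f ∈ Polynomial.lifts (locRing M).subtype := by
    rw [lifts_iff_coeff_lifts]
    exact fun n => ⟨⟨_, hc n⟩, rfl⟩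
  obtain ⟨q, hq, -, hqm⟩ := lifts_and_natDegree_eq_and_monic hl hf
  refine memLocalRing_of_isIntegral_locRing ⟨q, hqm, ?_⟩
  rw [← hq, eval_map] at hz
  exact hz

/-- The `u, u⁻¹` lemma. -/
theorem memLocalRing_or_inv_of_sum (z : ℂ) (n : ℕ) : ∀ (a : ℕ → ℂ),
    (∀ i, MemLocalRing M (a i)) → (∃ i ≤ n, ¬ MemLocalIdeal M (a i)) →
    ∑ i ∈ Finset.range (n + 1), a i * z ^ i = 0 → MemLocalRing M z ∨ MemLocalRing M z⁻¹ := by
  induction n with
  | zero =>
    rintro a - ⟨i, hi, h⟩ h0
    obtain rfl : i = 0 := by omega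
    simp only [zero_add, Finset.range_one, Finset.sum_singleton, pow_zero, mul_one] at h0
    exact absurd (h0 ▸ memLocalIdeal_zero) h
  | succ n ih =>
    rintro a ha ⟨i, hi, h⟩ h0
    -- `a (n + 1) * z` is integral
    have hint : MemLocalRing M (a (n + 1) * z) := by
      refine memLocalRing_of_monic (f := X ^ (n + 1) +
        ∑ i ∈ Finset.range (n + 1), C (a i * a (n + 1) ^ (n - i)) * X ^ i) ?_ ?_ ?_
      · refine monic_X_pow_add ?_
        refine lt_of_le_of_lt (degree_sum_le _ _) ?_
        refine (Finset.sup_lt_iff (by simp)).2 fun i hi => ?_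
        refine lt_of_le_of_lt (degree_C_mul_X_pow_le _ _) ?_
        exact_mod_cast Finset.mem_range.1 hi
      · intro j
        rw [coeff_add, finsetSum_coeff]
        refine memLocalRing_add ?_ (memLocalRing_sum _ fun i _ => ?_)
        · rw [coeff_X_pow]
          split_ifs
          exacts [memLocalRing_one, memLocalRing_zero]
        · rw [coeff_C_mul_X_pow]
          split_ifs
          exacts [memLocalRing_mul (ha _) (memLocalRing_pow (ha _) _), memLocalRing_zero]
      · rw [Finset.sum_range_succ] at h0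
        rw [eval_add, eval_finsetSum, eval_pow, eval_X]
        have : ∀ i ∈ Finset.range (n + 1), eval (a (n + 1) * z)
            (C (a i * a (n + 1) ^ (n - i)) * X ^ i) = a (n + 1) ^ n * (a i * z ^ i) := by
          intro i hi
          obtain ⟨k, rfl⟩ := Nat.exists_eq_add_of_le (Nat.lt_succ_iff.1 (Finset.mem_range.1 hi))
          simp only [eval_mul, eval_C, eval_pow, eval_X, add_tsub_cancel_left]
          ring
        rw [Finset.sum_congr rfl this, ← Finset.mul_sum]
        linear_combination a (n + 1) ^ n * h0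
    by_cases h1 : MemLocalIdeal M (a (n + 1))
    · by_cases h2 : MemLocalIdeal M (a (n + 1) * z)
      · refine ih (Function.update a n (a n + a (n + 1) * z)) ?_ ?_ ?_
        · intro j
          rcases eq_or_ne j n with rfl | hj
          · rw [Function.update_self]
            exact memLocalRing_add (ha _) hint
          · rw [Function.update_of_ne hj]
            exact ha j
        · have hi' : i ≤ n := by
            rcases Nat.lt_or_eq_of_le hi with hi | rfl
            · omega
            · exact absurd h1 h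
          refine ⟨i, hi', ?_⟩
          rcases eq_or_ne i n with rfl | hj
          · rw [Function.update_self]
            intro h3
            exact h (by simpa using memLocalIdeal_sub h3 h2)
          · rwa [Function.update_of_ne hj]
        · rw [Finset.sum_range_succ, Finset.sum_range_succ] at h0
          rw [Finset.sum_range_succ, Function.update_self, Finset.sum_congr rfl (fun j hj => by
            rw [Function.update_of_ne (Finset.mem_range.1 hj).ne])]
          linear_combination h0
      · right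
        have hz : z ≠ 0 := by
          rintro rfl
          exact h2 (by simpa using memLocalIdeal_zero)
        have ha0 : a (n + 1) ≠ 0 := by
          intro h3
          exact h2 (by simpa [h3] using memLocalIdeal_zero)
        have := memLocalRing_div (ha (n + 1)) hint h2
        rwa [div_mul_cancel_left₀ ha0] at this
    · left
      rw [mul_comm] at hint
      exact (memLocalRing_mul_unit_iff (ha _) h1).1 hint

end Integral

/-- The local ring at `M` is a valuation ring of the field of algebraic numbers. -/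
theorem memLocalRing_or_inv (hM : IsPModular p M) {z : ℂ} (hz : IsAlgebraic ℤ z) :
    MemLocalRing M z ∨ MemLocalRing M z⁻¹ := by
  have := hM.2.1
  obtain ⟨f, hf0, hf⟩ := hz
  have hc : (f.content : ℂ) ≠ 0 := by
    exact_mod_cast fun h => hf0 (content_eq_zero_iff.1 h)
  have hg : aeval z f.primPart = 0 := by
    rw [f.eq_C_content_mul_primPart, map_mul, aeval_C] at hf
    exact (mul_eq_zero.1 hf).resolve_left hc
  refine memLocalRing_or_inv_of_sum z f.primPart.natDegree (fun i => (f.primPart.coeff i : ℂ))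
    (fun i => memLocalRing_intCast _) ?_ ?_
  · by_contra h
    push Not at h
    have h1 : C (p : ℤ) ∣ f.primPart := by
      rw [C_dvd_iff_dvd_coeff]
      intro i
      by_cases hi : i ≤ f.primPart.natDegree
      · exact (memLocalIdeal_intCast hM).1 (h i hi)
      · rw [coeff_eq_zero_of_natDegree_lt (not_le.1 hi)]
        exact dvd_zero _
    have h2 := f.isPrimitive_primPart _ h1
    rw [Int.isUnit_iff_natAbs_eq, Int.natAbs_natCast] at h2
    exact hM.1.one_lt.ne' h2
  · rw [aeval_eq_sum_range] at hg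
    simpa [zsmul_eq_mul] using hg

/-- Of two local integers one divides the other. -/
theorem memLocalRing_div_or (hM : IsPModular p M) {x y : ℂ} (hx : IsAlgebraic ℤ x)
    (hy : IsAlgebraic ℤ y) : MemLocalRing M (x / y) ∨ MemLocalRing M (y / x) := by
  have h : IsAlgebraic ℤ (x / y) := by
    rw [div_eq_mul_inv]
    exact hx.mul hy.inv
  simpa using memLocalRing_or_inv hM h

/-- An algebraic number outside the local ring has its inverse in the local ideal. -/
theorem memLocalIdeal_inv_of_not_memLocalRing (hM : IsPModular p M) {z : ℂ} (hz : IsAlgebraic ℤ z)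
    (h : ¬ MemLocalRing M z) : MemLocalIdeal M z⁻¹ := by
  have := hM.2.1
  by_contra h'
  exact h (by simpa using memLocalRing_inv ((memLocalRing_or_inv hM hz).resolve_left h) h')

theorem valuationRing_locRing [M.IsMaximal] (hM : IsPModular p M) : ValuationRing (locRing M) := by
  have : PreValuationRing (locRing M) := ⟨fun a b => by
    rcases eq_or_ne a 0 with rfl | ha
    · exact ⟨0, Or.inr (by simp)⟩
    rcases eq_or_ne b 0 with rfl | hb
    · exact ⟨0, Or.inl (by simp)⟩
    have ha' : (a : ℂ) ≠ 0 := fun h => ha (Subtype.ext h)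
    have hb' : (b : ℂ) ≠ 0 := fun h => hb (Subtype.ext h)
    rcases memLocalRing_div_or hM (isAlgebraic_of_memLocalRing a.2)
      (isAlgebraic_of_memLocalRing b.2) with h | h
    · exact ⟨⟨_, h⟩, Or.inr (Subtype.ext (by simp [mul_div_cancel₀ _ hb']))⟩
    · exact ⟨⟨_, h⟩, Or.inl (Subtype.ext (by simp [mul_div_cancel₀ _ ha']))⟩⟩
  exact {}

/-- The residue field of the local ring at `M` is algebraically closed. -/
theorem isAlgClosed_residueField [M.IsMaximal] :
    IsAlgClosed (IsLocalRing.ResidueField (locRing M)) := by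
  refine IsAlgClosed.of_exists_root _ fun f hf hirr => ?_
  have hl : f ∈ Polynomial.lifts (IsLocalRing.residue (locRing M)) := by
    rw [lifts_iff_coeff_lifts]
    exact fun n => IsLocalRing.residue_surjective _
  obtain ⟨q, hq, hd, hqm⟩ := lifts_and_natDegree_eq_and_monic hl hf
  have hdeg : (q.map (locRing M).subtype).degree ≠ 0 := by
    rw [hqm.degree_map, degree_eq_natDegree hqm.ne_zero, hd]
    exact_mod_cast hirr.natDegree_pos.ne'
  obtain ⟨z, hz⟩ := IsAlgClosed.exists_root _ hdeg
  have hz' : MemLocalRing M z := by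
    refine memLocalRing_of_isIntegral_locRing ⟨q, hqm, ?_⟩
    rw [IsRoot, eval_map] at hz
    exact hz
  refine ⟨IsLocalRing.residue _ ⟨z, hz'⟩, ?_⟩
  rw [← hq, eval_map, eval₂_at_apply]
  have : eval ⟨z, hz'⟩ q = 0 := by
    apply Subtype.ext
    rw [IsRoot, eval_map] at hz
    rw [← (locRing M).coe_subtype, ← eval₂_at_apply]
    exact hz
  rw [this, map_zero]

/-- Every nonzero residue is a root of unity of order prime to `p`. -/
theorem exists_pow_eq_one_residueField [M.IsMaximal] (hM : IsPModular p M)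
    {t : IsLocalRing.ResidueField (locRing M)} (ht : t ≠ 0) : ∃ m : ℕ, ¬ p ∣ m ∧ t ^ m = 1 := by
  have := charP_residueField hM
  have : Fact p.Prime := ⟨hM.1⟩
  let _ : Algebra (ZMod p) (IsLocalRing.ResidueField (locRing M)) := ZMod.algebra _ p
  obtain ⟨a, rfl⟩ := red_algInt_surjective t
  have h2 : IsIntegral (ZMod p) (red M (a : ℂ)) := by
    obtain ⟨f, hf, hf0⟩ : IsIntegral ℤ a := Algebra.IsIntegral.isIntegral a
    refine ⟨f.map (Int.castRingHom (ZMod p)), hf.map _, ?_⟩
    have h3 := congrArg ((IsLocalRing.residue (locRing M)).comp (algIntToLocRing M)) hf0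
    rw [hom_eval₂, map_zero] at h3
    rw [eval₂_map, ← h3]
    congr 1
    · exact RingHom.ext_int _ _
    · exact red_coe (algIntToLocRing M a)
  let K := IntermediateField.adjoin (ZMod p) {red M (a : ℂ)}
  have : FiniteDimensional (ZMod p) K := IntermediateField.adjoin.finiteDimensional h2
  have : Finite K := Module.finite_of_finite (ZMod p)
  let _ : Fintype K := Fintype.ofFinite K
  obtain ⟨n, -, hn⟩ := FiniteField.card K p
  let x : K := ⟨red M (a : ℂ), IntermediateField.mem_adjoin_simple_self _ _⟩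
  have hx : x ≠ 0 := fun h => ht (congrArg Subtype.val h)
  refine ⟨Fintype.card K - 1, ?_, congrArg Subtype.val (FiniteField.pow_card_sub_one_eq_one x hx)⟩
  rw [hn]
  intro h
  have h3 : p ∣ p ^ (n : ℕ) := dvd_pow_self p n.ne_zero
  have h4 : 1 ≤ p ^ (n : ℕ) := Nat.one_le_pow _ _ hM.1.pos
  have h5 := (Nat.dvd_sub_iff_right h4 h3).1 h
  exact hM.1.one_lt.ne' (Nat.dvd_one.1 h5)

/-- Every local unit is congruent to a root of unity of order prime to `p`. -/
theorem exists_rootOfUnity_sub_memLocalIdeal (hM : IsPModular p M) {z : ℂ}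
    (hz : MemLocalRing M z) (hz' : ¬ MemLocalIdeal M z) :
    ∃ (ε : ℂ) (m : ℕ), ¬ p ∣ m ∧ ε ^ m = 1 ∧ MemLocalIdeal M (z - ε) := by
  have := hM.2.1
  obtain ⟨m, hm, h⟩ := exists_pow_eq_one_residueField hM
    (t := red M z) (by rwa [Ne, red_eq_zero_iff hz])
  have hm0 : m ≠ 0 := by
    rintro rfl
    exact hm (dvd_zero p)
  have h1 : MemLocalIdeal M (z ^ m - 1) := by
    rw [← red_eq_red_iff (memLocalRing_pow hz m) memLocalRing_one, red_pow hz, red_one, h]
  have hζ := Complex.isPrimitiveRoot_exp m hm0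
  have h2 := congrArg (eval z) (X_pow_sub_one_eq_prod (Nat.pos_of_ne_zero hm0) hζ)
  simp only [eval_sub, eval_pow, eval_X, eval_one, eval_prod, eval_C] at h2
  rw [h2] at h1
  by_contra hc
  push Not at hc
  refine not_memLocalIdeal_prod _ (fun ε hε => ?_) (fun ε hε => ?_) h1
  · exact memLocalRing_sub hz (memLocalRing_of_pow_eq_one hm0
      ((mem_nthRootsFinset (Nat.pos_of_ne_zero hm0) 1).1 hε))
  · exact hc ε m hm ((mem_nthRootsFinset (Nat.pos_of_ne_zero hm0) 1).1 hε)

/-- There is a maximal ideal of the algebraic integers over every prime. -/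
theorem exists_isPModular (hp : p.Prime) : ∃ M : Ideal AlgInt, IsPModular p M := by
  have hne : Ideal.span {(p : AlgInt)} ≠ ⊤ := by
    rw [Ne, Ideal.span_singleton_eq_top]
    rintro ⟨u, hu⟩
    have h1 : ((u⁻¹ : AlgIntˣ) : AlgInt) * (p : AlgInt) = 1 := by rw [← hu, Units.inv_mul]
    have h2 : (((u⁻¹ : AlgIntˣ) : AlgInt) : ℂ) * (p : ℂ) = 1 := by
      exact_mod_cast congrArg Subtype.val h1
    have hp0 : (p : ℂ) ≠ 0 := by exact_mod_cast hp.ne_zero
    have h3 : (((u⁻¹ : AlgIntˣ) : AlgInt) : ℂ) = algebraMap ℚ ℂ ((p : ℚ)⁻¹) := by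
      rw [eq_inv_of_mul_eq_one_left h2]
      simp
    have h4 : IsIntegral ℤ (algebraMap ℚ ℂ ((p : ℚ)⁻¹)) := h3 ▸ ((u⁻¹ : AlgIntˣ) : AlgInt).2
    rw [isIntegral_algebraMap_iff (algebraMap ℚ ℂ).injective, IsIntegrallyClosed.isIntegral_iff] at h4
    obtain ⟨y, hy⟩ := h4
    have h5 : (y : ℚ) * p = 1 := by
      have : (p : ℚ) ≠ 0 := by exact_mod_cast hp.ne_zero
      rw [show (y : ℚ) = (p : ℚ)⁻¹ from hy, inv_mul_cancel₀ this]
    have h6 : y * p = 1 := by exact_mod_cast h5
    have h7 : (p : ℤ) ∣ 1 := Dvd.intro_left y h6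
    exact hp.one_lt.ne' (Nat.dvd_one.1 (Int.natCast_dvd_natCast.1 h7))
  obtain ⟨M, hM, h⟩ := Ideal.exists_le_maximal _ hne
  exact ⟨M, hp, hM, h (Ideal.mem_span_singleton_self _)⟩

end CL.Blocks
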