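import Cfsg.Agent.Base
import Cfsg.Agent.Blocks.TraceGrp
import Cfsg.Agent.Blocks.LocalRingP
import Cfsg.Agent.Auto.ACL_Blocks_mk_47f532

/-!
# Vanishing of traces by twisting with `p`-th roots of unity
-/

set_option autoImplicit false

namespace CL.Blocks

open Cfsg MonoidAlgebra

variable {p : ℕ} {M : Ideal AlgInt}

/-- The twisting function with values in the `p`-th roots of unity. -/
theorem exists_twist_root (hM : IsPModular p M) {X : Type*} (σ : Equiv.Perm X) :
    ∃ (ζ : ℂ) (d : X → ℂ), ζ ≠ 1 ∧ ζ ≠ 0 ∧ (∀ x, MemLocalIdeal M (d x - 1)) ∧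
      ∀ x, (∀ n : ℤ, (σ ^ n) x = x → (p : ℤ) ∣ n) → d (σ x) = ζ * d x := by
  have hp := hM.1
  obtain ⟨c, hc⟩ := exists_twist_fun σ p
  have hζ := Complex.isPrimitiveRoot_exp p hp.ne_zero
  set ζ := Complex.exp (2 * Real.pi * Complex.I / p)
  have hζ0 : ζ ≠ 0 := hζ.ne_zero hp.ne_zero
  refine ⟨ζ, fun x => ζ ^ c x, hζ.ne_one hp.one_lt, hζ0, fun x => ?_, fun x hx => ?_⟩
  · apply memLocalIdeal_sub_one_of_pow_eq_one hM (k := 1)
    rw [pow_one, ← zpow_natCast, ← zpow_mul, mul_comm, zpow_mul, zpow_natCast, hζ.pow_eq_one, one_zpow]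
  · obtain ⟨k, hk⟩ := hc x hx
    have : c (σ x) = 1 + c x + p * k := by linear_combination hk
    simp only
    rw [this, zpow_add₀ hζ0, zpow_add₀ hζ0, zpow_mul, zpow_natCast, hζ.pow_eq_one, one_zpow,
      mul_one, zpow_one]

/-- Twisting lemma for matrices: if `E` is an idempotent matrix over the local ring which is invariant
under a permutation `σ` all of whose cycles have length divisible by `p`, then the trace of `σ` on
the image of `E` vanishes. -/
theorem trace_twist_matrix (hM : IsPModular p M) {X : Type*} [Fintype X] [DecidableEq X]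
    (E : Matrix X X ℂ) (hE : ∀ i j, MemLocalRing M (E i j)) (hEE : E * E = E) (σ : Equiv.Perm X)
    (hcomm : ∀ i j, E (σ i) (σ j) = E i j) (hσ : ∀ x, ∀ n : ℤ, (σ ^ n) x = x → (p : ℤ) ∣ n) :
    ∑ x, E x (σ x) = 0 := by
  have := hM.2.1
  obtain ⟨ζ, d, hζ1, -, hd1, hd⟩ := exists_twist_root hM σ
  let P : Matrix X X ℂ := Matrix.of fun i j => if i = σ j then 1 else 0
  have hEP : ∀ i j, (E * P) i j = E i (σ j) := by
    intro i j
    simp [P, Matrix.mul_apply]
  have hPE : ∀ i j, (P * E) i j = E (σ⁻¹ i) j := by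
    intro i j
    simp only [P, Matrix.mul_apply, Matrix.of_apply]
    rw [Finset.sum_eq_single (σ⁻¹ i)]
    · simp
    · intro b _ hb
      rw [if_neg, zero_mul]
      rintro rfl
      exact hb (by simp)
    · simp
  have h := trace_eq_zero_of_twist (Matrix.traceLinearMap X ℂ ℂ) (fun a b => Matrix.trace_mul_comm a b)
    E P (Matrix.diagonal d) ζ hζ1 hEE ?_ ?_ ?_
  · simpa [Matrix.trace, hEP] using h
  · ext i j
    rw [hEP, hPE, ← hcomm (σ⁻¹ i) j]
    simp
  · ext i j
    simp only [P, Matrix.diagonal_mul, Matrix.mul_diagonal, Matrix.smul_apply, Matrix.of_apply,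
      smul_eq_mul]
    split_ifs with hij
    · rw [hij, hd j (hσ j)]; ring
    · simp
  · apply isUnit_matrix_of_memLocalIdeal (M := M)
    intro i j
    have : E * Matrix.diagonal d * E + (1 - E) - 1 = E * Matrix.diagonal (fun x => d x - 1) * E := by
      have : Matrix.diagonal (fun x => d x - 1) = Matrix.diagonal d - 1 := by
        rw [← Matrix.diagonal_one, Matrix.diagonal_sub]
      rw [this, mul_sub, sub_mul, mul_one, hEE]
      abel
    rw [← Matrix.sub_apply, this, Matrix.mul_apply]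
    refine memLocalIdeal_sum _ fun k _ => memLocalIdeal_mul_right ?_ (hE _ _)
    rw [Matrix.mul_diagonal]
    exact memLocalIdeal_mul_left (hE _ _) (hd1 k)

/-- Twisting lemma for the group algebra.  `φ` is an algebra map out of `ℂ[G]` (typically a
representation), `τ` a trace function on the target; `a`, `w` have integral coefficients, `φ a` is an
idempotent commuting with `h`; `w` commutes with `h` and is supported on elements whose orbits under
conjugation by `h` have length divisible by `p`, and `φ a * (1 - φ w) * φ a` is the image of an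
element with coefficients in the local ideal.  Then `τ (φ (a * h)) = 0`. -/
theorem trace_twist_monoidAlgebra (hM : IsPModular p M) {G : Type*} [Group G] [Finite G]
    {A : Type*} [Ring A] [Algebra ℂ A] (φ : MonoidAlgebra ℂ G →ₐ[ℂ] A) (τ : A →ₗ[ℂ] ℂ)
    (hτ : ∀ a b, τ (a * b) = τ (b * a)) (a w m : MonoidAlgebra ℂ G) (h : G)
    (ha : IntCoeff M a) (hw : IntCoeff M w) (hm : IdealCoeff M m)
    (haa : φ a * φ a = φ a) (hah : φ a * φ (single h 1) = φ (single h 1) * φ a)
    (hwh : ∀ g, w.coeff (h * g * h⁻¹) = w.coeff g)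
    (hsupp : ∀ g, w.coeff g ≠ 0 → ∀ n : ℤ, h ^ n * g = g * h ^ n → (p : ℤ) ∣ n)
    (heq : φ a * (1 - φ w) * φ a = φ m) : τ (φ (a * single h 1)) = 0 := by
  have := hM.2.1
  let σ : Equiv.Perm G := (MulAut.conj h).toEquiv
  have hσn : ∀ (n : ℤ) (g : G), (σ ^ n) g = h ^ n * g * (h ^ n)⁻¹ := by
    intro n g
    have : σ ^ n = (MulAut.conj (h ^ n)).toEquiv := by
      rw [map_zpow]
      exact (map_zpow (MulAut.toPerm G) (MulAut.conj h) n).symm
    rw [this]
    rfl
  obtain ⟨ζ, d, hζ1, hζ0, hd1, hd⟩ := exists_twist_root hM σ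
  let w' : MonoidAlgebra ℂ G := mk fun g => d g * w.coeff g
  have hw' : IdealCoeff M (w' - w) := by
    intro g
    have : (w' - w).coeff g = (d g - 1) * w.coeff g := by
      simp only [w', MonoidAlgebra.coeff_sub, Finsupp.sub_apply, coeff_mk]; ring
    rw [this]
    exact memLocalIdeal_mul_right (hd1 g) (hw g)
  rw [map_mul]
  refine trace_eq_zero_of_twist τ hτ (φ a) (φ (single h 1)) (φ w') ζ hζ1 haa hah ?_ ?_
  · rw [← map_mul, ← map_mul, ← map_smul]
    congr 1
    ext g
    simp only [w', MonoidAlgebra.coeff_mul_single_apply, MonoidAlgebra.coeff_single_mul_apply,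
      MonoidAlgebra.coeff_smul, Finsupp.smul_apply, coeff_mk, mul_one, one_mul, smul_eq_mul]
    have e : g * h⁻¹ = h * (h⁻¹ * g) * h⁻¹ := by group
    rw [e, hwh]
    by_cases h0 : w.coeff (h⁻¹ * g) = 0
    · rw [h0]; simp
    · have := hd (h⁻¹ * g) fun n hn => hsupp _ h0 n (by
        rw [hσn] at hn
        exact mul_inv_eq_iff_eq_mul.1 hn)
      change d (h * (h⁻¹ * g) * h⁻¹) = _ at this
      rw [this, mul_assoc]
  · have h1 : IsUnit (1 + (a * (w' - w) * a - m)) :=
      IdealCoeff.isUnit_one_add (M := M) (((hw'.mul_left ha).mul_right ha).sub hm)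
    have h2 := h1.map φ
    convert h2 using 1
    rw [map_add, map_one, map_sub, ← heq, map_mul, map_mul, map_sub]
    have : φ a * 1 * φ a = φ a := by rw [mul_one, haa]
    rw [mul_sub, sub_mul, mul_sub, sub_mul, this]
    abel

/-- If `n` is prime to `p`, an element commuting with `g ^ n` commutes with the `p`-part of `g`. -/
theorem isPPart_mem_zpowers_zpow (hp : p.Prime) {G : Type*} [Group G] [Finite G] {g x : G}
    (hx : IsPPart p g x) {n : ℤ} (hn : ¬ (p : ℤ) ∣ n) : ∃ k : ℤ, (g ^ n) ^ k = x := by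
  obtain ⟨y, rfl, hxy, ⟨k, hk⟩, hy⟩ := hx
  have hcop : IsCoprime ((p : ℤ) ^ k) (n * orderOf y) := by
    apply IsCoprime.pow_left
    have hpz : Prime (p : ℤ) := Nat.prime_iff_prime_int.1 hp
    apply IsCoprime.mul_right
    · exact (hpz.irreducible.coprime_iff_not_dvd).2 hn
    · exact (hpz.irreducible.coprime_iff_not_dvd).2 (by exact_mod_cast hy)
  obtain ⟨u, v, huv⟩ := hcop
  refine ⟨orderOf y * v, ?_⟩
  rw [← zpow_mul, hxy.mul_zpow]
  have h1 : y ^ (n * (orderOf y * v)) = 1 := by
    rw [mul_left_comm, zpow_mul, zpow_natCast, pow_orderOf_eq_one, one_zpow]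
  have h2 : n * (orderOf y * v) = 1 - (orderOf x : ℤ) * u := by
    rw [hk]; push_cast; linear_combination huv
  rw [h1, mul_one, h2, zpow_sub, zpow_mul, zpow_natCast, pow_orderOf_eq_one, one_zpow]
  simp

end CL.Blocks
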