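import Cfsg.Agent.Base
import Cfsg.Agent.Blocks.TraceVanish
import Cfsg.Agent.Blocks.Omega

/-!
# Block orthogonality

For a set `A` of irreducible characters whose idempotent has coefficients in the local ring
(for instance a block, or a union of blocks, by Osima's theorem).
-/

set_option autoImplicit false

namespace CL.Blocks

open Cfsg CL.Char
open scoped ComplexConjugate

variable {p : ℕ} {M : Ideal AlgInt} {G : Type*} [Group G] [Finite G]

theorem finsum_mem_irr_eq_sum {α : Type*} [AddCommMonoid α] (A : Set (IrrCharacter G))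
    [DecidablePred (· ∈ A)] (f : IrrCharacter G → α) :
    ∑ᶠ χ ∈ A, f χ = ∑ χ : IrrCharacter G, if χ ∈ A then f χ else 0 := by
  rw [finsum_mem_eq_finite_toFinset_sum _ (Set.toFinite _), ← Finset.sum_filter]
  exact Finset.sum_congr (by ext; simp) fun _ _ => rfl

omit [Finite G] in
/-- If some conjugates of `g ^ n` and `h ^ n` agree for an `n` prime to `p`, the `p`-parts of `g` and `h`
are conjugate. -/
theorem isConj_pPart_of_isConj_zpow (hp : p.Prime) {g h x y : G} (hx : IsPPart p g x)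
    (hy : IsPPart p h y) {n : ℤ} (hn : ¬ (p : ℤ) ∣ n) (hc : IsConj (g ^ n) (h ^ n)) :
    IsConj x y := by
  obtain ⟨x', rfl, hxx, ⟨k, hk⟩, hx'⟩ := hx
  obtain ⟨y', rfl, hyy, ⟨l, hl⟩, hy'⟩ := hy
  have hcop : IsCoprime ((p : ℤ) ^ (k + l)) (n * (orderOf x' * orderOf y')) := by
    apply IsCoprime.pow_left
    have hpz : Prime (p : ℤ) := Nat.prime_iff_prime_int.1 hp
    refine IsCoprime.mul_right ((hpz.irreducible.coprime_iff_not_dvd).2 hn) (IsCoprime.mul_right ?_ ?_)
    · exact (hpz.irreducible.coprime_iff_not_dvd).2 (by exact_mod_cast hx')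
    · exact (hpz.irreducible.coprime_iff_not_dvd).2 (by exact_mod_cast hy')
  obtain ⟨u, v, huv⟩ := hcop
  have key : ∀ (a b : G) (j : ℕ) (c : ℤ), Commute a b → orderOf a ∣ p ^ (k + l) →
      (orderOf x' * orderOf y' : ℤ) = orderOf b * c →
      ((a * b) ^ n) ^ ((orderOf x' * orderOf y' : ℤ) * v) = a := by
    intro a b j c hab ha hb
    rw [← zpow_mul, hab.mul_zpow]
    have h1 : b ^ (n * ((orderOf x' * orderOf y' : ℤ) * v)) = 1 := by
      rw [hb, show n * (orderOf b * c * v) = orderOf b * (n * c * v) by ring, zpow_mul, zpow_natCast,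
        pow_orderOf_eq_one, one_zpow]
    have h2 : n * ((orderOf x' * orderOf y' : ℤ) * v) = 1 - ((p ^ (k + l) : ℕ) : ℤ) * u := by
      push_cast; linear_combination huv
    rw [h1, mul_one, h2, zpow_sub, zpow_mul, zpow_natCast, orderOf_dvd_iff_pow_eq_one.1 ha, one_zpow]
    simp
  have e1 := key x x' k (orderOf y') hxx (by rw [hk]; exact pow_dvd_pow _ (by omega)) rfl
  have e2 := key y y' l (orderOf x') hyy (by rw [hl]; exact pow_dvd_pow _ (by omega)) (mul_comm _ _)
  obtain ⟨c, hc⟩ := isConj_iff.1 hc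
  rw [← e1, ← e2, ← hc, conj_zpow]
  exact isConj_iff.2 ⟨c, rfl⟩

/-- Block orthogonality for a set of characters with integral idempotent. -/
theorem sum_mul_inv_eq_zero_of_pPart (hM : IsPModular p M) {A : Set (IrrCharacter G)}
    (hA : ∀ g, MemLocalRing M (blockCoeff A g)) {g h x y : G} (hx : IsPPart p g x)
    (hy : IsPPart p h y) (hxy : ¬ IsConj x y) :
    ∑ᶠ χ ∈ A, (χ : G → ℂ) g * (χ : G → ℂ) h⁻¹ = 0 := by
  classical
  have := Fintype.ofFinite G
  let E : Matrix G G ℂ := Matrix.of fun i j => blockCoeff A (i * j⁻¹)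
  let σ : Equiv.Perm G := Equiv.mulLeft g * Equiv.mulRight h⁻¹
  have hσ : ∀ a, σ a = g * (a * h⁻¹) := fun a => rfl
  have hσn : ∀ (n : ℤ) (a : G), (σ ^ n) a = g ^ n * (a * (h ^ n)⁻¹) := by
    intro n a
    have hc : Commute (Equiv.mulLeft g) (Equiv.mulRight h⁻¹) := by
      ext b; simp [mul_assoc]
    simp only [σ]
    rw [hc.mul_zpow, Equiv.zpow_mulLeft, Equiv.zpow_mulRight]
    simp
  have h1 := trace_twist_matrix hM E (fun i j => hA _) ?_ σ ?_ ?_
  · have h2 : ∀ a, E a (σ a) = (Nat.card G : ℂ)⁻¹ * ∑ χ : IrrCharacter G,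
        if χ ∈ A then (χ : G → ℂ) 1 * (χ : G → ℂ) (g * (a * h⁻¹ * a⁻¹)) else 0 := by
      intro a
      simp only [E, Matrix.of_apply, blockCoeff_eq_sum, hσ]
      congr 1
      refine Finset.sum_congr rfl fun χ _ => ?_
      congr 3
      group
    simp only [h2, ← Finset.mul_sum] at h1
    rw [Finset.sum_comm] at h1
    rw [finsum_mem_irr_eq_sum]
    refine Eq.trans ?_ h1
    rw [Finset.mul_sum]
    refine Finset.sum_congr rfl fun χ _ => ?_
    split_ifs
    · rw [← Finset.mul_sum, irr_sum_mul_conj χ.2]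
      have h0 : (Nat.card G : ℂ) ≠ 0 := card_ne_zero
      have h3 := irr_apply_one_ne_zero χ.2
      field_simp
    · simp
  · ext i j
    have := congrArg (fun z : MonoidAlgebra ℂ G => z.coeff (i * j⁻¹)) (idem_mul_self A)
    simp only [coeff_mul_left, coeff_idem] at this
    simp only [E, Matrix.mul_apply, Matrix.of_apply]
    rw [← this]
    refine Fintype.sum_equiv ((Equiv.inv G).trans (Equiv.mulLeft i)) _ _ fun k => ?_
    simp [mul_assoc]
  · intro i j
    simp only [E, Matrix.of_apply, hσ]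
    rw [← isClassFunction_blockCoeff A (i * j⁻¹) g]
    congr 1
    group
  · intro a n hn
    by_contra hpn
    apply hxy
    refine isConj_pPart_of_isConj_zpow hM.1 hx hy hpn (isConj_iff.2 ⟨a⁻¹, ?_⟩)
    rw [hσn] at hn
    calc a⁻¹ * g ^ n * a⁻¹⁻¹ = a⁻¹ * (g ^ n * (a * (h ^ n)⁻¹)) * h ^ n := by group
      _ = h ^ n := by rw [hn]; group

omit [Finite G] in
theorem isPPart_one_of_not_dvd {g : G} (hg : ¬ p ∣ orderOf g) : IsPPart p g 1 :=
  ⟨g, one_mul g, Commute.one_left g, ⟨0, by simp⟩, hg⟩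

/-- Every element has a `p`-part. -/
theorem exists_isPPart_tr (hp : p.Prime) (g : G) : ∃ x, IsPPart p g x := by
  set n := orderOf g with hn
  have hn0 : n ≠ 0 := (orderOf_pos g).ne'
  set a := p ^ n.factorization p
  set b := n / a
  have hab : a * b = n := Nat.mul_div_cancel' (Nat.ordProj_dvd n p)
  have hb : ¬ p ∣ b := Nat.not_dvd_ordCompl hp hn0
  have hcop : IsCoprime (a : ℤ) (b : ℤ) :=
    Nat.isCoprime_iff_coprime.2 (((Nat.Prime.coprime_iff_not_dvd hp).2 hb).pow_left _)
  obtain ⟨u, v, huv⟩ := hcop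
  refine ⟨g ^ (v * b), g ^ (u * a), by rw [← zpow_add, add_comm, huv, zpow_one],
    Commute.zpow_zpow_self g _ _, ?_, ?_⟩
  · have : orderOf (g ^ (v * b : ℤ)) ∣ a := by
      rw [orderOf_dvd_iff_pow_eq_one, ← zpow_natCast, ← zpow_mul,
        show v * b * (a : ℤ) = (n : ℤ) * v by rw [← hab]; push_cast; ring,
        zpow_mul, zpow_natCast, pow_orderOf_eq_one, one_zpow]
    obtain ⟨k, -, hk⟩ := (Nat.dvd_prime_pow hp).1 this
    exact ⟨k, hk⟩
  · intro h
    apply hb
    refine h.trans ?_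
    rw [orderOf_dvd_iff_pow_eq_one, ← zpow_natCast, ← zpow_mul,
      show u * a * (b : ℤ) = (n : ℤ) * u by rw [← hab]; push_cast; ring,
      zpow_mul, zpow_natCast, pow_orderOf_eq_one, one_zpow]

/-- Weak block orthogonality for a set of characters with integral idempotent. -/
theorem sum_mul_conj_eq_zero_of_regular_singular (hM : IsPModular p M) {A : Set (IrrCharacter G)}
    (hA : ∀ g, MemLocalRing M (blockCoeff A g)) {x y : G} (hx : ¬ p ∣ orderOf x)
    (hy : p ∣ orderOf y) : ∑ᶠ χ ∈ A, (χ : G → ℂ) x * conj ((χ : G → ℂ) y) = 0 := by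
  obtain ⟨z, hz⟩ := exists_isPPart_tr hM.1 y
  simp only [conj_irr_apply]
  refine sum_mul_inv_eq_zero_of_pPart hM hA (isPPart_one_of_not_dvd hx) hz fun h => ?_
  have h1 : z = 1 := isConj_one_right.1 h
  obtain ⟨y', hy', -, -, hy''⟩ := hz
  rw [h1, one_mul] at hy'
  exact hy'' (hy' ▸ hy)

/-- An integral central idempotent is supported on the `p`-regular elements. -/
theorem blockCoeff_eq_zero_of_dvd (hM : IsPModular p M) {A : Set (IrrCharacter G)}
    (hA : ∀ g, MemLocalRing M (blockCoeff A g)) {y : G} (hy : p ∣ orderOf y) :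
    blockCoeff A y = 0 := by
  rw [blockCoeff, sum_mul_conj_eq_zero_of_regular_singular hM hA
    (by rw [orderOf_one]; exact hM.1.not_dvd_one) hy, mul_zero]

theorem blockPart_eq_sum [Fintype G] (A : Set (IrrCharacter G)) (ϑ : G → ℂ) (u : G) :
    blockPart A ϑ u = (Nat.card G : ℂ)⁻¹ *
      ∑ g, ϑ g * ∑ᶠ χ ∈ A, (χ : G → ℂ) u * (χ : G → ℂ) g⁻¹ := by
  classical
  unfold blockPart
  simp only [finsum_mem_irr_eq_sum]
  simp only [Finset.mul_sum]
  rw [Finset.sum_comm]
  refine Finset.sum_congr rfl fun χ _ => ?_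
  split_ifs
  · rw [classInner_congr_fintype _ ‹Fintype G›, classInner_def]
    simp only [conj_irr_apply, Finset.mul_sum, Finset.sum_mul]
    exact Finset.sum_congr rfl fun g _ => by ring
  · simp

/-- If `ϑ` vanishes on the `p`-section of `x`, so does its `A`-part. -/
theorem blockPart_eq_zero_of_section (hM : IsPModular p M) {A : Set (IrrCharacter G)}
    (hA : ∀ g, MemLocalRing M (blockCoeff A g)) {ϑ : G → ℂ} {x : G}
    (hϑ : ∀ u z : G, IsPPart p u z → IsConj x z → ϑ u = 0) {u z : G} (hz : IsPPart p u z)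
    (hxz : IsConj x z) : blockPart A ϑ u = 0 := by
  have := Fintype.ofFinite G
  rw [blockPart_eq_sum, Finset.sum_eq_zero, mul_zero]
  intro g _
  obtain ⟨w, hw⟩ := exists_isPPart_tr hM.1 g
  by_cases h : IsConj x w
  · rw [hϑ g w hw h, zero_mul]
  · rw [sum_mul_inv_eq_zero_of_pPart hM hA hz hw fun h' => h (hxz.trans h'), mul_zero]

/-- The `A`-part of a class function only depends, on a `p`-section, on the values on that section. -/
theorem blockPart_congr_of_section (hM : IsPModular p M) {A : Set (IrrCharacter G)}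
    (hA : ∀ g, MemLocalRing M (blockCoeff A g)) {ϑ φ : G → ℂ} {x : G}
    (h : ∀ u z : G, IsPPart p u z → IsConj x z → ϑ u = φ u) {u z : G} (hz : IsPPart p u z)
    (hxz : IsConj x z) : blockPart A ϑ u = blockPart A φ u := by
  have := Fintype.ofFinite G
  have h1 := blockPart_eq_zero_of_section hM hA (ϑ := ϑ - φ) (x := x)
    (fun u z hu hz => by rw [Pi.sub_apply, h u z hu hz, sub_self]) hz hxz
  rw [blockPart_eq_sum] at h1 ⊢
  rw [blockPart_eq_sum, ← sub_eq_zero, ← h1, ← mul_sub, ← Finset.sum_sub_distrib]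
  simp only [Pi.sub_apply, sub_mul]

theorem blockPart_irr (A : Set (IrrCharacter G)) (χ : IrrCharacter G) [Decidable (χ ∈ A)] :
    blockPart A (χ : G → ℂ) = if χ ∈ A then (χ : G → ℂ) else 0 := by
  classical
  funext u
  unfold blockPart
  simp only [finsum_mem_irr_eq_sum]
  rw [Finset.sum_eq_single χ]
  · rw [@irr_inner_self G _ (Fintype.ofFinite G) _ χ.2, one_mul]
    by_cases h : χ ∈ A
    · rw [if_pos h, if_pos h]
    · rw [if_neg h, if_neg h]; rfl
  · intro ψ _ hψ
    rw [@irrChar_inner G _ (Fintype.ofFinite G), if_neg hψ.symm, zero_mul, ite_self]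
  · simp

theorem classInner_blockPart [Fintype G] (A : Set (IrrCharacter G)) (ϑ : G → ℂ) (ψ : IrrCharacter G)
    [Decidable (ψ ∈ A)] :
    classInner (blockPart A ϑ) ψ = if ψ ∈ A then classInner ϑ ψ else 0 := by
  classical
  have : blockPart A ϑ = ∑ χ : IrrCharacter G,
      (if χ ∈ A then classInner ϑ (χ : G → ℂ) else 0) • (χ : G → ℂ) := by
    funext u
    unfold blockPart
    simp only [finsum_mem_irr_eq_sum, Finset.sum_apply, Pi.smul_apply, smul_eq_mul]
    refine Finset.sum_congr rfl fun χ _ => ?_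
    rw [classInner_congr_fintype _ ‹Fintype G›]
    split_ifs <;> simp
  rw [this, classInner_sum_irr]
  congr

/-- Characters separated by an integral idempotent are orthogonal on each `p`-section. -/
theorem sum_section_mul_conj_eq_zero (hM : IsPModular p M) {A : Set (IrrCharacter G)}
    (hA : ∀ g, MemLocalRing M (blockCoeff A g)) {χ ψ : IrrCharacter G} (hχ : χ ∈ A) (hψ : ψ ∉ A)
    (x : G) :
    ∑ᶠ u ∈ {u : G | ∃ z, IsPPart p u z ∧ IsConj x z}, (χ : G → ℂ) u * conj ((ψ : G → ℂ) u) = 0 := by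
  classical
  have := Fintype.ofFinite G
  have huniq : ∀ u z z' : G, IsPPart p u z → IsPPart p u z' → IsConj z z' := fun u z z' hz hz' =>
    isConj_pPart_of_isConj_zpow hM.1 hz hz' (n := 1) (by exact_mod_cast hM.1.not_dvd_one)
      (IsConj.refl _)
  set S := {u : G | ∃ z, IsPPart p u z ∧ IsConj x z}
  let ϑ : G → ℂ := fun u => if u ∈ S then (χ : G → ℂ) u else 0
  have h1 : blockPart A ϑ = ϑ := by
    funext u
    obtain ⟨z, hz⟩ := exists_isPPart_tr hM.1 u
    by_cases hxz : IsConj x z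
    · rw [blockPart_congr_of_section hM hA (φ := χ) (x := x)
        (fun v w hv hw => if_pos ⟨w, hv, hw⟩) hz hxz, blockPart_irr, if_pos hχ]
      exact (if_pos ⟨z, hz, hxz⟩).symm
    · rw [blockPart_eq_zero_of_section hM hA (x := z) (fun v w hv hw => if_neg ?_) hz (IsConj.refl _)]
      · refine (if_neg ?_).symm
        rintro ⟨w, hw, hxw⟩
        exact hxz (hxw.trans (huniq u w z hw hz))
      · rintro ⟨w', hw', hxw⟩
        exact hxz ((hxw.trans (huniq v w' w hw' hv)).trans hw.symm)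
  have h2 := classInner_blockPart A ϑ ψ
  rw [h1, if_neg hψ, classInner_def, mul_eq_zero] at h2
  have h3 := h2.resolve_left (inv_ne_zero card_ne_zero)
  rw [finsum_mem_eq_finite_toFinset_sum _ (Set.toFinite _), ← h3]
  simp only [ϑ, ite_mul, zero_mul]
  rw [← Finset.sum_filter]
  exact Finset.sum_congr (by ext; simp only [Set.Finite.mem_toFinset, Finset.mem_filter,
    Finset.mem_univ, true_and]) fun _ _ => rfl

end CL.Blocks
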