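import Cfsg.Agent.Base
import Cfsg.Agent.Blocks.TraceOrth
import Cfsg.Agent.Blocks.Center

/-!
# The idempotent form of Brauer's second main theorem
-/

set_option autoImplicit false

namespace CL.Blocks

open Cfsg CL.Char
open scoped ComplexConjugate

variable {p : ℕ} {M : Ideal AlgInt} {G : Type*} [Group G] [Finite G]

/-- A central element acts on an irreducible representation as the scalar `ω`. -/
theorem asAlgebraHom_of_isCen {V : Type*} [AddCommGroup V] [Module ℂ V] [FiniteDimensional ℂ V]
    (ρ : Representation ℂ G V) [ρ.IsIrreducible] {a : MonoidAlgebra ℂ G} (ha : IsCen a) :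
    ρ.asAlgebraHom a = om ρ.character a • (1 : Module.End ℂ V) := by
  have := Fintype.ofFinite G
  conv_lhs => rw [eq_sum_single a, map_sum]
  simp only [Representation.asAlgebraHom_single]
  rw [sum_smul_rep_eq ρ (f := fun g => a.coeff g) ha, om_apply]
  rfl

/-- An integral central element whose central characters on `A` are units is invertible on `A`. -/
theorem exists_inv_on_set [M.IsMaximal] {u : MonoidAlgebra ℂ G} (hu : IntCoeff M u) (hc : IsCen u)
    (A : Set (IrrCharacter G)) (hA : ∀ χ ∈ A, ¬ MemLocalIdeal M (om (χ : G → ℂ) u)) :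
    ∃ u' : MonoidAlgebra ℂ G, IntCoeff M u' ∧ IsCen u' ∧ u * u' * idem A = idem A := by
  classical
  have key : ∀ T : Finset (IrrCharacter G), (∀ χ ∈ T, χ ∈ A) →
      ∃ u' : MonoidAlgebra ℂ G, IntCoeff M u' ∧ IsCen u' ∧ ∀ χ ∈ T, om (χ : G → ℂ) (u * u') = 1 := by
    intro T
    induction T using Finset.induction_on with
    | empty => exact fun _ => ⟨0, IntCoeff.zero, isCen_zero, by simp⟩
    | insert η T hη ih =>
      intro hT
      obtain ⟨u', h1, h2, h3⟩ := ih fun χ hχ => hT χ (Finset.mem_insert_of_mem hχ)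
      have hη' := hA η (hT η (Finset.mem_insert_self _ _))
      refine ⟨u' + (om (η : G → ℂ) u)⁻¹ • (1 - u * u'), h1.add (IntCoeff.smul
        (memLocalRing_inv (memLocalRing_om η hc hu) hη') (IntCoeff.one.sub (hu.mul h1))),
        h2.add ((isCen_one.sub (hc.mul h2)).smul _), fun χ hχ => ?_⟩
      rw [mul_add, om_add, mul_smul_comm, om_smul, om_mul χ hc (1 - u * u'), om_sub, om_one]
      rcases Finset.mem_insert.1 hχ with rfl | hχ
      · rw [← mul_assoc, inv_mul_cancel₀ (ne_zero_of_not_memLocalIdeal hη')]; ring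
      · rw [h3 χ hχ]; ring
  obtain ⟨u', h1, h2, h3⟩ := key (Finset.univ.filter (· ∈ A)) (by simp)
  refine ⟨u', h1, h2, eq_idem_of_om ((hc.mul h2).mul (isCen_idem A)) (fun χ hχ => ?_) fun χ hχ => ?_⟩
  · rw [om_mul χ (hc.mul h2), h3 χ (by simpa using hχ), om_idem_of_mem hχ, one_mul]
  · rw [om_mul χ (hc.mul h2), om_idem_of_notMem hχ, mul_zero]

/-- If the centralizer of the `p`-part of `h` lies in `H`, the elements outside `H` have orbits of
length divisible by `p` under conjugation by `h`. -/
theorem dvd_of_commute_zpow_of_notMem (hp : p.Prime) {H : Subgroup G} {h z : G}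
    (hz : IsPPart p h z) (hC : Subgroup.centralizer ({z} : Set G) ≤ H) {g : G} (hg : g ∉ H)
    (n : ℤ) (hn : h ^ n * g = g * h ^ n) : (p : ℤ) ∣ n := by
  by_contra hpn
  obtain ⟨k, hk⟩ := isPPart_mem_zpowers_zpow hp hz hpn
  refine hg (hC ?_)
  rw [Subgroup.mem_centralizer_iff]
  rintro _ rfl
  rw [← hk]
  exact (Commute.zpow_left hn k).eq

/-- Second main theorem, idempotent form, for sets of characters with integral idempotents. -/
theorem second_main_core (hM : IsPModular p M) (H : Subgroup G) {b : Set (IrrCharacter H)}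
    {A : Set (IrrCharacter G)} (hb : ∀ k, MemLocalRing M (blockCoeff b k))
    (hA : ∀ g, MemLocalRing M (blockCoeff A g))
    (hunit : ∀ ξ ∈ b, ¬ MemLocalIdeal M (om (ξ : H → ℂ) (trunc H (idem A)))) (h : H) {z : G}
    (hz : IsPPart p (h : G) z) (hC : Subgroup.centralizer ({z} : Set G) ≤ H)
    {χ : IrrCharacter G} (hχ : χ ∉ A) :
    ev (χ : G → ℂ) (incl H (idem b) * MonoidAlgebra.single (h : G) 1) = 0 := by
  have := hM.2.1
  have hAi : IntCoeff M (idem A) := hA
  have hbi : IntCoeff M (idem b) := hb
  have huc : IsCen (trunc H (idem A)) := (isCen_idem A).trunc H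
  obtain ⟨u', h1, h2, h3⟩ := exists_inv_on_set (hAi.trunc H) huc b hunit
  set u := trunc H (idem A) with hu
  have h0 := om_idem_of_notMem hχ
  obtain ⟨χ, n, ρ, hρ, rfl⟩ := χ
  have hρA : ρ.asAlgebraHom (idem A) = 0 := by
    rw [asAlgebraHom_of_isCen ρ (isCen_idem A)]
    simp only at h0
    rw [h0, zero_smul]
  have hcomm : ∀ a : MonoidAlgebra ℂ H, IsCen a →
      Commute (MonoidAlgebra.single (h : G) (1 : ℂ)) (incl H a) := by
    intro a ha
    rw [← incl_single]
    exact (ha.commute _).symm.map (incl H)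
  simp only
  rw [ev_character]
  refine trace_twist_monoidAlgebra hM ρ.asAlgebraHom (LinearMap.trace ℂ _)
    (fun a b => LinearMap.trace_mul_comm ℂ a b) (incl H (idem b))
    (-((idem A - incl H u) * incl H u')) 0 h hbi.incl
    ((hAi.sub (hAi.trunc H).incl).mul h1.incl).neg IdealCoeff.zero ?_ ?_ ?_ ?_ ?_
  · rw [← map_mul, ← map_mul, idem_mul_self]
  · rw [← map_mul, ← map_mul, (hcomm _ (isCen_idem b)).eq]
  · rw [← commute_single_iff]
    exact ((((isCen_idem A).commute _).symm.sub_right (hcomm _ huc)).mul_right (hcomm _ h2)).neg_right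
  · intro g hg
    refine dvd_of_commute_zpow_of_notMem hM.1 hz hC fun hgH => hg ?_
    have : trunc H (-((idem A - incl H u) * incl H u')) = 0 := by
      rw [map_neg, trunc_mul_incl, map_sub, trunc_incl, ← hu, sub_self, zero_mul, neg_zero]
    have h4 := coeff_trunc H (-((idem A - incl H u) * incl H u')) ⟨g, hgH⟩
    rw [this] at h4
    exact h4.symm
  · have e1 : -((idem A - incl H u) * incl H u') = incl H (u * u') - idem A * incl H u' := by
      rw [map_mul, sub_mul, neg_sub]
    have e2 : ρ.asAlgebraHom (-((idem A - incl H u) * incl H u')) =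
        ρ.asAlgebraHom (incl H (u * u')) := by
      rw [e1, map_sub, map_mul _ (idem A), hρA, zero_mul, sub_zero]
    have e3 : incl H (idem b) * (1 - incl H (u * u')) * incl H (idem b) = 0 := by
      rw [← map_one (incl H), ← map_sub, ← map_mul, ← map_mul, mul_assoc, sub_mul, one_mul, h3,
        sub_self, mul_zero, map_zero]
    rw [e2, ← e3]
    simp only [map_mul, map_sub, map_one]

theorem ev_incl_idem_mul_single (H : Subgroup G) (b : Set (IrrCharacter H)) (θ : G → ℂ) (g : G) :
    ev θ (incl H (idem b) * MonoidAlgebra.single g 1) =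
      ∑ᶠ k : H, blockCoeff b k * θ ((k : G) * g) := by
  have := Fintype.ofFinite H
  rw [finsum_eq_sum_of_fintype]
  conv_lhs => rw [eq_sum_single (idem b), map_sum, Finset.sum_mul, map_sum]
  simp [MonoidAlgebra.single_mul_single]

/-- Second main theorem, idempotent form. -/
theorem second_main_idem (hM : IsPModular p M) {H : Subgroup G} {b : Set (IrrCharacter H)}
    {B : Set (IrrCharacter G)} (hind : IsInducedBlock M H b B) (h : H) {z : G}
    (hz : IsPPart p (h : G) z) (hC : Subgroup.centralizer ({z} : Set G) ≤ H)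
    {χ : IrrCharacter G} (hχ : χ ∉ B) :
    ev (χ : G → ℂ) (incl H (idem b) * MonoidAlgebra.single (h : G) 1) = 0 := by
  have := hM.2.1
  obtain ⟨ψ, hψ⟩ := block_nonempty hind.2.1
  refine second_main_core hM H (memLocalRing_blockCoeff hind.1) (memLocalRing_blockCoeff hind.2.1)
    (fun ξ hξ hmem => ?_) h hz hC hχ
  have h1 := induced_om_trunc_sub hind hξ hψ (isCen_idem B) (intCoeff_idem hind.2.1)
  rw [om_idem_of_mem hψ] at h1
  exact not_memLocalIdeal_one ((memLocalIdeal_congr h1).1 hmem)

/-- The `b`-part of a class function `θ` is `y ↦ θ (f_b y)`. -/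
theorem blockPart_eq_ev (b : Set (IrrCharacter G)) {θ : G → ℂ} (hθ : IsClassFunction G θ) (y : G) :
    blockPart b θ y = ev θ (idem b * MonoidAlgebra.single y 1) := by
  classical
  have := Fintype.ofFinite G
  conv_rhs => rw [classFun_eq_sum hθ, ev_sum_fun]
  unfold blockPart
  simp only [finsum_mem_irr_eq_sum]
  refine Finset.sum_congr rfl fun χ _ => ?_
  rw [ev_smul_fun, classInner_congr_fintype _ ‹Fintype G›]
  split_ifs with h
  · rw [ev_idem_mul_of_mem h, ev_single, one_mul]
  · rw [ev_idem_mul_of_notMem h, mul_zero]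

/-- If the idempotent of `A` has all its coefficients on the centralizer of the `p`-part of `g` in the
local ideal, then the characters in `A` vanish at `g`. -/
theorem irr_eq_zero_of_blockCoeff_mem (hM : IsPModular p M) {A : Set (IrrCharacter G)}
    (hA : ∀ g, MemLocalRing M (blockCoeff A g)) {g x : G} (hx : IsPPart p g x)
    (hC : ∀ c ∈ Subgroup.centralizer ({x} : Set G), MemLocalIdeal M (blockCoeff A c))
    {χ : IrrCharacter G} (hχ : χ ∈ A) : (χ : G → ℂ) g = 0 := by
  have := hM.2.1
  have hAi : IntCoeff M (idem A) := hA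
  set H := Subgroup.centralizer ({x} : Set G) with hH
  have hgH : g ∈ H := by
    obtain ⟨y, rfl, hxy, -⟩ := hx
    rw [hH, Subgroup.mem_centralizer_iff]
    rintro _ rfl
    exact ((Commute.refl _).mul_right hxy).eq
  have hu : IdealCoeff M (trunc H (idem A)) := fun c => hC c c.2
  have huc : IsCen (trunc H (idem A)) := (isCen_idem A).trunc H
  set u := trunc H (idem A) with hu'
  have h0 := om_idem_of_mem hχ
  obtain ⟨χ, n, ρ, hρ, rfl⟩ := χ
  have hρA : ρ.asAlgebraHom (idem A) = 1 := by
    rw [asAlgebraHom_of_isCen ρ (isCen_idem A)]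
    simp only at h0
    rw [h0, one_smul]
  have key := trace_twist_monoidAlgebra hM ρ.asAlgebraHom (LinearMap.trace ℂ _)
    (fun a b => LinearMap.trace_mul_comm ℂ a b) 1 (idem A - incl H u) (incl H u) g IntCoeff.one
    (hAi.sub hu.intCoeff.incl) hu.incl (by rw [map_one, mul_one]) (by rw [map_one, mul_one, one_mul])
    ?_ ?_ ?_
  · rw [one_mul, ← ev_character, ev_single, one_mul] at key
    exact key
  · rw [← commute_single_iff]
    refine ((isCen_idem A).commute _).symm.sub_right ?_
    rw [← incl_single H ⟨g, hgH⟩]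
    exact (huc.commute _).symm.map (incl H)
  · intro c hc n hn
    by_contra hpn
    obtain ⟨k, hk⟩ := isPPart_mem_zpowers_zpow hM.1 hx hpn
    have hcH : c ∈ H := by
      rw [hH, Subgroup.mem_centralizer_iff]
      rintro _ rfl
      rw [← hk]
      exact (Commute.zpow_left hn k).eq
    apply hc
    rw [coeff_sub_apply, coeff_incl_of_mem H u hcH, hu', coeff_trunc, sub_self]
  · rw [map_one, one_mul, mul_one, map_sub, hρA, sub_sub_cancel]

end CL.Blocks
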