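import Cfsg.Agent.Base
import Cfsg.Agent.Blocks.ZA
import Cfsg.Agent.Blocks.Center
import Cfsg.Agent.Blocks.LocalRingP
import Cfsg.Agent.Auto.ACL_Blocks_ZA_push_ec8cd0

/-!
# The modular central characters `λ_χ : Z(kG) → k`

`kM M` is the residue field of the local ring at `M`.  For an irreducible character `χ`,
`lamK M χ : ZA (kM M) G →ₐ kM M` is the reduction of the central character `ω_χ`.  Two characters
lie in the same block iff their `lamK` agree, every algebra map `Z(kG) → k` is a `lamK M χ`, and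
the common kernel of the `lamK M χ` is the nilradical.
-/

set_option autoImplicit false
set_option linter.unusedSectionVars false

namespace CL.Blocks

open Cfsg CL.Char

/-- The residue field of the local ring at `M`. -/
abbrev kM (M : Ideal AlgInt) [M.IsMaximal] : Type := IsLocalRing.ResidueField (locRing M)

variable {M : Ideal AlgInt} [M.IsMaximal] {p : ℕ}
variable {G H : Type*} [Group G] [Group H] [Finite G] [Finite H]

theorem kM_natCast_p (hM : IsPModular p M) : (p : kM M) = 0 := by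
  have := charP_residueField hM
  exact CharP.cast_eq_zero _ p

theorem kM_natCast_eq_zero_iff (hM : IsPModular p M) (n : ℕ) : (n : kM M) = 0 ↔ p ∣ n := by
  have := charP_residueField hM
  exact CharP.cast_eq_zero_iff _ p n

variable (M G) in
/-- The inclusion `Z(SG) → Z(ℂG)`. -/
noncomputable def zaToC : ZA (locRing M) G →+* ZA ℂ G := ZA.mapR G (locRing M).subtype

variable (M G) in
/-- The reduction `Z(SG) → Z(kG)`. -/
noncomputable def zaRed : ZA (locRing M) G →+* ZA (kM M) G :=
  ZA.mapR G (IsLocalRing.residue (locRing M))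

theorem co_zaToC (z : ZA (locRing M) G) (g : G) : (zaToC M G z).co g = (z.co g : ℂ) :=
  ZA.co_mapR _ z g

theorem co_zaRed (z : ZA (locRing M) G) (g : G) : (zaRed M G z).co g = red M (z.co g : ℂ) := by
  rw [red_coe]
  exact ZA.co_mapR _ z g

theorem zaToC_injective : Function.Injective (zaToC M G) :=
  ZA.mapR_injective Subtype.val_injective

theorem zaRed_surjective : Function.Surjective (zaRed M G) :=
  ZA.mapR_surjective IsLocalRing.residue_surjective

theorem zaToC_cls (g : G) : zaToC M G (ZA.cls _ g) = ZA.cls ℂ g := ZA.mapR_cls _ g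

theorem zaRed_cls (g : G) : zaRed M G (ZA.cls _ g) = ZA.cls _ g := ZA.mapR_cls _ g

/-- A central element of `ℂG` with local integer coefficients, as an element of `Z(SG)`. -/
noncomputable def zaLift (z : ZA ℂ G) (hz : ∀ g, MemLocalRing M (z.co g)) : ZA (locRing M) G :=
  ZA.mk' (fun g => ⟨z.co g, hz g⟩) fun g h => Subtype.ext (z.co_conj g h)

theorem zaToC_zaLift (z : ZA ℂ G) (hz : ∀ g, MemLocalRing M (z.co g)) :
    zaToC M G (zaLift z hz) = z := ZA.ext' fun g => co_zaToC _ g

theorem co_zaRed_zaLift (z : ZA ℂ G) (hz : ∀ g, MemLocalRing M (z.co g)) (g : G) :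
    (zaRed M G (zaLift z hz)).co g = red M (z.co g) := co_zaRed _ g

theorem omHom_cls (χ : IrrCharacter G) (g : G) :
    omHom χ (ZA.cls ℂ g) = centralChar (χ : G → ℂ) g := om_classSum_irr χ g

theorem omHom_eq_sum [Fintype (ConjClasses G)] (χ : IrrCharacter G) (z : ZA ℂ G) :
    omHom χ z = ∑ c : ConjClasses G,
      z.co (Quotient.out c) * centralChar (χ : G → ℂ) (Quotient.out c) :=
  z.isCen.om_eq_sum (irr_isClassFunction χ.2)

theorem memLocalRing_omHom (χ : IrrCharacter G) (z : ZA ℂ G) (hz : ∀ g, MemLocalRing M (z.co g)) :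
    MemLocalRing M (omHom χ z) := by
  have := Fintype.ofFinite (ConjClasses G)
  rw [omHom_eq_sum]
  exact memLocalRing_sum _ fun c _ => memLocalRing_mul (hz _) (memLocalRing_centralChar χ _)

theorem memLocalRing_omHom_zaToC (χ : IrrCharacter G) (z : ZA (locRing M) G) :
    MemLocalRing M (omHom χ (zaToC M G z)) :=
  memLocalRing_omHom χ _ fun g => by rw [co_zaToC]; exact (z.co g).2

variable (M) in
/-- The central character `ω_χ` on `Z(SG)`, with values in `S`. -/
noncomputable def omZA (χ : IrrCharacter G) : ZA (locRing M) G →+* locRing M :=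
  ((omHom χ).toRingHom.comp (zaToC M G)).codRestrict (locRing M) (memLocalRing_omHom_zaToC χ)

theorem coe_omZA (χ : IrrCharacter G) (z : ZA (locRing M) G) :
    (omZA M χ z : ℂ) = omHom χ (zaToC M G z) := rfl

variable (M) in
/-- `λ_χ` as a linear map. -/
noncomputable def lamKL (χ : IrrCharacter G) : ZA (kM M) G →ₗ[kM M] kM M :=
  ZA.functional fun g => red M (centralChar (χ : G → ℂ) g)

theorem lamKL_cls (χ : IrrCharacter G) (g : G) :
    lamKL M χ (ZA.cls _ g) = red M (centralChar (χ : G → ℂ) g) :=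
  ZA.functional_cls _ (fun g h => by
    rw [← centralChar_eq_of_isConj (irr_isClassFunction χ.2) (isConj_iff.2 ⟨h, rfl⟩)]) g

theorem lamKL_zaRed (χ : IrrCharacter G) (z : ZA (locRing M) G) :
    lamKL M χ (zaRed M G z) = red M (omHom χ (zaToC M G z)) := by
  have := Fintype.ofFinite (ConjClasses G)
  rw [ZA.linearMap_apply_eq_sum, omHom_eq_sum, red_sum]
  · refine Finset.sum_congr rfl fun c _ => ?_
    rw [lamKL_cls, co_zaRed, co_zaToC, smul_eq_mul,
      red_mul (z.co _).2 (memLocalRing_centralChar χ _)]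
  · intro c _
    rw [co_zaToC]
    exact memLocalRing_mul (z.co _).2 (memLocalRing_centralChar χ _)

variable (M) in
/-- The modular central character `λ_χ : Z(kG) → k`, the reduction of `ω_χ`. -/
noncomputable def lamK (χ : IrrCharacter G) : ZA (kM M) G →ₐ[kM M] kM M :=
  AlgHom.ofLinearMap (lamKL M χ)
    (by rw [← map_one (zaRed M G), lamKL_zaRed, map_one, map_one, red_one])
    (fun z w => by
      obtain ⟨z, rfl⟩ := zaRed_surjective z
      obtain ⟨w, rfl⟩ := zaRed_surjective w
      rw [← map_mul, lamKL_zaRed, lamKL_zaRed, lamKL_zaRed, map_mul, map_mul,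
        red_mul (memLocalRing_omHom_zaToC χ z) (memLocalRing_omHom_zaToC χ w)])

theorem lamK_cls (χ : IrrCharacter G) (g : G) :
    lamK M χ (ZA.cls _ g) = red M (centralChar (χ : G → ℂ) g) := lamKL_cls χ g

theorem lamK_zaRed (χ : IrrCharacter G) (z : ZA (locRing M) G) :
    lamK M χ (zaRed M G z) = red M (omHom χ (zaToC M G z)) := lamKL_zaRed χ z

theorem lamK_zaRed' (χ : IrrCharacter G) (z : ZA (locRing M) G) :
    lamK M χ (zaRed M G z) = IsLocalRing.residue _ (omZA M χ z) := by
  rw [lamK_zaRed, ← red_coe, coe_omZA]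

theorem lamK_zaRed_zaLift (χ : IrrCharacter G) (z : ZA ℂ G) (hz : ∀ g, MemLocalRing M (z.co g)) :
    lamK M χ (zaRed M G (zaLift z hz)) = red M (omHom χ z) := by
  rw [lamK_zaRed, zaToC_zaLift]

/-- `λ_χ` of the reduction of an `S`-valued class function `f`. -/
theorem lamK_eq_red_om (χ : IrrCharacter G) (z : ZA (kM M) G) (a : MonoidAlgebra ℂ G)
    (ha : IsCen a) (hS : ∀ g, MemLocalRing M (a.coeff g)) (hz : ∀ g, z.co g = red M (a.coeff g)) :
    lamK M χ z = red M (om (χ : G → ℂ) a) := by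
  have : z = zaRed M G (zaLift (ZA.ofIsCen ha) hS) := ZA.ext' fun g =>
    (hz g).trans (co_zaRed_zaLift (ZA.ofIsCen ha) hS g).symm
  rw [this]
  exact lamK_zaRed_zaLift χ (ZA.ofIsCen ha) hS

theorem lamK_cls_eq_zero_iff (χ : IrrCharacter G) (g : G) :
    lamK M χ (ZA.cls _ g) = 0 ↔ MemLocalIdeal M (centralChar (χ : G → ℂ) g) := by
  rw [lamK_cls, red_eq_zero_iff (memLocalRing_centralChar χ g)]

theorem lamK_cls_ne_zero_iff (χ : IrrCharacter G) (g : G) :
    lamK M χ (ZA.cls _ g) ≠ 0 ↔ ¬ MemLocalIdeal M (centralChar (χ : G → ℂ) g) :=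
  (lamK_cls_eq_zero_iff χ g).not

/-- Two irreducible characters lie in the same block iff they have the same `λ`. -/
theorem sameBlock_iff_lamK {χ ψ : IrrCharacter G} :
    SameBlock M (χ : G → ℂ) (ψ : G → ℂ) ↔ lamK M χ = lamK M ψ := by
  constructor
  · intro h
    refine ZA.algHom_ext fun g => ?_
    rw [lamK_cls, lamK_cls, red_eq_red_iff (memLocalRing_centralChar χ g)
      (memLocalRing_centralChar ψ g)]
    exact h g
  · intro h g
    rw [← red_eq_red_iff (memLocalRing_centralChar χ g) (memLocalRing_centralChar ψ g),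
      ← lamK_cls, ← lamK_cls, h]

theorem mem_blockOf_iff_lamK {χ ψ : IrrCharacter G} :
    ψ ∈ blockOf M (χ : G → ℂ) ↔ lamK M χ = lamK M ψ := sameBlock_iff_lamK

theorem blockOf_eq_iff_lamK {χ ψ : IrrCharacter G} :
    blockOf M (χ : G → ℂ) = blockOf M (ψ : G → ℂ) ↔ lamK M χ = lamK M ψ := by
  constructor
  · intro h
    have := self_mem_blockOf (M := M) ψ
    rwa [← h, mem_blockOf_iff_lamK] at this
  · intro h
    ext θ
    rw [mem_blockOf_iff_lamK, mem_blockOf_iff_lamK, h]

theorem mem_iff_lamK_of_isPBlock {B : Set (IrrCharacter G)} (hB : IsPBlock M B)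
    {χ : IrrCharacter G} (hχ : χ ∈ B) (ψ : IrrCharacter G) : ψ ∈ B ↔ lamK M χ = lamK M ψ := by
  obtain ⟨θ, rfl⟩ := hB
  rw [mem_blockOf_iff_lamK] at hχ ⊢
  rw [hχ]

theorem lamK_eq_of_mem {B : Set (IrrCharacter G)} (hB : IsPBlock M B) {χ ψ : IrrCharacter G}
    (hχ : χ ∈ B) (hψ : ψ ∈ B) : lamK M χ = lamK M ψ := (mem_iff_lamK_of_isPBlock hB hχ ψ).1 hψ

theorem block_eq_of_lamK {B B' : Set (IrrCharacter G)} (hB : IsPBlock M B) (hB' : IsPBlock M B')
    {χ ψ : IrrCharacter G} (hχ : χ ∈ B) (hψ : ψ ∈ B') (h : lamK M χ = lamK M ψ) : B = B' :=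
  block_eq_of_mem hB hB' ((mem_iff_lamK_of_isPBlock hB hχ ψ).2 h) hψ

/-- The product of the `z - ω_χ(z)` vanishes in `Z(SG)`. -/
theorem prod_sub_omZA_eq_zero (z : ZA (locRing M) G) :
    ∏ χ : IrrCharacter G, (z - algebraMap _ _ (omZA M χ z)) = 0 := by
  apply zaToC_injective
  rw [map_zero]
  refine Subtype.ext ((ZA.isCen _).eq_zero_of_om fun ψ => ?_)
  rw [← omHom_apply, map_prod, map_prod]
  refine Finset.prod_eq_zero (Finset.mem_univ ψ) ?_
  rw [map_sub, map_sub, zaToC, ZA.mapR_algebraMap, AlgHom.commutes]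
  exact sub_self _

/-- The product of the `z - λ_χ(z)` vanishes in `Z(kG)`. -/
theorem prod_sub_lamK_eq_zero (z : ZA (kM M) G) :
    ∏ χ : IrrCharacter G, (z - algebraMap _ _ (lamK M χ z)) = 0 := by
  obtain ⟨z, rfl⟩ := zaRed_surjective z
  have := congrArg (zaRed M G) (prod_sub_omZA_eq_zero z)
  rw [map_zero, map_prod] at this
  rw [← this]
  refine Finset.prod_congr rfl fun χ _ => ?_
  rw [map_sub, lamK_zaRed']
  congr 1
  exact (ZA.mapR_algebraMap _ _).symm

/-- An element of `Z(kG)` killed by all `λ_χ` is nilpotent. -/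
theorem isNilpotent_of_lamK {z : ZA (kM M) G} (h : ∀ χ, lamK M χ z = 0) : IsNilpotent z := by
  have := prod_sub_lamK_eq_zero z
  simp only [h, map_zero, sub_zero, Finset.prod_const] at this
  exact ⟨_, this⟩

theorem algHom_eq_zero_of_isNilpotent {k A : Type*} [Field k] [Ring A] [Algebra k A]
    (μ : A →ₐ[k] k) {z : A} (h : IsNilpotent z) : μ z = 0 := (h.map μ).eq_zero

theorem isNilpotent_iff_lamK {z : ZA (kM M) G} : IsNilpotent z ↔ ∀ χ, lamK M χ z = 0 :=
  ⟨fun h χ => algHom_eq_zero_of_isNilpotent (lamK M χ) h, isNilpotent_of_lamK⟩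

theorem exists_lamK_ne_zero {z : ZA (kM M) G} (h : ¬ IsNilpotent z) : ∃ χ, lamK M χ z ≠ 0 := by
  by_contra hc
  push Not at hc
  exact h (isNilpotent_of_lamK hc)

theorem algHom_idem_eq_one {k A : Type*} [Field k] [Ring A] [Algebra k A]
    (μ : A →ₐ[k] k) {e : A} (he : IsIdempotentElem e) (h : μ e ≠ 0) : μ e = 1 :=
  (IsIdempotentElem.iff_eq_zero_or_one.1 (he.map μ)).resolve_left h

/-- A nonzero idempotent of `Z(kG)` is detected by some `λ_χ`. -/
theorem exists_lamK_eq_one {e : ZA (kM M) G} (he : IsIdempotentElem e) (h0 : e ≠ 0) :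
    ∃ χ, lamK M χ e = 1 := by
  obtain ⟨χ, hχ⟩ := exists_lamK_ne_zero fun h => h0 (he.eq_zero_of_isNilpotent h)
  exact ⟨χ, algHom_idem_eq_one _ he hχ⟩

/-- Idempotents of `Z(kG)` are determined by the values of the `λ_χ`. -/
theorem idem_eq_of_lamK {e f : ZA (kM M) G} (he : IsIdempotentElem e) (hf : IsIdempotentElem f)
    (h : ∀ χ, lamK M χ e = lamK M χ f) : e = f := by
  have h1 : IsNilpotent (e - f) := isNilpotent_of_lamK fun χ => by rw [map_sub, h, sub_self]
  exact eq_of_isNilpotent_sub_of_isIdempotentElem he hf h1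

/-- Every algebra homomorphism `Z(kG) → k` is a `λ_χ`. -/
theorem exists_eq_lamK (μ : ZA (kM M) G →ₐ[kM M] kM M) : ∃ χ, μ = lamK M χ := by
  by_contra hc
  push Not at hc
  have h1 : ∀ χ : IrrCharacter G, ∃ z, μ z ≠ 0 ∧ lamK M χ z = 0 := by
    intro χ
    obtain ⟨z, hz⟩ := DFunLike.ne_iff.1 (hc χ)
    refine ⟨z - algebraMap _ _ (lamK M χ z), ?_, ?_⟩
    · rw [map_sub, AlgHom.commutes]
      exact sub_ne_zero.2 hz
    · rw [map_sub, AlgHom.commutes]
      exact sub_self _
  choose z hz hz' using h1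
  have h2 : IsNilpotent (∏ χ, z χ) := isNilpotent_of_lamK fun χ => by
    rw [map_prod]
    exact Finset.prod_eq_zero (Finset.mem_univ χ) (hz' χ)
  have h3 := algHom_eq_zero_of_isNilpotent μ h2
  rw [map_prod] at h3
  exact Finset.prod_ne_zero_iff.2 (fun χ _ => hz χ) h3

/-- `λ_ξ` of the restriction of a class sum is the reduced induced central character. -/
theorem lamK_res_cls (K : Subgroup G) (ξ : IrrCharacter K) (g : G) :
    lamK M ξ (ZA.res _ K.subtype (ZA.cls _ g)) = red M (inducedCentralChar K (ξ : K → ℂ) g) := by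
  classical
  rw [← om_trunc_classSum]
  refine lamK_eq_red_om ξ _ _ ((isCen_classSum g).trunc K) (fun h => ?_) fun h => ?_
  · rw [coeff_trunc, coeff_classSum]
    split_ifs
    exacts [memLocalRing_one, memLocalRing_zero]
  · rw [coeff_trunc, coeff_classSum, ZA.co_res, ZA.co_cls]
    change (if IsConj g (h : G) then _ else _) = _
    split_ifs
    exacts [red_one.symm, red_zero.symm]

/-- Block induction in terms of `λ`. -/
theorem isInducedBlock_iff_lamK {K : Subgroup G} {b : Set (IrrCharacter K)}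
    {B : Set (IrrCharacter G)} : IsInducedBlock M K b B ↔ IsPBlock M b ∧ IsPBlock M B ∧
      ∀ ξ ∈ b, ∀ χ ∈ B, ∀ z, lamK M ξ (ZA.res _ K.subtype z) = lamK M χ z := by
  refine and_congr_right fun _ => and_congr_right fun _ => ?_
  refine forall₂_congr fun ξ _ => forall₂_congr fun χ _ => ?_
  constructor
  · intro h z
    refine ZA.linearMap_apply_congr ((lamK M ξ).toLinearMap.comp (ZA.res _ K.subtype))
      (lamK M χ).toLinearMap z fun g _ => ?_
    change lamK M ξ (ZA.res _ K.subtype (ZA.cls _ g)) = lamK M χ (ZA.cls _ g)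
    rw [lamK_res_cls, lamK_cls, red_eq_red_iff (memLocalRing_inducedCentralChar K ξ g)
      (memLocalRing_centralChar χ g)]
    exact h g
  · intro h g
    rw [← red_eq_red_iff (memLocalRing_inducedCentralChar K ξ g)
      (memLocalRing_centralChar χ g), ← lamK_res_cls, ← lamK_cls, h]

/-- Block induction can be tested on one character of each block. -/
theorem isInducedBlock_of_lamK {K : Subgroup G} {b : Set (IrrCharacter K)}
    {B : Set (IrrCharacter G)} (hb : IsPBlock M b) (hB : IsPBlock M B) {ξ : IrrCharacter K}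
    {χ : IrrCharacter G} (hξ : ξ ∈ b) (hχ : χ ∈ B)
    (h : ∀ z, lamK M ξ (ZA.res _ K.subtype z) = lamK M χ z) : IsInducedBlock M K b B :=
  isInducedBlock_iff_lamK.2 ⟨hb, hB, fun _ hξ' _ hχ' z => by
    rw [← lamK_eq_of_mem hb hξ hξ', ← lamK_eq_of_mem hB hχ hχ', h]⟩

theorem lamK_res_of_isInducedBlock {K : Subgroup G} {b : Set (IrrCharacter K)}
    {B : Set (IrrCharacter G)} (h : IsInducedBlock M K b B) {ξ : IrrCharacter K}
    {χ : IrrCharacter G} (hξ : ξ ∈ b) (hχ : χ ∈ B) (z : ZA (kM M) G) :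
    lamK M ξ (ZA.res _ K.subtype z) = lamK M χ z :=
  (isInducedBlock_iff_lamK.1 h).2.2 ξ hξ χ hχ z

/-- `λ` of a character transported along an isomorphism. -/
theorem lamK_comp_mulEquiv (e : H ≃* G) (χ : IrrCharacter G) (ψ : IrrCharacter H)
    (h : ∀ x, (ψ : H → ℂ) x = (χ : G → ℂ) (e x)) (z : ZA (kM M) G) :
    lamK M ψ (ZA.resEquiv _ e z) = lamK M χ z := by
  refine ZA.linearMap_apply_congr ((lamK M ψ).comp (ZA.resEquiv _ e)).toLinearMap
      (lamK M χ).toLinearMap z fun g _ => ?_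
  obtain ⟨x, rfl⟩ := e.surjective g
  change lamK M ψ (ZA.resEquiv _ e (ZA.cls _ (e x))) = lamK M χ (ZA.cls _ (e x))
  rw [ZA.resEquiv_cls, lamK_cls, lamK_cls]
  congr 1
  unfold centralChar
  rw [h, h, map_one]
  congr 3
  rw [← Subgroup.index_comap_of_surjective _ (f := e.toMonoidHom) e.surjective]
  congr 1
  ext y
  simp only [Subgroup.mem_centralizer_singleton_iff, Subgroup.mem_comap, MulEquiv.coe_toMonoidHom,
    ← map_mul, e.apply_eq_iff_eq]

/-- `λ` of an inflated character is `λ` composed with the push-forward. -/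
theorem lamK_comp_surjective (π : G →* H) (hπ : Function.Surjective π) (χ : IrrCharacter G)
    (ψ : IrrCharacter H) (h : ∀ x, (χ : G → ℂ) x = (ψ : H → ℂ) (π x)) (z : ZA (kM M) G) :
    lamK M ψ (ZA.push _ π hπ z) = lamK M χ z := by
  classical
  have := Fintype.ofFinite G
  have := Fintype.ofFinite H
  obtain ⟨z, rfl⟩ := zaRed_surjective z
  rw [zaRed, ← ZA.mapR_push, ← zaRed, ← zaRed, lamK_zaRed, lamK_zaRed, zaToC, ZA.mapR_push,
    ← zaToC]
  congr 1
  rw [omHom_apply, omHom_apply, om_apply, om_apply, h 1, map_one]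
  congr 1
  simp only [← ZA.co_def, ZA.co_push, Finset.sum_mul, h]
  rw [← Finset.sum_fiberwise Finset.univ π]
  refine Finset.sum_congr rfl fun q _ => Finset.sum_congr rfl fun g hg => ?_
  rw [(Finset.mem_filter.1 hg).2]

end CL.Blocks
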