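import Cfsg.Agent.Base

/-!
# Sylow subgroups of a subgroup, viewed in the ambient group

`CL.Blocks.IsSylowIn p P H` says that `P` is (the image in `G` of) a Sylow `p`-subgroup of `H ≤ G`.
This is the shape in which `Cfsg.IsDefectGroup` and several statements of the block
`blocks` speak about defect groups of classes.
-/

set_option autoImplicit false

namespace CL.Blocks

variable {G : Type*} [Group G]

/-- `P` is the image in `G` of a Sylow `p`-subgroup of the subgroup `H`. -/
def IsSylowIn (p : ℕ) (P H : Subgroup G) : Prop :=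
  ∃ S : Sylow p H, (S : Subgroup H).map H.subtype = P

namespace IsSylowIn

variable {p : ℕ} {P Q H K : Subgroup G}

theorem of_sylow (S : Sylow p H) : IsSylowIn p ((S : Subgroup H).map H.subtype) H := ⟨S, rfl⟩

theorem le (h : IsSylowIn p P H) : P ≤ H := by
  obtain ⟨S, rfl⟩ := h
  exact Subgroup.map_subtype_le _

theorem isPGroup (h : IsSylowIn p P H) : IsPGroup p P := by
  obtain ⟨S, rfl⟩ := h
  exact S.isPGroup'.map _

/-- Maximality: a `p`-subgroup of `H` containing `P` equals `P`. -/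
theorem eq_of_le (h : IsSylowIn p P H) (hQ : IsPGroup p Q) (hQH : Q ≤ H) (hPQ : P ≤ Q) :
    Q = P := by
  obtain ⟨S, rfl⟩ := h
  have h1 : IsPGroup p (Q.subgroupOf H) := hQ.comap_of_injective _ H.subtype_injective
  have h2 : (S : Subgroup H) ≤ Q.subgroupOf H := Subgroup.map_le_iff_le_comap.1 hPQ
  have h3 := S.is_maximal' h1 h2
  rw [← h3, Subgroup.subgroupOf_map_subtype, inf_eq_left.2 hQH]

/-- The characterisation by maximality. -/
theorem of_maximal (hPH : P ≤ H) (hP : IsPGroup p P)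
    (hmax : ∀ Q : Subgroup G, IsPGroup p Q → Q ≤ H → P ≤ Q → Q = P) : IsSylowIn p P H := by
  refine ⟨⟨P.subgroupOf H, hP.comap_of_injective _ H.subtype_injective, ?_⟩, ?_⟩
  · intro Q hQ hle
    have h1 := hmax (Q.map H.subtype) (hQ.map _) (Subgroup.map_subtype_le _) (by
      intro x hx
      exact ⟨⟨x, hPH hx⟩, hle hx, rfl⟩)
    rw [← h1]
    exact (Subgroup.comap_map_eq_self_of_injective H.subtype_injective Q).symm
  · change (P.subgroupOf H).map H.subtype = P
    rw [Subgroup.subgroupOf_map_subtype, inf_eq_left.2 hPH]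

theorem iff_maximal : IsSylowIn p P H ↔ P ≤ H ∧ IsPGroup p P ∧
    ∀ Q : Subgroup G, IsPGroup p Q → Q ≤ H → P ≤ Q → Q = P :=
  ⟨fun h => ⟨h.le, h.isPGroup, fun _ hQ hQH hPQ => h.eq_of_le hQ hQH hPQ⟩,
    fun h => of_maximal h.1 h.2.1 h.2.2⟩

/-- Every `p`-subgroup of `H` lies in a Sylow `p`-subgroup of `H`. -/
theorem exists_le (hP : IsPGroup p P) (hPH : P ≤ H) : ∃ Q, IsSylowIn p Q H ∧ P ≤ Q := by
  have h1 : IsPGroup p (P.subgroupOf H) := hP.comap_of_injective _ H.subtype_injective
  obtain ⟨S, hS⟩ := h1.exists_le_sylow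
  refine ⟨_, of_sylow S, fun x hx => ⟨⟨x, hPH hx⟩, hS hx, rfl⟩⟩

theorem exists_sylowIn (p : ℕ) (H : Subgroup G) : ∃ Q, IsSylowIn p Q H := by
  obtain ⟨Q, hQ, -⟩ := exists_le (p := p) (P := ⊥) (H := H) IsPGroup.of_bot bot_le
  exact ⟨Q, hQ⟩

/-- A Sylow subgroup of `H` is a Sylow subgroup of every intermediate subgroup. -/
theorem of_le (h : IsSylowIn p P H) (hPK : P ≤ K) (hKH : K ≤ H) : IsSylowIn p P K :=
  of_maximal hPK h.isPGroup fun _ hQ hQK hPQ => h.eq_of_le hQ (hQK.trans hKH) hPQ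

theorem top_iff : IsSylowIn p P ⊤ ↔ ∃ S : Sylow p G, (S : Subgroup G) = P := by
  constructor
  · intro h
    exact ⟨⟨P, h.isPGroup, fun hQ hle => h.eq_of_le hQ le_top hle⟩, rfl⟩
  · rintro ⟨S, rfl⟩
    exact of_maximal le_top S.isPGroup' fun _ hQ _ hle => S.is_maximal' hQ hle

/-- A Sylow subgroup of `G` inside `H` is a Sylow subgroup of `H`. -/
theorem of_sylow_le (S : Sylow p G) (hS : (S : Subgroup G) ≤ H) : IsSylowIn p (S : Subgroup G) H :=
  (top_iff.2 ⟨S, rfl⟩).of_le hS le_top

/-- Transport along an injective homomorphism. -/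
theorem map_of_injective {G' : Type*} [Group G'] (f : G →* G') (hf : Function.Injective f)
    (h : IsSylowIn p P H) : IsSylowIn p (P.map f) (H.map f) := by
  refine of_maximal (Subgroup.map_mono h.le) (h.isPGroup.map _) fun Q hQ hQH hPQ => ?_
  have h1 : Q.comap f = P := by
    refine h.eq_of_le (hQ.comap_of_injective f hf) ?_ (Subgroup.map_le_iff_le_comap.1 hPQ)
    intro x hx
    obtain ⟨y, hy, hyx⟩ := hQH hx
    rwa [← hf hyx]
  rw [← h1, Subgroup.map_comap_eq, inf_eq_right.2 (hQH.trans (Subgroup.map_le_range _ _))]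

/-- Pull back along an injective homomorphism. -/
theorem of_map_of_injective {G' : Type*} [Group G'] (f : G →* G') (hf : Function.Injective f)
    (h : IsSylowIn p (P.map f) (H.map f)) : IsSylowIn p P H := by
  refine of_maximal ((Subgroup.map_le_map_iff_of_injective hf).1 h.le)
    (h.isPGroup.of_equiv (P.equivMapOfInjective f hf).symm) fun Q hQ hQH hPQ => ?_
  exact Subgroup.map_injective hf
    (h.eq_of_le (hQ.map f) (Subgroup.map_mono hQH) (Subgroup.map_mono hPQ))

theorem map_conj (h : IsSylowIn p P H) (x : G) :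
    IsSylowIn p (P.map (MulAut.conj x).toMonoidHom) (H.map (MulAut.conj x).toMonoidHom) :=
  h.map_of_injective _ (MulAut.conj x).injective

section Finite

variable [Finite G] [Fact p.Prime]

theorem card_eq (h : IsSylowIn p P H) : Nat.card P = p ^ (Nat.card H).factorization p := by
  obtain ⟨S, rfl⟩ := h
  rw [Subgroup.card_map_of_injective H.subtype_injective, S.card_eq_multiplicity]

theorem of_card_eq (hPH : P ≤ H) (hc : Nat.card P = p ^ (Nat.card H).factorization p) :
    IsSylowIn p P H := by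
  refine ⟨Sylow.ofCard (P.subgroupOf H) ?_, ?_⟩
  · rw [← hc]
    exact Nat.card_congr (Subgroup.subgroupOfEquivOfLe hPH).toEquiv
  · rw [Sylow.coe_ofCard, Subgroup.subgroupOf_map_subtype, inf_eq_left.2 hPH]

theorem iff_card : IsSylowIn p P H ↔ P ≤ H ∧ Nat.card P = p ^ (Nat.card H).factorization p :=
  ⟨fun h => ⟨h.le, h.card_eq⟩, fun h => of_card_eq h.1 h.2⟩

theorem not_dvd_relIndex (h : IsSylowIn p P H) : ¬ p ∣ P.relIndex H := by
  obtain ⟨S, rfl⟩ := h
  rw [Subgroup.relIndex, Subgroup.subgroupOf,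
    Subgroup.comap_map_eq_self_of_injective H.subtype_injective]
  exact S.not_dvd_index

theorem of_not_dvd_relIndex (hPH : P ≤ H) (hP : IsPGroup p P) (hi : ¬ p ∣ P.relIndex H) :
    IsSylowIn p P H := by
  have h1 : IsPGroup p (P.subgroupOf H) := hP.comap_of_injective _ H.subtype_injective
  refine ⟨h1.toSylow hi, ?_⟩
  change (P.subgroupOf H).map H.subtype = P
  rw [Subgroup.subgroupOf_map_subtype, inf_eq_left.2 hPH]

theorem iff_relIndex : IsSylowIn p P H ↔ P ≤ H ∧ IsPGroup p P ∧ ¬ p ∣ P.relIndex H :=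
  ⟨fun h => ⟨h.le, h.isPGroup, h.not_dvd_relIndex⟩,
    fun h => of_not_dvd_relIndex h.1 h.2.1 h.2.2⟩

/-- The order of a `p`-subgroup of `H` divides the order of a Sylow `p`-subgroup of `H`. -/
theorem card_dvd (h : IsSylowIn p P H) (hQ : IsPGroup p Q) (hQH : Q ≤ H) :
    Nat.card Q ∣ Nat.card P := by
  obtain ⟨k, hk⟩ := hQ.exists_card_eq
  rw [h.card_eq, hk]
  refine pow_dvd_pow _ ?_
  rw [← (Fact.out : p.Prime).pow_dvd_iff_le_factorization Nat.card_pos.ne', ← hk]
  exact Subgroup.card_dvd_of_le hQH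

/-- Sylow's second theorem inside `H`. -/
theorem exists_conj (hP : IsSylowIn p P H) (hQ : IsSylowIn p Q H) :
    ∃ x ∈ H, P.map (MulAut.conj x).toMonoidHom = Q := by
  obtain ⟨S, rfl⟩ := hP
  obtain ⟨T, rfl⟩ := hQ
  obtain ⟨x, hx⟩ := MulAction.exists_smul_eq H S T
  refine ⟨x, x.2, ?_⟩
  rw [← hx, Sylow.coe_subgroup_smul]
  change _ = ((S : Subgroup H).map (MulAut.conj x).toMonoidHom).map H.subtype
  rw [Subgroup.map_map, Subgroup.map_map]
  rfl

/-- Every `p`-subgroup of `H` is conjugate in `H` into a given Sylow `p`-subgroup of `H`. -/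
theorem exists_conj_le (hP : IsSylowIn p P H) (hQ : IsPGroup p Q) (hQH : Q ≤ H) :
    ∃ x ∈ H, Q.map (MulAut.conj x).toMonoidHom ≤ P := by
  obtain ⟨R, hR, hQR⟩ := exists_le hQ hQH
  obtain ⟨x, hx, hxR⟩ := hR.exists_conj hP
  exact ⟨x, hx, hxR ▸ Subgroup.map_mono hQR⟩

/-- Every `p`-subgroup of `H` lies in an `H`-conjugate of a given Sylow `p`-subgroup of `H`. -/
theorem exists_le_conj (hP : IsSylowIn p P H) (hQ : IsPGroup p Q) (hQH : Q ≤ H) :
    ∃ x ∈ H, Q ≤ P.map (MulAut.conj x).toMonoidHom := by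
  obtain ⟨R, hR, hQR⟩ := exists_le hQ hQH
  obtain ⟨x, hx, hxR⟩ := hP.exists_conj hR
  exact ⟨x, hx, hxR ▸ hQR⟩

/-- A `p`-subgroup of `H` that is Sylow in its normaliser in `H` is Sylow in `H`. -/
theorem of_inf_normalizer (hPH : P ≤ H)
    (h : IsSylowIn p P (H ⊓ Subgroup.normalizer (P : Set G))) : IsSylowIn p P H := by
  refine of_maximal hPH h.isPGroup fun Q hQ hQH hPQ => ?_
  by_contra hne
  have hlt : P.subgroupOf Q < ⊤ := by
    rw [lt_top_iff_ne_top, Ne, Subgroup.subgroupOf_eq_top]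
    exact fun hle => hne (le_antisymm hle hPQ)
  have : Group.IsNilpotent Q := hQ.isNilpotent
  have hlt' := Group.normalizerCondition_of_isNilpotent (G := Q) _ hlt
  obtain ⟨x, hxN, hxP⟩ := SetLike.exists_of_lt hlt'
  have hxN' : (x : G) ∈ Subgroup.normalizer (P : Set G) := by
    have := (Subgroup.subgroupOf_normalizer_eq hPQ) ▸ hxN
    exact this
  have h2 := h.eq_of_le (Q := Q ⊓ Subgroup.normalizer (P : Set G)) (hQ.to_inf_left)
    (inf_le_inf_right _ hQH) (le_inf hPQ Subgroup.le_normalizer)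
  apply hxP
  change (x : G) ∈ P
  rw [← h2]
  exact ⟨x.2, hxN'⟩

end Finite

end IsSylowIn

/-- The centraliser of a conjugate element is the conjugate of the centraliser. -/
theorem centralizer_singleton_conj (x g : G) :
    Subgroup.centralizer ({x * g * x⁻¹} : Set G) =
      (Subgroup.centralizer ({g} : Set G)).map (MulAut.conj x).toMonoidHom := by
  ext y
  simp only [Subgroup.mem_map, Subgroup.mem_centralizer_singleton_iff, MulEquiv.coe_toMonoidHom,
    MulAut.conj_apply]
  constructor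
  · intro h
    refine ⟨x⁻¹ * y * x, ?_, by group⟩
    calc x⁻¹ * y * x * g = x⁻¹ * (y * (x * g * x⁻¹)) * x := by group
      _ = g * (x⁻¹ * y * x) := by rw [h]; group
  · rintro ⟨z, hz, rfl⟩
    calc x * z * x⁻¹ * (x * g * x⁻¹) = x * (z * g) * x⁻¹ := by group
      _ = _ := by rw [hz]; group

theorem card_centralizer_singleton_of_isConj {g h : G} (hgh : IsConj g h) :
    Nat.card (Subgroup.centralizer ({h} : Set G)) = Nat.card (Subgroup.centralizer ({g} : Set G)) := by
  obtain ⟨x, rfl⟩ := isConj_iff.1 hgh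
  rw [centralizer_singleton_conj]
  exact Subgroup.card_map_of_injective (MulAut.conj x).injective

theorem le_centralizer_singleton_iff {P : Subgroup G} {g : G} :
    P ≤ Subgroup.centralizer ({g} : Set G) ↔ g ∈ Subgroup.centralizer (P : Set G) := by
  rw [Subgroup.mem_centralizer_iff]
  constructor
  · intro h x hx
    exact Subgroup.mem_centralizer_singleton_iff.1 (h hx)
  · intro h x hx
    exact Subgroup.mem_centralizer_singleton_iff.2 (h x hx)

theorem map_conj_map_conj (P : Subgroup G) (x y : G) :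
    (P.map (MulAut.conj x).toMonoidHom).map (MulAut.conj y).toMonoidHom =
      P.map (MulAut.conj (y * x)).toMonoidHom := by
  rw [Subgroup.map_map]
  congr 1
  ext z
  simp [mul_assoc]

theorem map_conj_eq_iff_mem_normalizer {P : Subgroup G} {x : G} :
    P.map (MulAut.conj x).toMonoidHom = P ↔ x ∈ Subgroup.normalizer (P : Set G) := by
  rw [Subgroup.mem_normalizer_iff]
  constructor
  · intro h y
    conv_rhs => rw [← h]
    constructor
    · intro hy
      exact ⟨y, hy, rfl⟩
    · rintro ⟨z, hz, hzy⟩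
      have : z = y := (MulAut.conj x).injective hzy
      exact this ▸ hz
  · intro h
    ext y
    constructor
    · rintro ⟨z, hz, rfl⟩
      exact (h z).1 hz
    · intro hy
      refine ⟨x⁻¹ * y * x, (h _).2 ?_, by simp [mul_assoc]⟩
      simpa [mul_assoc] using hy

end CL.Blocks
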