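import Cfsg.Agent.Base
import Cfsg.Agent.Blocks.ZA
import Cfsg.Agent.Blocks.SylowIn

/-!
# The Brauer homomorphism

For a `p`-subgroup `P` of `G` and an injective homomorphism `φ : H →* G` whose image lies between
`C_G(P)` and `N_G(P)` (`IsBrauerSetup p P φ`), the map `ZA.br` keeps the part of a central element
of `R[G]` that is supported on `C_G(P)`.  In characteristic `p` it is an algebra homomorphism
`Z(RG) → Z(RH)`.
-/

set_option autoImplicit false
set_option linter.unusedSectionVars false

namespace CL.Blocks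

section Sums

variable {R : Type*} [CommRing R] {p : ℕ} [Fact p.Prime]

/-- In characteristic `p`, the sum of an invariant function over a finite set acted on by a
`p`-group is the sum over the fixed points. -/
theorem sum_eq_sum_fixedPoints (hp : (p : R) = 0) {P X : Type*} [Group P] (hP : IsPGroup p P)
    [MulAction P X] [Fintype X] [DecidablePred (· ∈ MulAction.fixedPoints P X)] (f : X → R)
    (hf : ∀ (u : P) (x : X), f (u • x) = f x) :
    ∑ x, f x = ∑ x with x ∈ MulAction.fixedPoints P X, f x := by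
  classical
  rw [← Finset.sum_filter_add_sum_filter_not Finset.univ (· ∈ MulAction.fixedPoints P X),
    add_eq_left, Finset.sum_filter]
  have := Fintype.ofFinite (MulAction.orbitRel.Quotient P X)
  rw [← Finset.sum_fiberwise Finset.univ
    (fun x => (Quotient.mk'' x : MulAction.orbitRel.Quotient P X))]
  refine Finset.sum_eq_zero fun ω _ => ?_
  induction ω using Quotient.inductionOn' with
  | h a =>
  have hmem : ∀ x, x ∈ Finset.univ.filter (fun x => (Quotient.mk'' x :
      MulAction.orbitRel.Quotient P X) = Quotient.mk'' a) ↔ x ∈ MulAction.orbit P a := by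
    intro x
    rw [Finset.mem_filter, Quotient.eq'', MulAction.orbitRel_apply]
    simp
  by_cases ha : a ∈ MulAction.fixedPoints P X
  · refine Finset.sum_eq_zero fun x hx => ?_
    obtain ⟨u, rfl⟩ := (hmem x).1 hx
    have : u • a = a := ha u
    simp only [this, ha, not_true_eq_false, if_false]
  · have h1 : ∀ x ∈ Finset.univ.filter (fun x => (Quotient.mk'' x :
        MulAction.orbitRel.Quotient P X) = Quotient.mk'' a),
        (if ¬ x ∈ MulAction.fixedPoints P X then f x else 0) = f a := by
      intro x hx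
      obtain ⟨u, rfl⟩ := (hmem x).1 hx
      rw [if_pos, hf]
      intro hfix
      apply ha
      have h2 : u • a = a := by
        have := hfix u⁻¹
        simp only [inv_smul_smul] at this
        exact this.symm
      simpa only [h2] using hfix
    rw [Finset.sum_congr rfl h1, Finset.sum_const, nsmul_eq_mul]
    obtain ⟨n, hn⟩ := hP.card_orbit a
    have h3 : (Finset.univ.filter (fun x => (Quotient.mk'' x :
        MulAction.orbitRel.Quotient P X) = Quotient.mk'' a)).card = p ^ n := by
      rw [← hn, Nat.card_coe_set_eq, ← Set.ncard_coe_finset]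
      congr 1
      ext x
      exact hmem x
    have hn0 : n ≠ 0 := by
      rintro rfl
      apply ha
      rw [MulAction.mem_fixedPoints_iff_card_orbit_eq_one, Fintype.card_eq_nat_card, hn, pow_zero]
    rw [h3, Nat.cast_pow, hp, zero_pow hn0, zero_mul]

variable {G : Type*} [Group G]

/-- In characteristic `p`, the sum over `G` of a function invariant under conjugation by the
`p`-subgroup `P` is the sum over `C_G(P)`. -/
theorem sum_eq_sum_centralizer (hp : (p : R) = 0) [Fintype G] {P : Subgroup G} (hP : IsPGroup p P)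
    [DecidablePred (· ∈ Subgroup.centralizer (P : Set G))] (f : G → R)
    (hf : ∀ u ∈ P, ∀ x : G, f (u * x * u⁻¹) = f x) :
    ∑ x, f x = ∑ x with x ∈ Subgroup.centralizer (P : Set G), f x := by
  classical
  let _ : MulAction P G := MulAction.compHom G ((MulAut.conj : G →* MulAut G).comp P.subtype)
  rw [sum_eq_sum_fixedPoints hp hP f fun u x => hf u u.2 x]
  refine Finset.sum_congr ?_ fun _ _ => rfl
  ext x
  simp only [Finset.mem_filter, Finset.mem_univ, true_and, MulAction.mem_fixedPoints,
    Subgroup.mem_centralizer_iff]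
  constructor
  · intro h u hu
    have : u * x * u⁻¹ = x := h ⟨u, hu⟩
    rw [mul_inv_eq_iff_eq_mul] at this
    exact this
  · intro h u
    change (u : G) * x * (u : G)⁻¹ = x
    rw [h u u.2, mul_inv_cancel_right]

end Sums

variable {G H Q : Type*} [Group G] [Group H] [Group Q]

theorem conj_mem_centralizer_iff {P : Subgroup G} {n : G}
    (hn : n ∈ Subgroup.normalizer (P : Set G)) (g : G) :
    n * g * n⁻¹ ∈ Subgroup.centralizer (P : Set G) ↔ g ∈ Subgroup.centralizer (P : Set G) := by
  have key : ∀ n ∈ Subgroup.normalizer (P : Set G), ∀ g ∈ Subgroup.centralizer (P : Set G),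
      n * g * n⁻¹ ∈ Subgroup.centralizer (P : Set G) := by
    intro n hn g hg
    rw [Subgroup.mem_centralizer_iff] at hg ⊢
    intro u hu
    have h1 : n⁻¹ * u * n ∈ P := by
      have := (Subgroup.mem_normalizer_iff.1 (inv_mem hn) u).1 hu
      simpa using this
    calc u * (n * g * n⁻¹) = n * ((n⁻¹ * u * n) * g) * n⁻¹ := by group
      _ = n * g * n⁻¹ * u := by rw [hg _ h1]; group
  refine ⟨fun h => ?_, key n hn g⟩
  have := key n⁻¹ (inv_mem hn) _ h
  simpa [mul_assoc] using this

/-- The standing hypotheses for the Brauer homomorphism: `P` is a `p`-subgroup of `G`, and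
`φ : H →* G` is injective with `C_G(P) ≤ φ(H) ≤ N_G(P)`. -/
structure IsBrauerSetup (p : ℕ) (P : Subgroup G) (φ : H →* G) : Prop where
  isPGroup : IsPGroup p P
  inj : Function.Injective φ
  cent : ∀ g ∈ Subgroup.centralizer (P : Set G), ∃ h, φ h = g
  norm : ∀ h, φ h ∈ Subgroup.normalizer (P : Set G)

theorem isBrauerSetup_subtype {p : ℕ} {P K : Subgroup G} (hP : IsPGroup p P)
    (hC : Subgroup.centralizer (P : Set G) ≤ K) (hN : K ≤ Subgroup.normalizer (P : Set G)) :
    IsBrauerSetup p P K.subtype :=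
  ⟨hP, K.subtype_injective, fun g hg => ⟨⟨g, hC hg⟩, rfl⟩, fun h => hN h.2⟩

theorem centralizer_le_normalizer' (P : Subgroup G) :
    Subgroup.centralizer (P : Set G) ≤ Subgroup.normalizer (P : Set G) := by
  intro g hg
  rw [Subgroup.mem_normalizer_iff]
  rw [Subgroup.mem_centralizer_iff] at hg
  intro u
  constructor
  · intro hu
    rw [← hg u hu, mul_inv_cancel_right]
    exact hu
  · intro hu
    have h1 := hg _ hu
    have h2 : g * u * g⁻¹ = u := by
      have : g * (g * u * g⁻¹) = g * u := by rw [← h1]; group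
      exact mul_left_cancel this
    rwa [h2] at hu

theorem isBrauerSetup_centralizer {p : ℕ} {P : Subgroup G} (hP : IsPGroup p P) :
    IsBrauerSetup p P (Subgroup.centralizer (P : Set G)).subtype :=
  isBrauerSetup_subtype hP le_rfl (centralizer_le_normalizer' P)

theorem isBrauerSetup_normalizer {p : ℕ} {P : Subgroup G} (hP : IsPGroup p P) :
    IsBrauerSetup p P (Subgroup.normalizer (P : Set G)).subtype :=
  isBrauerSetup_subtype hP (centralizer_le_normalizer' P) le_rfl

theorem isBrauerSetup_id {p : ℕ} {P : Subgroup G} [P.Normal] (hP : IsPGroup p P) :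
    IsBrauerSetup p P (MonoidHom.id G) :=
  ⟨hP, Function.injective_id, fun g _ => ⟨g, rfl⟩, fun h => by
    rw [Subgroup.normalizer_eq_top]; trivial⟩

theorem mem_centralizer_comap_iff {P : Subgroup G} {φ : H →* G} (hφ : Function.Injective φ)
    (hP : P ≤ φ.range) (h : H) :
    h ∈ Subgroup.centralizer (P.comap φ : Set H) ↔ φ h ∈ Subgroup.centralizer (P : Set G) := by
  simp only [Subgroup.mem_centralizer_iff]
  constructor
  · intro hh u hu
    obtain ⟨v, rfl⟩ := hP hu
    rw [← map_mul, ← map_mul, hh v hu]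
  · intro hh v hv
    apply hφ
    rw [map_mul, map_mul, hh _ hv]

theorem mem_normalizer_comap {P : Subgroup G} {φ : H →* G} {h : H}
    (hh : φ h ∈ Subgroup.normalizer (P : Set G)) :
    h ∈ Subgroup.normalizer (P.comap φ : Set H) := by
  rw [Subgroup.mem_normalizer_iff] at hh ⊢
  intro v
  rw [Subgroup.mem_comap, Subgroup.mem_comap, map_mul, map_mul, map_inv]
  exact hh _

theorem IsBrauerSetup.normal_comap {p : ℕ} {P : Subgroup G} {φ : H →* G}
    (hs : IsBrauerSetup p P φ) : (P.comap φ).Normal :=
  Subgroup.normalizer_eq_top_iff.1 (eq_top_iff.2 fun h _ => mem_normalizer_comap (hs.norm h))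

theorem IsBrauerSetup.isPGroup_comap {p : ℕ} {P : Subgroup G} {φ : H →* G}
    (hs : IsBrauerSetup p P φ) : IsPGroup p (P.comap φ) :=
  hs.isPGroup.comap_of_injective φ hs.inj

/-- A Brauer set-up `Q → G` that factors through an injective `φ : H →* G` whose image contains `P`
gives a Brauer set-up `Q → H`. -/
theorem IsBrauerSetup.of_comp {p : ℕ} {P : Subgroup G} {φ : H →* G} {ψ : Q →* H}
    (hφ : Function.Injective φ) (hP : P ≤ φ.range) (hs : IsBrauerSetup p P (φ.comp ψ)) :
    IsBrauerSetup p (P.comap φ) ψ where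
  isPGroup := hs.isPGroup.comap_of_injective φ hφ
  inj := Function.Injective.of_comp (f := φ) hs.inj
  cent := fun h hh => by
    obtain ⟨q, hq⟩ := hs.cent _ ((mem_centralizer_comap_iff hφ hP h).1 hh)
    exact ⟨q, hφ hq⟩
  norm := fun q => mem_normalizer_comap (hs.norm q)

namespace ZA

variable {R : Type*} [CommRing R] [Finite G] [Finite H] [Finite Q]

theorem brL_aux {P : Subgroup G} {φ : H →* G} (hN : ∀ h, φ h ∈ Subgroup.normalizer (P : Set G))
    (g h : H) : h * g * h⁻¹ ∈ {h | φ h ∈ Subgroup.centralizer (P : Set G)} ↔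
      g ∈ {h | φ h ∈ Subgroup.centralizer (P : Set G)} := by
  simp only [Set.mem_ofPred_eq, map_mul, map_inv]
  exact conj_mem_centralizer_iff (hN h) _

variable (R) in
/-- The Brauer map as a linear map: keep the part supported on `C_G(P)`. -/
noncomputable def brL (P : Subgroup G) (φ : H →* G)
    (hN : ∀ h, φ h ∈ Subgroup.normalizer (P : Set G)) : ZA R G →ₗ[R] ZA R H :=
  (trunc R {h | φ h ∈ Subgroup.centralizer (P : Set G)} (brL_aux hN)).comp (res R φ)

theorem co_brL_of_mem {P : Subgroup G} {φ : H →* G} (hN) (z : ZA R G) {h : H}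
    (hh : φ h ∈ Subgroup.centralizer (P : Set G)) : (brL R P φ hN z).co h = z.co (φ h) :=
  co_trunc_of_mem (brL_aux hN) (res R φ z) hh

theorem co_brL_of_not_mem {P : Subgroup G} {φ : H →* G} (hN) (z : ZA R G) {h : H}
    (hh : φ h ∉ Subgroup.centralizer (P : Set G)) : (brL R P φ hN z).co h = 0 :=
  co_trunc_of_not_mem (brL_aux hN) (res R φ z) hh

variable {p : ℕ} [Fact p.Prime]

theorem brL_mul (hp : (p : R) = 0) {P : Subgroup G} {φ : H →* G} (hs : IsBrauerSetup p P φ)
    (z w : ZA R G) :
    brL R P φ hs.norm (z * w) = brL R P φ hs.norm z * brL R P φ hs.norm w := by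
  classical
  have := Fintype.ofFinite G
  have := Fintype.ofFinite H
  apply ext'
  intro h
  rw [co_mul]
  by_cases hh : φ h ∈ Subgroup.centralizer (P : Set G)
  · rw [co_brL_of_mem _ _ hh, co_mul, sum_eq_sum_centralizer hp hs.isPGroup]
    · symm
      rw [← Finset.sum_filter_of_ne (p := fun a => φ a ∈ Subgroup.centralizer (P : Set G))]
      · refine Finset.sum_bij (fun a _ => φ a) (fun a ha => by simpa using ha)
          (fun a _ b _ hab => hs.inj hab) (fun g hg => ?_) fun a ha => ?_
        · obtain ⟨a, rfl⟩ := hs.cent g (by simpa using hg)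
          exact ⟨a, by simpa using hg, rfl⟩
        · have ha' : φ a ∈ Subgroup.centralizer (P : Set G) := by simpa using ha
          rw [co_brL_of_mem _ _ ha', co_brL_of_mem, map_mul, map_inv]
          rw [map_mul, map_inv]
          exact mul_mem (inv_mem ha') hh
      · intro a _ ha
        by_contra hc
        exact ha (by rw [co_brL_of_not_mem _ _ hc, zero_mul])
    · intro u hu x
      rw [co_conj, ← w.co_conj (x⁻¹ * φ h) u]
      congr 2
      have := Subgroup.mem_centralizer_iff.1 hh u hu
      calc (u * x * u⁻¹)⁻¹ * φ h = u * x⁻¹ * u⁻¹ * (φ h * u) * u⁻¹ := by group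
        _ = u * (x⁻¹ * φ h) * u⁻¹ := by rw [← this]; group
  · rw [co_brL_of_not_mem _ _ hh]
    symm
    refine Finset.sum_eq_zero fun a _ => ?_
    by_cases ha : φ a ∈ Subgroup.centralizer (P : Set G)
    · rw [co_brL_of_not_mem _ w, mul_zero]
      intro hc
      apply hh
      rw [map_mul, map_inv] at hc
      simpa using mul_mem ha hc
    · rw [co_brL_of_not_mem _ _ ha, zero_mul]

theorem brL_one {P : Subgroup G} {φ : H →* G} (hs : IsBrauerSetup p P φ) :
    brL R P φ hs.norm 1 = 1 := by
  apply ext'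
  intro h
  by_cases hh : φ h ∈ Subgroup.centralizer (P : Set G)
  · rw [co_brL_of_mem _ _ hh, ← co_res, res_one hs.inj]
  · rw [co_brL_of_not_mem _ _ hh, co_one_of_ne]
    rintro rfl
    exact hh (by rw [map_one]; exact one_mem _)

/-- The Brauer homomorphism `Br_P : Z(RG) → Z(RH)` (`R` of characteristic `p`). -/
noncomputable def br (hp : (p : R) = 0) {P : Subgroup G} {φ : H →* G} (hs : IsBrauerSetup p P φ) :
    ZA R G →ₐ[R] ZA R H :=
  AlgHom.ofLinearMap (brL R P φ hs.norm) (brL_one hs) (brL_mul hp hs)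

section

variable (hp : (p : R) = 0) {P : Subgroup G} {φ : H →* G} (hs : IsBrauerSetup p P φ)

theorem br_apply (z : ZA R G) : br hp hs z = brL R P φ hs.norm z := rfl

theorem co_br_of_mem (z : ZA R G) {h : H} (hh : φ h ∈ Subgroup.centralizer (P : Set G)) :
    (br hp hs z).co h = z.co (φ h) := co_brL_of_mem hs.norm z hh

theorem co_br_of_not_mem (z : ZA R G) {h : H} (hh : φ h ∉ Subgroup.centralizer (P : Set G)) :
    (br hp hs z).co h = 0 := co_brL_of_not_mem hs.norm z hh

theorem co_br_ne_zero_iff (z : ZA R G) (h : H) :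
    (br hp hs z).co h ≠ 0 ↔ φ h ∈ Subgroup.centralizer (P : Set G) ∧ z.co (φ h) ≠ 0 := by
  by_cases hh : φ h ∈ Subgroup.centralizer (P : Set G)
  · rw [co_br_of_mem hp hs z hh]
    simp [hh]
  · rw [co_br_of_not_mem hp hs z hh]
    simp [hh]

/-- `Br_P(z) ≠ 0` iff the support of `z` meets `C_G(P)`. -/
theorem br_ne_zero_iff (z : ZA R G) :
    br hp hs z ≠ 0 ↔ ∃ g ∈ Subgroup.centralizer (P : Set G), z.co g ≠ 0 := by
  constructor
  · intro h
    obtain ⟨h, hh⟩ := exists_co_ne_zero h
    exact ⟨φ h, (co_br_ne_zero_iff hp hs z h).1 hh⟩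
  · rintro ⟨g, hg, hz⟩
    obtain ⟨h, rfl⟩ := hs.cent g hg
    exact ne_zero_of_co_ne_zero ((co_br_ne_zero_iff hp hs z h).2 ⟨hg, hz⟩)

theorem br_cls_ne_zero_iff [Nontrivial R] (g : G) :
    br hp hs (cls R g) ≠ 0 ↔ ∃ c, IsConj g c ∧ c ∈ Subgroup.centralizer (P : Set G) := by
  rw [br_ne_zero_iff]
  constructor
  · rintro ⟨c, hc, hz⟩
    exact ⟨c, isConj_of_co_cls_ne_zero hz, hc⟩
  · rintro ⟨c, hgc, hc⟩
    exact ⟨c, hc, by rw [co_cls_of_isConj hgc]; exact one_ne_zero⟩

/-- The part of `res z` removed by the Brauer map lives off `C_G(P)`. -/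
theorem not_mem_of_co_res_sub_br (z : ZA R G) {h : H} (hh : (res R φ z - br hp hs z).co h ≠ 0) :
    φ h ∉ Subgroup.centralizer (P : Set G) := by
  intro hc
  apply hh
  rw [co_sub, co_br_of_mem hp hs z hc, co_res, sub_self]

end

end ZA

end CL.Blocks
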