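import Cfsg.Agent.Base

/-!
# The kernel of `F[G] → F[G ⧸ P]` is nil for a normal `p`-subgroup `P` in characteristic `p`
-/

set_option autoImplicit false

namespace CL.Blocks

open scoped MonoidAlgebra

/-- A finite `p`-group acting on a nonzero abelian group killed by `p` fixes a nonzero element. -/
theorem exists_ne_zero_fixed_of_isPGroup {P A : Type*} [Group P] [Finite P] [AddCommGroup A]
    [DistribMulAction P A] {p : ℕ} [hp : Fact p.Prime] (hP : IsPGroup p P)
    (hA : ∀ a : A, p • a = 0) {v : A} (hv : v ≠ 0) : ∃ a : A, a ≠ 0 ∧ ∀ u : P, u • a = a := by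
  let B : AddSubgroup A := AddSubgroup.closure (Set.range fun u : P => u • v)
  have hB : ∀ (u : P) (a : A), a ∈ B → u • a ∈ B := by
    intro u a ha
    induction ha using AddSubgroup.closure_induction with
    | mem x hx =>
      obtain ⟨w, rfl⟩ := hx
      exact AddSubgroup.subset_closure ⟨u * w, mul_smul u w v⟩
    | zero => rw [smul_zero]; exact B.zero_mem
    | add x y _ _ hx hy => rw [smul_add]; exact B.add_mem hx hy
    | neg x _ hx => rw [smul_neg]; exact B.neg_mem hx
  have hfg : AddGroup.FG B := by
    rw [AddGroup.fg_iff_addSubgroup_fg, AddSubgroup.fg_iff]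
    exact ⟨_, rfl, Set.finite_range _⟩
  have htor : IsAddTorsion B := fun b =>
    isOfFinAddOrder_iff_nsmul_eq_zero.2 ⟨p, hp.out.pos, Subtype.ext (hA b)⟩
  have hfin : Finite B := AddCommGroup.finite_of_fg_isAddTorsion B htor
  let S : SubMulAction P A := ⟨B, fun u a ha => hB u a ha⟩
  have hfinS : Finite S := hfin
  have hvB : v ∈ B := AddSubgroup.subset_closure ⟨1, one_smul P v⟩
  have hdvd : p ∣ Nat.card S := by
    have h1 : addOrderOf (⟨v, hvB⟩ : B) = p :=
      addOrderOf_eq_prime (Subtype.ext (hA v)) fun h => hv (congrArg Subtype.val h)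
    rw [← h1]
    exact addOrderOf_dvd_natCard (⟨v, hvB⟩ : B)
  obtain ⟨b, hb, hb0⟩ := hP.exists_fixed_point_of_prime_dvd_card_of_fixed_point S hdvd
    (a := ⟨0, B.zero_mem⟩) (fun u => Subtype.ext (smul_zero u))
  exact ⟨b, fun h => hb0 (Subtype.ext h.symm), fun u => congrArg Subtype.val (hb u)⟩

variable {G : Type*} [Group G] [Finite G] {p : ℕ} [hp : Fact p.Prime] {F : Type*} [Field F]
  [CharP F p]

/-- If all the sums of the coefficients of `a` over cosets of the normal `p`-subgroup `P` vanish,
then a fixed power of all such elements vanishes. -/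
theorem exists_forall_pow_eq_zero_of_coset_sum (P : Subgroup G) [hPn : P.Normal]
    (hP : IsPGroup p P) : ∃ n : ℕ, ∀ l : List F[G], l.length = n →
      (∀ a ∈ l, MonoidAlgebra.mapDomain (QuotientGroup.mk : G → G ⧸ P) a = 0) → l.prod = 0 := by
  classical
  have := Fintype.ofFinite G
  have : IsNoetherian F[G] F[G] := isNoetherian_of_tower F inferInstance
  suffices h : ∀ W : Submodule F[G] F[G], ∃ n : ℕ, ∀ l : List F[G], l.length = n →
      (∀ a ∈ l, MonoidAlgebra.mapDomain (QuotientGroup.mk : G → G ⧸ P) a = 0) → l.prod ∈ W by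
    simpa using h ⊥
  intro W
  induction W using IsNoetherian.induction with
  | _ W ih =>
  by_cases hW : W = ⊤
  · exact ⟨0, fun _ _ _ => hW ▸ Submodule.mem_top⟩
  -- the vectors fixed by `P` modulo `W`
  let W' : Submodule F[G] F[G] :=
    { carrier := {v | ∀ u ∈ P, MonoidAlgebra.single u (1 : F) * v - v ∈ W}
      add_mem' := fun {a b} ha hb u hu => by
        have := W.add_mem (ha u hu) (hb u hu)
        convert this using 1
        rw [mul_add]; abel
      zero_mem' := fun u _ => by simp
      smul_mem' := fun c v hv u hu => by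
        induction c using MonoidAlgebra.induction_linear with
        | zero => simp
        | add a b ha hb =>
          have := W.add_mem ha hb
          convert this using 1
          simp only [smul_eq_mul, add_mul, mul_add]; abel
        | single g r =>
          have := W.smul_mem (MonoidAlgebra.single g r) (hv (g⁻¹ * u * g⁻¹⁻¹) (hPn.conj_mem u hu _))
          convert this using 1
          simp only [smul_eq_mul, mul_sub, ← mul_assoc, MonoidAlgebra.single_mul_single]
          simp }
  have hWW' : W < W' := by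
    refine lt_of_le_of_ne (fun v hv u _ => W.sub_mem (W.smul_mem _ hv) hv) fun h => ?_
    let _ : DistribMulAction P (F[G] ⧸ W) :=
      DistribMulAction.compHom _ ((MonoidAlgebra.of F G).comp P.subtype)
    have hnt : Nontrivial (F[G] ⧸ W) := Submodule.Quotient.nontrivial_iff.2 hW
    obtain ⟨v, hv⟩ := exists_ne (0 : F[G] ⧸ W)
    obtain ⟨a, ha0, ha⟩ := exists_ne_zero_fixed_of_isPGroup (A := F[G] ⧸ W) hP (fun a => by
      rw [← Nat.cast_smul_eq_nsmul F, CharP.cast_eq_zero, zero_smul]) hv
    obtain ⟨a, rfl⟩ := W.mkQ_surjective a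
    refine ha0 ((Submodule.Quotient.mk_eq_zero W).2 ?_)
    rw [h]
    intro u hu
    rw [← Submodule.Quotient.eq]
    exact ha ⟨u, hu⟩
  obtain ⟨n, hn⟩ := ih W' hWW'
  refine ⟨n + 1, fun l hl h => ?_⟩
  obtain _ | ⟨a, l⟩ := l
  · simp at hl
  have hv : l.prod ∈ W' := hn l (by simpa using hl) fun b hb => h b (List.mem_cons_of_mem a hb)
  have ha := h a List.mem_cons_self
  rw [List.prod_cons]
  generalize l.prod = v at hv
  -- the action on `W' / W` factors through `G ⧸ P`
  let φ : F[G ⧸ P] →ₗ[F] F[G] ⧸ W :=
    (Finsupp.linearCombination F fun q : G ⧸ P =>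
      W.mkQ (MonoidAlgebra.single q.out (1 : F) * v)).comp
      (MonoidAlgebra.coeffLinearEquiv F).toLinearMap
  have key : ∀ b : F[G], W.mkQ (b * v) = φ (MonoidAlgebra.mapDomain QuotientGroup.mk b) := by
    intro b
    induction b using MonoidAlgebra.induction_linear with
    | zero => simp
    | add a b ha hb => rw [add_mul, map_add, ha, hb, MonoidAlgebra.mapDomain_add, map_add]
    | single g r =>
      obtain ⟨u, hu⟩ := QuotientGroup.mk_out_eq_mul P g
      have h1 : φ (MonoidAlgebra.mapDomain QuotientGroup.mk (MonoidAlgebra.single g r)) =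
          r • W.mkQ (MonoidAlgebra.single (g * u) (1 : F) * v) := by
        rw [MonoidAlgebra.mapDomain_single, ← hu]
        simp [φ]
      rw [h1, eq_comm]
      change r • Submodule.Quotient.mk _ = Submodule.Quotient.mk _
      rw [← Submodule.Quotient.mk_smul, Submodule.Quotient.eq]
      have := W.smul_mem (MonoidAlgebra.single g r) (hv u u.2)
      convert this using 1
      simp only [smul_eq_mul, mul_sub, ← mul_assoc, MonoidAlgebra.single_mul_single,
        ← smul_mul_assoc, MonoidAlgebra.smul_single]
  rw [← Submodule.Quotient.mk_eq_zero]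
  have := key a
  rw [ha, map_zero] at this
  exact this

/-- An element of `F[G]` that maps to zero in `F[G ⧸ P]` is nilpotent. -/
theorem isNilpotent_of_mapDomain_eq_zero (P : Subgroup G) [P.Normal] (hP : IsPGroup p P)
    {a : F[G]} (ha : MonoidAlgebra.mapDomain (QuotientGroup.mk : G → G ⧸ P) a = 0) :
    IsNilpotent a := by
  obtain ⟨n, hn⟩ := exists_forall_pow_eq_zero_of_coset_sum (F := F) P hP
  refine ⟨n, ?_⟩
  have := hn (List.replicate n a) (List.length_replicate ..) fun b hb => by
    rw [List.eq_of_mem_replicate hb, ha]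
  rwa [List.prod_replicate] at this

end CL.Blocks
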