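import Cfsg.Agent.Base
import Cfsg.Agent.Blocks.BrauerHom
import Cfsg.Agent.Blocks.NilKer

/-!
# Nilpotent elements of `Z(kG)` coming from normal `p`-subgroups
-/

set_option autoImplicit false
set_option linter.unusedSectionVars false

namespace CL.Blocks

open MonoidAlgebra

variable {p : ℕ} [Fact p.Prime]
variable {k G Q : Type*} [Field k] [Group G] [Finite G] [Group Q]

/-- If the kernel of `π : G →* Q` is a `p`-group, the kernel of `k[G] → k[Q]` is nil. -/
theorem isNilpotent_of_mapDomainAlgHom_eq_zero (hp : (p : k) = 0) (π : G →* Q)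
    (hP : IsPGroup p π.ker) {x : MonoidAlgebra k G} (hx : mapDomainAlgHom k k π x = 0) :
    IsNilpotent x := by
  have : CharP k p := (CharP.charP_iff_prime_eq_zero Fact.out).2 hp
  refine isNilpotent_of_mapDomain_eq_zero (p := p) π.ker hP ?_
  apply MonoidAlgebra.mapDomain_injective (QuotientGroup.kerLift_injective π)
  rw [MonoidAlgebra.mapDomain_zero, ← hx]
  apply MonoidAlgebra.ext
  exact Finsupp.mapDomain_comp.symm

namespace ZA

theorem isNilpotent_of_coe {R : Type*} [CommRing R] {z : ZA R G}
    (h : IsNilpotent (z : MonoidAlgebra R G)) : IsNilpotent z := by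
  obtain ⟨n, hn⟩ := h
  exact ⟨n, Subtype.ext hn⟩

/-- The push-forward along a surjection with `p`-group kernel has nil kernel. -/
theorem isNilpotent_of_push_eq_zero (hp : (p : k) = 0) {π : G →* Q} (hπ : Function.Surjective π)
    (hP : IsPGroup p π.ker) {z : ZA k G} (hz : push k π hπ z = 0) : IsNilpotent z :=
  isNilpotent_of_coe (isNilpotent_of_mapDomainAlgHom_eq_zero hp π hP (congrArg Subtype.val hz))

/-- The push-forward of a nonzero idempotent is nonzero. -/
theorem push_ne_zero_of_isIdempotentElem (hp : (p : k) = 0) {π : G →* Q}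
    (hπ : Function.Surjective π) (hP : IsPGroup p π.ker) {e : ZA k G} (he : IsIdempotentElem e)
    (h0 : e ≠ 0) : push k π hπ e ≠ 0 := fun h =>
  h0 (he.eq_zero_of_isNilpotent (isNilpotent_of_push_eq_zero hp hπ hP h))

/-- A central element vanishing on `C_G(P)`, `P` a normal `p`-subgroup, is killed by the
push-forward to `G/P`. -/
theorem push_mk'_eq_zero {R : Type*} [CommRing R] (hp : (p : R) = 0) {P : Subgroup G} [P.Normal]
    (hP : IsPGroup p P) {z : ZA R G} (hz : ∀ g ∈ Subgroup.centralizer (P : Set G), z.co g = 0) :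
    push R (QuotientGroup.mk' P) (QuotientGroup.mk'_surjective P) z = 0 := by
  classical
  have := Fintype.ofFinite G
  refine ext' fun q => ?_
  rw [co_push, co_zero, Finset.sum_filter, sum_eq_sum_centralizer hp hP]
  · refine Finset.sum_eq_zero fun g hg => ?_
    rw [hz g (Finset.mem_filter.1 hg).2, ite_self]
  · intro u hu x
    have h1 : QuotientGroup.mk' P u = 1 := (QuotientGroup.eq_one_iff u).2 hu
    rw [map_mul, map_mul, map_inv, h1, one_mul, inv_one, mul_one, co_conj]

/-- A central element vanishing on `C_G(P)`, `P` a normal `p`-subgroup, is nilpotent. -/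
theorem isNilpotent_of_vanish_centralizer (hp : (p : k) = 0) {P : Subgroup G} [P.Normal]
    (hP : IsPGroup p P) {z : ZA k G} (hz : ∀ g ∈ Subgroup.centralizer (P : Set G), z.co g = 0) :
    IsNilpotent z :=
  isNilpotent_of_push_eq_zero hp (QuotientGroup.mk'_surjective P)
    (by rwa [QuotientGroup.ker_mk']) (push_mk'_eq_zero hp hP hz)

/-- The class sum of an element outside `C_G(P)`, `P` a normal `p`-subgroup, is nilpotent. -/
theorem isNilpotent_cls_of_not_mem (hp : (p : k) = 0) {P : Subgroup G} [P.Normal]
    (hP : IsPGroup p P) {g : G} (hg : g ∉ Subgroup.centralizer (P : Set G)) :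
    IsNilpotent (cls k g) :=
  isNilpotent_of_vanish_centralizer hp hP fun x hx => co_cls_of_not_isConj fun h => by
    obtain ⟨c, rfl⟩ := isConj_iff.1 h
    exact hg ((conj_mem_centralizer_iff (by rw [Subgroup.normalizer_eq_top]; trivial) g).1 hx)

variable {H : Type*} [Group H] [Finite H]

/-- If `φ(H)` contains `P`, restriction and the Brauer map differ by a nilpotent element. -/
theorem isNilpotent_res_sub_br (hp : (p : k) = 0) {P : Subgroup G} {φ : H →* G}
    (hs : IsBrauerSetup p P φ) (hPH : P ≤ φ.range) (z : ZA k G) :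
    IsNilpotent (res k φ z - br hp hs z) := by
  have := hs.normal_comap
  refine isNilpotent_of_vanish_centralizer hp hs.isPGroup_comap fun h hh => ?_
  by_contra hc
  exact not_mem_of_co_res_sub_br hp hs z hc ((mem_centralizer_comap_iff hs.inj hPH h).1 hh)

/-- On algebra maps to `k`, the Brauer map may be replaced by restriction. -/
theorem algHom_br_eq_res (hp : (p : k) = 0) {P : Subgroup G} {φ : H →* G}
    (hs : IsBrauerSetup p P φ) (hPH : P ≤ φ.range) (μ : ZA k H →ₐ[k] k) (z : ZA k G) :
    μ (br hp hs z) = μ (res k φ z) := by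
  have := ((isNilpotent_res_sub_br hp hs hPH z).map μ).eq_zero
  rw [map_sub, sub_eq_zero] at this
  exact this.symm

/-- Idempotents of `Z(kG)` are supported on `C_G(P)` for every normal `p`-subgroup `P`. -/
theorem mem_centralizer_of_isIdempotentElem (hp : (p : k) = 0) {P : Subgroup G} [P.Normal]
    (hP : IsPGroup p P) {e : ZA k G} (he : IsIdempotentElem e) {g : G} (hg : e.co g ≠ 0) :
    g ∈ Subgroup.centralizer (P : Set G) := by
  have hs := isBrauerSetup_id hP
  have h1 := isNilpotent_res_sub_br hp hs (fun x _ => ⟨x, rfl⟩) e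
  rw [res_id] at h1
  have h2 : e = br hp hs e := eq_of_isNilpotent_sub_of_isIdempotentElem he (he.map _) h1
  rw [h2] at hg
  exact ((co_br_ne_zero_iff hp hs e g).1 hg).1

end ZA

end CL.Blocks
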