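import Cfsg.Agent.Base
import Cfsg.Agent.Blocks.LamK
import Cfsg.Agent.Blocks.NilZA

/-!
# Block idempotents in `Z(kG)`, defect classes, defect groups and the min–max theorem
-/

set_option autoImplicit false
set_option linter.unusedSectionVars false

namespace CL.Blocks

open Cfsg CL.Char

variable {M : Ideal AlgInt} [M.IsMaximal] {p : ℕ}
variable {G H : Type*} [Group G] [Group H] [Finite G] [Finite H]

variable (M) in
/-- The block idempotent `e_B ∈ Z(kG)`: the reduction of `f_B = idem B`. -/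
noncomputable def eK (B : Set (IrrCharacter G)) : ZA (kM M) G :=
  ZA.mk' (fun g => red M (blockCoeff B g)) fun g h => by rw [isClassFunction_blockCoeff B g h]

theorem co_eK (B : Set (IrrCharacter G)) (g : G) : (eK M B).co g = red M (blockCoeff B g) := rfl

theorem eK_eq_zaRed {A : Set (IrrCharacter G)} (hA : IntCoeff M (idem A)) :
    eK M A = zaRed M G (zaLift (ZA.ofIsCen (isCen_idem A)) hA) :=
  ZA.ext' fun g => (co_zaRed_zaLift (ZA.ofIsCen (isCen_idem A)) hA g).symm

theorem lamK_eK_of_mem' {A : Set (IrrCharacter G)} (hA : IntCoeff M (idem A)) {χ : IrrCharacter G}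
    (hχ : χ ∈ A) : lamK M χ (eK M A) = 1 := by
  rw [lamK_eq_red_om χ _ (idem A) (isCen_idem A) hA fun _ => rfl, om_idem_of_mem hχ, red_one]

theorem lamK_eK_of_notMem' {A : Set (IrrCharacter G)} (hA : IntCoeff M (idem A))
    {χ : IrrCharacter G} (hχ : χ ∉ A) : lamK M χ (eK M A) = 0 := by
  rw [lamK_eq_red_om χ _ (idem A) (isCen_idem A) hA fun _ => rfl, om_idem_of_notMem hχ, red_zero]

theorem isIdempotentElem_eK' {A : Set (IrrCharacter G)} (hA : IntCoeff M (idem A)) :
    IsIdempotentElem (eK M A) := by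
  rw [eK_eq_zaRed hA]
  refine IsIdempotentElem.map ?_ _
  apply zaToC_injective
  rw [map_mul, zaToC_zaLift (ZA.ofIsCen (isCen_idem A)) hA]
  exact Subtype.ext (idem_mul_self A)

variable {B B' : Set (IrrCharacter G)} {χ : IrrCharacter G}

theorem lamK_eK_of_mem (hB : IsPBlock M B) (hχ : χ ∈ B) : lamK M χ (eK M B) = 1 :=
  lamK_eK_of_mem' (intCoeff_idem hB) hχ

theorem lamK_eK_of_notMem (hB : IsPBlock M B) (hχ : χ ∉ B) : lamK M χ (eK M B) = 0 :=
  lamK_eK_of_notMem' (intCoeff_idem hB) hχ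

theorem mem_of_lamK_eK_ne_zero (hB : IsPBlock M B) (h : lamK M χ (eK M B) ≠ 0) : χ ∈ B := by
  by_contra hχ
  exact h (lamK_eK_of_notMem hB hχ)

theorem isIdempotentElem_eK (hB : IsPBlock M B) : IsIdempotentElem (eK M B) :=
  isIdempotentElem_eK' (intCoeff_idem hB)

theorem eK_ne_zero (hB : IsPBlock M B) : eK M B ≠ 0 := by
  obtain ⟨χ, hχ⟩ := block_nonempty hB
  intro h
  have := lamK_eK_of_mem hB hχ
  rw [h, map_zero] at this
  exact zero_ne_one this

theorem eK_injective (hB : IsPBlock M B) (hB' : IsPBlock M B') (h : eK M B = eK M B') : B = B' := by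
  obtain ⟨χ, hχ⟩ := block_nonempty hB
  refine block_eq_of_mem hB hB' hχ (mem_of_lamK_eK_ne_zero hB' ?_)
  rw [← h, lamK_eK_of_mem hB hχ]
  exact one_ne_zero

theorem sum_blocks_eK : ∑ B ∈ blocks G M, eK M B = 1 := by
  classical
  have := Fintype.ofFinite G
  refine ZA.ext' fun g => ?_
  have h1 := congrArg (fun a : MonoidAlgebra ℂ G => red M (a.coeff g)) (sum_blocks_idem (G := G) (M := M))
  simp only [coeff_sum_apply, coeff_idem] at h1
  rw [red_sum _ fun B hB => memLocalRing_blockCoeff (mem_blocks.1 hB) g] at h1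
  rw [ZA.co_sum, ZA.co_one]
  simp only [co_eK]
  rw [h1, coeff_one']
  split_ifs
  exacts [red_one, red_zero]

theorem eK_mul_eK_of_ne (hB : IsPBlock M B) (hB' : IsPBlock M B') (h : B ≠ B') :
    eK M B * eK M B' = 0 := by
  refine IsIdempotentElem.eq_zero_of_isNilpotent
    ((isIdempotentElem_eK hB).mul (isIdempotentElem_eK hB')) (isNilpotent_of_lamK fun χ => ?_)
  rw [map_mul]
  by_cases hχ : χ ∈ B
  · rw [lamK_eK_of_notMem hB' fun hχ' => h (block_eq_of_mem hB hB' hχ hχ'), mul_zero]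
  · rw [lamK_eK_of_notMem hB hχ, zero_mul]

theorem co_eK_ne_zero_iff (hB : IsPBlock M B) (g : G) :
    (eK M B).co g ≠ 0 ↔ ¬ MemLocalIdeal M (blockCoeff B g) := by
  rw [co_eK, Ne, red_eq_zero_iff (memLocalRing_blockCoeff hB g)]

/-- `e_B Z(kG)` is local: the kernel of `λ_B` acts nilpotently on it. -/
theorem isNilpotent_mul_eK (hB : IsPBlock M B) (hχ : χ ∈ B) {z : ZA (kM M) G}
    (hz : lamK M χ z = 0) : IsNilpotent (z * eK M B) := by
  refine isNilpotent_of_lamK fun ψ => ?_
  rw [map_mul]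
  by_cases hψ : ψ ∈ B
  · rw [← lamK_eq_of_mem hB hχ hψ, hz, zero_mul]
  · rw [lamK_eK_of_notMem hB hψ, mul_zero]

/-- A ring map out of `Z(kG)` that does not kill `e_B` does not kill any `z` with `λ_B(z) ≠ 0`. -/
theorem algHom_ne_zero_of_lamK_ne_zero {A : Type*} [Ring A] [Algebra (kM M) A]
    (f : ZA (kM M) G →ₐ[kM M] A) (hB : IsPBlock M B) (hχ : χ ∈ B) (hf : f (eK M B) ≠ 0)
    {z : ZA (kM M) G} (hz : lamK M χ z ≠ 0) : f z ≠ 0 := by
  intro h0
  have h1 := (isNilpotent_mul_eK hB hχ (z := 1 - (lamK M χ z)⁻¹ • z) (by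
    rw [map_sub, map_one, map_smul, smul_eq_mul, inv_mul_cancel₀ hz, sub_self])).map f
  rw [map_mul, map_sub, map_one, map_smul, h0, smul_zero, sub_zero, one_mul] at h1
  exact hf (((isIdempotentElem_eK hB).map f).eq_zero_of_isNilpotent h1)

/-- An algebra map `μ : Z(kG) → k` with `μ(e_B) ≠ 0` is `λ_B`. -/
theorem eq_lamK_of_eK_ne_zero (μ : ZA (kM M) G →ₐ[kM M] kM M) (hB : IsPBlock M B) (hχ : χ ∈ B)
    (h : μ (eK M B) ≠ 0) : μ = lamK M χ := by
  obtain ⟨ψ, rfl⟩ := exists_eq_lamK μ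
  exact lamK_eq_of_mem hB (mem_of_lamK_eK_ne_zero hB h) hχ

/-! ### Defect classes and defect groups -/

theorem isDefectClass_iff (hB : IsPBlock M B) (hχ : χ ∈ B) {g : G} :
    IsDefectClass M B g ↔ (eK M B).co g ≠ 0 ∧ lamK M χ (ZA.cls _ g) ≠ 0 := by
  rw [co_eK_ne_zero_iff hB, lamK_cls_ne_zero_iff]
  exact ⟨fun h => ⟨h.2.1, h.2.2 χ hχ⟩, fun h => isDefectClass_of_mem hB h.1 hχ h.2⟩

theorem isDefectClass_of_isConj {g h : G} (hg : IsDefectClass M B g) (hgh : IsConj g h) :
    IsDefectClass M B h := by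
  unfold IsDefectClass at hg ⊢
  rw [← blockCoeff_eq_of_isConj B hgh]
  refine ⟨hg.1, hg.2.1, fun χ hχ => ?_⟩
  rw [← centralChar_eq_of_isConj (irr_isClassFunction χ.2) hgh]
  exact hg.2.2 χ hχ

theorem isDefectGroup_iff {D : Subgroup G} : IsDefectGroup p M B D ↔
    ∃ g, IsDefectClass M B g ∧ IsSylowIn p D (Subgroup.centralizer ({g} : Set G)) :=
  ⟨fun ⟨g, hg, P, hP⟩ => ⟨g, hg, P, hP.symm⟩, fun ⟨g, hg, P, hP⟩ => ⟨g, hg, P, hP.symm⟩⟩

theorem isDefectGroup_of_isSylowIn {D : Subgroup G} {g : G} (hg : IsDefectClass M B g)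
    (hD : IsSylowIn p D (Subgroup.centralizer ({g} : Set G))) : IsDefectGroup p M B D :=
  isDefectGroup_iff.2 ⟨g, hg, hD⟩

theorem isPGroup_of_isDefectGroup {D : Subgroup G} (hD : IsDefectGroup p M B D) : IsPGroup p D := by
  obtain ⟨g, -, h⟩ := isDefectGroup_iff.1 hD
  exact h.isPGroup

theorem exists_isDefectGroup (p : ℕ) (hB : IsPBlock M B) : ∃ D, IsDefectGroup p M B D := by
  obtain ⟨g, hg⟩ := exists_isDefectClass hB
  obtain ⟨D, hD⟩ := IsSylowIn.exists_sylowIn p (Subgroup.centralizer ({g} : Set G))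
  exact ⟨D, isDefectGroup_of_isSylowIn hg hD⟩

/-- A conjugate of a defect group is a defect group. -/
theorem isDefectGroup_map_conj {D : Subgroup G} (hD : IsDefectGroup p M B D) (x : G) :
    IsDefectGroup p M B (D.map (MulAut.conj x).toMonoidHom) := by
  obtain ⟨g, hg, h⟩ := isDefectGroup_iff.1 hD
  refine isDefectGroup_of_isSylowIn (isDefectClass_of_isConj hg (isConj_iff.2 ⟨x, rfl⟩)) ?_
  rw [centralizer_singleton_conj]
  exact h.map_conj x

theorem map_conj_one (P : Subgroup G) : P.map (MulAut.conj (1 : G)).toMonoidHom = P := by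
  ext y
  simp

theorem map_conj_le_iff {P D : Subgroup G} {x : G} :
    P.map (MulAut.conj x).toMonoidHom ≤ D ↔ P ≤ D.map (MulAut.conj x⁻¹).toMonoidHom := by
  constructor
  · intro h
    have := Subgroup.map_mono (f := (MulAut.conj x⁻¹).toMonoidHom) h
    rwa [map_conj_map_conj, inv_mul_cancel, map_conj_one] at this
  · intro h
    have := Subgroup.map_mono (f := (MulAut.conj x).toMonoidHom) h
    rwa [map_conj_map_conj, mul_inv_cancel, map_conj_one] at this

theorem card_map_conj (P : Subgroup G) (x : G) :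
    Nat.card (P.map (MulAut.conj x).toMonoidHom) = Nat.card P :=
  Subgroup.card_map_of_injective (MulAut.conj x).injective

theorem isPGroup_map_conj {P : Subgroup G} (hP : IsPGroup p P) (x : G) :
    IsPGroup p (P.map (MulAut.conj x).toMonoidHom) := hP.map _

variable [Fact p.Prime]

/-- A class meets `C_G(P)` iff `P` is conjugate into a defect group of the class. -/
theorem exists_isConj_mem_centralizer_iff {g : G} {D P : Subgroup G}
    (hD : IsSylowIn p D (Subgroup.centralizer ({g} : Set G))) (hP : IsPGroup p P) :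
    (∃ c, IsConj g c ∧ c ∈ Subgroup.centralizer (P : Set G)) ↔
      ∃ x : G, P.map (MulAut.conj x).toMonoidHom ≤ D := by
  constructor
  · rintro ⟨c, hgc, hc⟩
    obtain ⟨y, rfl⟩ := isConj_iff.1 hgc
    rw [← le_centralizer_singleton_iff, centralizer_singleton_conj, ← inv_inv y,
      ← map_conj_le_iff] at hc
    obtain ⟨x, -, hx⟩ := hD.exists_conj_le (isPGroup_map_conj hP y⁻¹) hc
    exact ⟨x * y⁻¹, by rwa [map_conj_map_conj] at hx⟩
  · rintro ⟨x, hx⟩
    refine ⟨x⁻¹ * g * x⁻¹⁻¹, isConj_iff.2 ⟨x⁻¹, rfl⟩, ?_⟩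
    rw [← le_centralizer_singleton_iff, centralizer_singleton_conj, ← map_conj_le_iff]
    exact hx.trans hD.le

/-- The key step of the min–max theorem: if `Br_P(e_B) ≠ 0` and `λ_B(z) ≠ 0`, then
`Br_P(z) ≠ 0`. -/
theorem exists_co_ne_zero_of_lamK_ne_zero (hM : IsPModular p M) (hB : IsPBlock M B) (hχ : χ ∈ B)
    {P : Subgroup G} (hP : IsPGroup p P) {g : G} (hg : g ∈ Subgroup.centralizer (P : Set G))
    (hge : (eK M B).co g ≠ 0) {z : ZA (kM M) G} (hz : lamK M χ z ≠ 0) :
    ∃ c ∈ Subgroup.centralizer (P : Set G), z.co c ≠ 0 := by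
  have hs := isBrauerSetup_centralizer hP
  rw [← ZA.br_ne_zero_iff (kM_natCast_p hM) hs]
  exact algHom_ne_zero_of_lamK_ne_zero _ hB hχ
    ((ZA.br_ne_zero_iff (kM_natCast_p hM) hs _).2 ⟨g, hg, hge⟩) hz

/-- `Br_P(e_B) ≠ 0` iff `P` is conjugate into the defect group `D` of `B`. -/
theorem exists_co_eK_ne_zero_iff (hM : IsPModular p M) (hB : IsPBlock M B) {D P : Subgroup G}
    (hD : IsDefectGroup p M B D) (hP : IsPGroup p P) :
    (∃ g ∈ Subgroup.centralizer (P : Set G), (eK M B).co g ≠ 0) ↔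
      ∃ x : G, P.map (MulAut.conj x).toMonoidHom ≤ D := by
  obtain ⟨χ, hχ⟩ := block_nonempty hB
  obtain ⟨y, hy, hD⟩ := isDefectGroup_iff.1 hD
  rw [isDefectClass_iff hB hχ] at hy
  rw [← exists_isConj_mem_centralizer_iff hD hP]
  constructor
  · rintro ⟨g, hg, hge⟩
    obtain ⟨c, hc, hc'⟩ := exists_co_ne_zero_of_lamK_ne_zero hM hB hχ hP hg hge hy.2
    exact ⟨c, ZA.isConj_of_co_cls_ne_zero hc', hc⟩
  · rintro ⟨c, hyc, hc⟩
    exact ⟨c, hc, by rw [← ZA.co_eq_of_isConj _ hyc]; exact hy.1⟩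

theorem br_eK_ne_zero_iff (hM : IsPModular p M) (hB : IsPBlock M B) {D P : Subgroup G}
    (hD : IsDefectGroup p M B D) {φ : H →* G} (hs : IsBrauerSetup p P φ) :
    ZA.br (kM_natCast_p hM) hs (eK M B) ≠ 0 ↔ ∃ x : G, P.map (MulAut.conj x).toMonoidHom ≤ D := by
  rw [ZA.br_ne_zero_iff, exists_co_eK_ne_zero_iff hM hB hD hs.isPGroup]

/-- Min–max, part (a): the `p`-subgroups of `C_G(h)`, `h` in the support of `e_B`, are conjugate
into a defect group of `B`. -/
theorem exists_conj_le_of_co_eK_ne_zero (hM : IsPModular p M) (hB : IsPBlock M B)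
    {D Q : Subgroup G} (hD : IsDefectGroup p M B D) {h : G} (hh : (eK M B).co h ≠ 0)
    (hQ : IsPGroup p Q) (hQh : Q ≤ Subgroup.centralizer ({h} : Set G)) :
    ∃ x : G, Q.map (MulAut.conj x).toMonoidHom ≤ D :=
  (exists_co_eK_ne_zero_iff hM hB hD hQ).1 ⟨h, le_centralizer_singleton_iff.1 hQh, hh⟩

/-- Min–max, part (b), for an arbitrary central element: if `λ_B(z) ≠ 0`, the support of `z` meets
the centraliser of the defect group `D`. -/
theorem exists_co_ne_zero_centralizer_defect (hM : IsPModular p M) (hB : IsPBlock M B) (hχ : χ ∈ B)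
    {D : Subgroup G} (hD : IsDefectGroup p M B D) {z : ZA (kM M) G} (hz : lamK M χ z ≠ 0) :
    ∃ c ∈ Subgroup.centralizer (D : Set G), z.co c ≠ 0 := by
  obtain ⟨g, hg, hge⟩ := (exists_co_eK_ne_zero_iff hM hB hD (isPGroup_of_isDefectGroup hD)).2
    ⟨1, (map_conj_one D).le⟩
  exact exists_co_ne_zero_of_lamK_ne_zero hM hB hχ (isPGroup_of_isDefectGroup hD) hg hge hz

/-- Min–max, part (b): if `λ_B` does not vanish on the class of `h`, the class meets `C_G(D)`. -/
theorem exists_isConj_mem_centralizer_defect (hM : IsPModular p M) (hB : IsPBlock M B) (hχ : χ ∈ B)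
    {D : Subgroup G} (hD : IsDefectGroup p M B D) {h : G} (hh : lamK M χ (ZA.cls _ h) ≠ 0) :
    ∃ c, IsConj h c ∧ c ∈ Subgroup.centralizer (D : Set G) := by
  obtain ⟨c, hc, hc'⟩ := exists_co_ne_zero_centralizer_defect hM hB hχ hD hh
  exact ⟨c, ZA.isConj_of_co_cls_ne_zero hc', hc⟩

/-- Min–max, part (b): if `λ_B` does not vanish on the class of `h`, a defect group of `B` is
conjugate into any given defect group of the class. -/
theorem exists_conj_le_of_lamK_cls_ne_zero (hM : IsPModular p M) (hB : IsPBlock M B) (hχ : χ ∈ B)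
    {D Q : Subgroup G} (hD : IsDefectGroup p M B D) {h : G} (hh : lamK M χ (ZA.cls _ h) ≠ 0)
    (hQ : IsSylowIn p Q (Subgroup.centralizer ({h} : Set G))) :
    ∃ x : G, D.map (MulAut.conj x).toMonoidHom ≤ Q :=
  (exists_isConj_mem_centralizer_iff hQ (isPGroup_of_isDefectGroup hD)).1
    (exists_isConj_mem_centralizer_defect hM hB hχ hD hh)

theorem exists_conj_le_of_isDefectGroup (hM : IsPModular p M) (hB : IsPBlock M B)
    {D E : Subgroup G} (hD : IsDefectGroup p M B D) (hE : IsDefectGroup p M B E) :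
    ∃ x : G, D.map (MulAut.conj x).toMonoidHom ≤ E := by
  rw [← exists_co_eK_ne_zero_iff hM hB hE (isPGroup_of_isDefectGroup hD),
    exists_co_eK_ne_zero_iff hM hB hD (isPGroup_of_isDefectGroup hD)]
  exact ⟨1, (map_conj_one D).le⟩

theorem card_eq_of_isDefectGroup (hM : IsPModular p M) (hB : IsPBlock M B)
    {D E : Subgroup G} (hD : IsDefectGroup p M B D) (hE : IsDefectGroup p M B E) :
    Nat.card D = Nat.card E := by
  obtain ⟨x, hx⟩ := exists_conj_le_of_isDefectGroup hM hB hD hE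
  obtain ⟨y, hy⟩ := exists_conj_le_of_isDefectGroup hM hB hE hD
  have h1 := Subgroup.card_le_of_le hx
  have h2 := Subgroup.card_le_of_le hy
  rw [card_map_conj] at h1 h2
  exact le_antisymm h1 h2

/-- Any two defect groups of a block are conjugate. -/
theorem exists_conj_eq_of_isDefectGroup (hM : IsPModular p M) (hB : IsPBlock M B)
    {D E : Subgroup G} (hD : IsDefectGroup p M B D) (hE : IsDefectGroup p M B E) :
    ∃ x : G, D.map (MulAut.conj x).toMonoidHom = E := by
  obtain ⟨x, hx⟩ := exists_conj_le_of_isDefectGroup hM hB hD hE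
  exact ⟨x, Subgroup.eq_of_le_of_card_ge hx
    (by rw [card_map_conj, card_eq_of_isDefectGroup hM hB hD hE])⟩

/-- A normal defect group is the only defect group. -/
theorem eq_of_isDefectGroup_of_normal (hM : IsPModular p M) (hB : IsPBlock M B)
    {D E : Subgroup G} [D.Normal] (hD : IsDefectGroup p M B D) (hE : IsDefectGroup p M B E) :
    E = D := by
  obtain ⟨x, rfl⟩ := exists_conj_eq_of_isDefectGroup hM hB hD hE
  rw [map_conj_eq_iff_mem_normalizer, Subgroup.normalizer_eq_top]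
  trivial

/-- A `p`-subgroup conjugate into a defect group lies in a defect group. -/
theorem exists_isDefectGroup_ge {D P : Subgroup G} (hD : IsDefectGroup p M B D) {x : G}
    (hx : P.map (MulAut.conj x).toMonoidHom ≤ D) : ∃ E, IsDefectGroup p M B E ∧ P ≤ E :=
  ⟨_, isDefectGroup_map_conj hD x⁻¹, map_conj_le_iff.1 hx⟩

/-- A subgroup of a defect group with the order of a defect group is a defect group. -/
theorem isDefectGroup_of_conj_le_of_card_le {D P : Subgroup G}
    (hD : IsDefectGroup p M B D) {x : G} (hx : P.map (MulAut.conj x).toMonoidHom ≤ D)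
    (hc : Nat.card D ≤ Nat.card P) : IsDefectGroup p M B P := by
  have h1 : P = D.map (MulAut.conj x⁻¹).toMonoidHom :=
    Subgroup.eq_of_le_of_card_ge (map_conj_le_iff.1 hx) (by rwa [card_map_conj])
  rw [h1]
  exact isDefectGroup_map_conj hD _

/-- Classes outside `C_G(P)`, `P` a normal `p`-subgroup, are killed by every `λ_χ`. -/
theorem lamK_cls_eq_zero_of_not_mem (hM : IsPModular p M) {P : Subgroup G} [P.Normal]
    (hP : IsPGroup p P) (χ : IrrCharacter G) {g : G} (hg : g ∉ Subgroup.centralizer (P : Set G)) :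
    lamK M χ (ZA.cls _ g) = 0 :=
  algHom_eq_zero_of_isNilpotent _ (ZA.isNilpotent_cls_of_not_mem (kM_natCast_p hM) hP hg)

theorem memLocalIdeal_centralChar_of_not_mem (hM : IsPModular p M) {P : Subgroup G} [P.Normal]
    (hP : IsPGroup p P) (χ : IrrCharacter G) {g : G} (hg : g ∉ Subgroup.centralizer (P : Set G)) :
    MemLocalIdeal M (centralChar (χ : G → ℂ) g) :=
  (lamK_cls_eq_zero_iff χ g).1 (lamK_cls_eq_zero_of_not_mem hM hP χ hg)

/-- Block idempotents are supported on `C_G(P)` for every normal `p`-subgroup `P`. -/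
theorem mem_centralizer_of_co_eK_ne_zero (hM : IsPModular p M) (hB : IsPBlock M B)
    {P : Subgroup G} [P.Normal] (hP : IsPGroup p P) {g : G} (hg : (eK M B).co g ≠ 0) :
    g ∈ Subgroup.centralizer (P : Set G) :=
  ZA.mem_centralizer_of_isIdempotentElem (kM_natCast_p hM) hP (isIdempotentElem_eK hB) hg

theorem memLocalIdeal_blockCoeff_of_not_mem (hM : IsPModular p M) (hB : IsPBlock M B)
    {P : Subgroup G} [P.Normal] (hP : IsPGroup p P) {g : G}
    (hg : g ∉ Subgroup.centralizer (P : Set G)) : MemLocalIdeal M (blockCoeff B g) := by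
  by_contra h
  exact hg (mem_centralizer_of_co_eK_ne_zero hM hB hP ((co_eK_ne_zero_iff hB g).2 h))

/-- A normal `p`-subgroup lies in every defect group. -/
theorem le_of_isDefectGroup_of_normal (hM : IsPModular p M) (hB : IsPBlock M B)
    {D P : Subgroup G} [P.Normal] (hP : IsPGroup p P) (hD : IsDefectGroup p M B D) : P ≤ D := by
  obtain ⟨g, hg⟩ := ZA.exists_co_ne_zero (eK_ne_zero hB)
  obtain ⟨x, hx⟩ := (exists_co_eK_ne_zero_iff hM hB hD hP).1
    ⟨g, mem_centralizer_of_co_eK_ne_zero hM hB hP hg, hg⟩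
  rwa [map_conj_eq_iff_mem_normalizer.2 (by rw [Subgroup.normalizer_eq_top]; trivial)] at hx

/-- If the defect group `D` of `B` is normal, it is a defect group of every class in the support
of `e_B`. -/
theorem isSylowIn_of_co_eK_ne_zero (hM : IsPModular p M) (hB : IsPBlock M B)
    {D : Subgroup G} [D.Normal] (hD : IsDefectGroup p M B D) {g : G} (hg : (eK M B).co g ≠ 0) :
    IsSylowIn p D (Subgroup.centralizer ({g} : Set G)) := by
  have hp := isPGroup_of_isDefectGroup hD
  refine IsSylowIn.of_maximal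
    (le_centralizer_singleton_iff.2 (mem_centralizer_of_co_eK_ne_zero hM hB hp hg)) hp
    fun Q hQ hQg hDQ => ?_
  obtain ⟨x, hx⟩ := exists_conj_le_of_co_eK_ne_zero hM hB hD hg hQ hQg
  have := Subgroup.card_le_of_le hx
  rw [card_map_conj] at this
  exact (Subgroup.eq_of_le_of_card_ge hDQ this).symm

end CL.Blocks
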