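import Cfsg.Agent.Base
import Cfsg.Agent.Blocks.Defect
import Cfsg.Agent.S0916

/-!
# Block induction along a homomorphism and Brauer's First Main Theorem

`IndVia M φ ξ χ` says that `λ_ξ ∘ res φ = λ_χ`: for the inclusion of a subgroup, the block of `ξ`
induces the block of `χ`.
-/

set_option autoImplicit false
set_option linter.unusedSectionVars false

namespace CL.Blocks

open Cfsg CL.Char

variable {M : Ideal AlgInt} [M.IsMaximal] {p : ℕ}
variable {G H Q : Type*} [Group G] [Group H] [Group Q] [Finite G] [Finite H] [Finite Q]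

variable (M) in
/-- The block of `ξ ∈ Irr(H)` induces, along `φ : H →* G`, the block of `χ ∈ Irr(G)`. -/
def IndVia (φ : H →* G) (ξ : IrrCharacter H) (χ : IrrCharacter G) : Prop :=
  ∀ z, lamK M ξ (ZA.res _ φ z) = lamK M χ z

theorem indVia_of_isInducedBlock {K : Subgroup G} {b : Set (IrrCharacter K)}
    {B : Set (IrrCharacter G)} (h : IsInducedBlock M K b B) {ξ : IrrCharacter K}
    {χ : IrrCharacter G} (hξ : ξ ∈ b) (hχ : χ ∈ B) : IndVia M K.subtype ξ χ :=
  lamK_res_of_isInducedBlock h hξ hχ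

theorem isInducedBlock_of_indVia {K : Subgroup G} {b : Set (IrrCharacter K)}
    {B : Set (IrrCharacter G)} (hb : IsPBlock M b) (hB : IsPBlock M B) {ξ : IrrCharacter K}
    {χ : IrrCharacter G} (hξ : ξ ∈ b) (hχ : χ ∈ B) (h : IndVia M K.subtype ξ χ) :
    IsInducedBlock M K b B := isInducedBlock_of_lamK hb hB hξ hχ h

theorem isInducedBlock_blockOf_iff {K : Subgroup G} {ξ : IrrCharacter K} {χ : IrrCharacter G} :
    IsInducedBlock M K (blockOf M (ξ : K → ℂ)) (blockOf M (χ : G → ℂ)) ↔ IndVia M K.subtype ξ χ :=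
  ⟨fun h => indVia_of_isInducedBlock h (self_mem_blockOf ξ) (self_mem_blockOf χ),
    isInducedBlock_of_indVia (isPBlock_blockOf ξ) (isPBlock_blockOf χ) (self_mem_blockOf ξ)
      (self_mem_blockOf χ)⟩

namespace IndVia

variable {φ : H →* G} {ψ : Q →* H} {θ : IrrCharacter Q} {ξ ξ' : IrrCharacter H}
  {χ χ' : IrrCharacter G}

theorem trans (h₁ : IndVia M ψ θ ξ) (h₂ : IndVia M φ ξ χ) : IndVia M (φ.comp ψ) θ χ := fun z => by
  rw [← ZA.res_res, h₁, h₂]

theorem congr_left (h : IndVia M φ ξ χ) (he : lamK M ξ = lamK M ξ') : IndVia M φ ξ' χ :=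
  fun z => by rw [← he, h]

theorem congr_right (h : IndVia M φ ξ χ) (he : lamK M χ = lamK M χ') : IndVia M φ ξ χ' :=
  fun z => by rw [← he, h]

theorem unique (h : IndVia M φ ξ χ) (h' : IndVia M φ ξ χ') : lamK M χ = lamK M χ' :=
  AlgHom.ext fun z => by rw [← h, ← h']

/-- If `(b^H)^G` is defined and `b^G = B`, then `(b^H)^G = B`. -/
theorem of_comp (h₁ : IndVia M ψ θ ξ) (h : IndVia M (φ.comp ψ) θ χ) : IndVia M φ ξ χ := fun z => by
  rw [← h₁, ZA.res_res, h]

end IndVia

/-- Transitivity of block induction for subgroups `K ≤ L ≤ G`. -/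
theorem indVia_subtype_iff_of_inclusion {K L : Subgroup G} (hKL : K ≤ L) {θ : IrrCharacter K}
    {ξ : IrrCharacter L} (h₁ : IndVia M (Subgroup.inclusion hKL) θ ξ) {χ : IrrCharacter G} :
    IndVia M K.subtype θ χ ↔ IndVia M L.subtype ξ χ := by
  rw [← Subgroup.subtype_comp_inclusion hKL]
  exact ⟨fun h => h₁.of_comp h, fun h => h₁.trans h⟩

/-- `IndVia` along `K ≤ L` is block induction from `K.subgroupOf L`. -/
theorem indVia_inclusion_iff {K L : Subgroup G} (hKL : K ≤ L) {θ : IrrCharacter K}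
    {θ' : IrrCharacter (K.subgroupOf L)}
    (hθ : ∀ x, (θ' : K.subgroupOf L → ℂ) x = (θ : K → ℂ) (Subgroup.subgroupOfEquivOfLe hKL x))
    {ξ : IrrCharacter L} :
    IndVia M (Subgroup.inclusion hKL) θ ξ ↔ IndVia M (K.subgroupOf L).subtype θ' ξ := by
  refine forall_congr' fun z => ?_
  rw [← lamK_comp_mulEquiv (Subgroup.subgroupOfEquivOfLe hKL) θ θ' hθ]
  rfl

theorem map_centralizer_singleton_le (φ : H →* G) (h : H) :
    (Subgroup.centralizer ({h} : Set H)).map φ ≤ Subgroup.centralizer ({φ h} : Set G) := by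
  rintro _ ⟨x, hx, rfl⟩
  rw [SetLike.mem_coe, Subgroup.mem_centralizer_singleton_iff] at hx
  rw [Subgroup.mem_centralizer_singleton_iff, ← map_mul, ← map_mul, hx]

theorem map_centralizer_singleton_eq {φ : H →* G} (hφ : Function.Injective φ) (h : H) :
    (Subgroup.centralizer ({h} : Set H)).map φ = Subgroup.centralizer ({φ h} : Set G) ⊓ φ.range := by
  refine le_antisymm (le_inf (map_centralizer_singleton_le φ h) (Subgroup.map_le_range _ _)) ?_
  rintro _ ⟨hx, x, rfl⟩
  refine ⟨x, Subgroup.mem_centralizer_singleton_iff.2 (hφ ?_), rfl⟩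
  rw [map_mul, map_mul]
  exact Subgroup.mem_centralizer_singleton_iff.1 hx

variable [Fact p.Prime]

section Setup

variable {P : Subgroup G} {φ : H →* G} {ξ ξ' : IrrCharacter H} {χ : IrrCharacter G}
  {b b' : Set (IrrCharacter H)} {B : Set (IrrCharacter G)}

theorem indVia_iff_br (hM : IsPModular p M) (hs : IsBrauerSetup p P φ) (hPH : P ≤ φ.range) :
    IndVia M φ ξ χ ↔ ∀ z, lamK M ξ (ZA.br (kM_natCast_p hM) hs z) = lamK M χ z :=
  forall_congr' fun z => by rw [ZA.algHom_br_eq_res _ hs hPH]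

/-- For `P C_G(P) ≤ H ≤ N_G(P)` every block of `H` induces a block of `G`. -/
theorem exists_indVia (hM : IsPModular p M) (hs : IsBrauerSetup p P φ) (hPH : P ≤ φ.range)
    (ξ : IrrCharacter H) : ∃ χ, IndVia M φ ξ χ := by
  obtain ⟨χ, hχ⟩ := exists_eq_lamK ((lamK M ξ).comp (ZA.br (kM_natCast_p hM) hs))
  exact ⟨χ, (indVia_iff_br hM hs hPH).2 fun z => by rw [← hχ]; rfl⟩

/-- For `P C_G(P) ≤ H ≤ N_G(P)`: `b^G = B` iff `λ_b(Br_P(e_B)) ≠ 0`. -/
theorem indVia_iff_lamK_br_eK (hM : IsPModular p M) (hs : IsBrauerSetup p P φ) (hPH : P ≤ φ.range)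
    (hB : IsPBlock M B) (hχ : χ ∈ B) :
    IndVia M φ ξ χ ↔ lamK M ξ (ZA.br (kM_natCast_p hM) hs (eK M B)) ≠ 0 := by
  rw [indVia_iff_br hM hs hPH]
  constructor
  · intro h
    rw [h, lamK_eK_of_mem hB hχ]
    exact one_ne_zero
  · intro h z
    rw [← eq_lamK_of_eK_ne_zero ((lamK M ξ).comp (ZA.br (kM_natCast_p hM) hs)) hB hχ h]
    rfl

/-- If `P` is conjugate into a defect group of `B`, some block of `H` induces `B`. -/
theorem exists_indVia_of_conj_le (hM : IsPModular p M) (hs : IsBrauerSetup p P φ)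
    (hPH : P ≤ φ.range) (hB : IsPBlock M B) (hχ : χ ∈ B) {D : Subgroup G}
    (hD : IsDefectGroup p M B D) {x : G} (hx : P.map (MulAut.conj x).toMonoidHom ≤ D) :
    ∃ ξ, IndVia M φ ξ χ := by
  obtain ⟨ξ, hξ⟩ := exists_lamK_eq_one ((isIdempotentElem_eK hB).map (ZA.br (kM_natCast_p hM) hs))
    ((br_eK_ne_zero_iff hM hB hD hs).2 ⟨x, hx⟩)
  exact ⟨ξ, (indVia_iff_lamK_br_eK hM hs hPH hB hχ).2 (by rw [hξ]; exact one_ne_zero)⟩

/-- A defect group of `b` lies in a defect group of `b^G`. -/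
theorem IndVia.exists_isDefectGroup_ge (hM : IsPModular p M) (h : IndVia M φ ξ χ)
    (hb : IsPBlock M b) (hξ : ξ ∈ b) (hB : IsPBlock M B) (hχ : χ ∈ B) {D : Subgroup H}
    (hD : IsDefectGroup p M b D) : ∃ E, IsDefectGroup p M B E ∧ D.map φ ≤ E := by
  obtain ⟨y, hy⟩ := exists_isDefectClass hB
  have h1 := ((isDefectClass_iff hB hχ).1 hy).2
  rw [← h] at h1
  obtain ⟨c, hc, hc'⟩ := exists_co_ne_zero_centralizer_defect hM hb hξ hD h1
  rw [ZA.co_res] at hc'
  have h2 := isDefectClass_of_isConj hy (ZA.isConj_of_co_cls_ne_zero hc')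
  obtain ⟨E, hE, hDE⟩ := IsSylowIn.exists_le ((isPGroup_of_isDefectGroup hD).map φ)
    ((Subgroup.map_mono (le_centralizer_singleton_iff.2 hc)).trans
      (map_centralizer_singleton_le φ c))
  exact ⟨E, isDefectGroup_of_isSylowIn h2 hE, hDE⟩

/-- For `P C_G(P) ≤ H ≤ N_G(P)`, an induced block has a defect group containing `P`. -/
theorem IndVia.exists_isDefectGroup_ge_of_setup (hM : IsPModular p M) (hs : IsBrauerSetup p P φ)
    (hPH : P ≤ φ.range) (h : IndVia M φ ξ χ) (hB : IsPBlock M B) (hχ : χ ∈ B) :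
    ∃ E, IsDefectGroup p M B E ∧ P ≤ E := by
  have := hs.normal_comap
  obtain ⟨D, hD⟩ := exists_isDefectGroup p (isPBlock_blockOf (M := M) ξ)
  obtain ⟨E, hE, hDE⟩ := h.exists_isDefectGroup_ge hM (isPBlock_blockOf ξ) (self_mem_blockOf ξ)
    hB hχ hD
  refine ⟨E, hE, le_trans ?_ hDE⟩
  rw [← Subgroup.map_comap_eq_self hPH]
  exact Subgroup.map_mono
    (le_of_isDefectGroup_of_normal hM (isPBlock_blockOf ξ) hs.isPGroup_comap hD)

/-- For `P C_G(P) ≤ H ≤ N_G(P)`: if `b^G = B` has defect group `P`, so has `b`. -/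
theorem IndVia.isDefectGroup_comap (hM : IsPModular p M) (hs : IsBrauerSetup p P φ)
    (hPH : P ≤ φ.range) (h : IndVia M φ ξ χ) (hb : IsPBlock M b) (hξ : ξ ∈ b) (hB : IsPBlock M B)
    (hχ : χ ∈ B) (hP : IsDefectGroup p M B P) : IsDefectGroup p M b (P.comap φ) := by
  have := hs.normal_comap
  obtain ⟨D, hD⟩ := exists_isDefectGroup p hb
  obtain ⟨E, hE, hDE⟩ := h.exists_isDefectGroup_ge hM hb hξ hB hχ hD
  have h1 := le_of_isDefectGroup_of_normal hM hb hs.isPGroup_comap hD
  have h2 : Nat.card D ≤ Nat.card (P.comap φ) := by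
    rw [← Subgroup.card_map_of_injective (K := D) hs.inj,
      ← Subgroup.card_map_of_injective (K := P.comap φ) hs.inj, Subgroup.map_comap_eq_self hPH,
      card_eq_of_isDefectGroup hM hB hP hE]
    exact Subgroup.card_le_of_le hDE
  rwa [Subgroup.eq_of_le_of_card_ge h1 h2]

omit [Fact p.Prime] in
theorem IsBrauerSetup.le_range_of_normalizer_le (hN : Subgroup.normalizer (P : Set G) ≤ φ.range) :
    P ≤ φ.range := Subgroup.le_normalizer.trans hN

/-- A class of `N_G(P)` with defect group `P` lies in a class of `G` with defect group `P`. -/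
theorem IsBrauerSetup.isSylowIn_of_comap (hs : IsBrauerSetup p P φ)
    (hN : Subgroup.normalizer (P : Set G) ≤ φ.range) {l : H}
    (hl : IsSylowIn p (P.comap φ) (Subgroup.centralizer ({l} : Set H))) :
    IsSylowIn p P (Subgroup.centralizer ({φ l} : Set G)) := by
  have h1 := hl.map_of_injective φ hs.inj
  have h2 : φ.range = Subgroup.normalizer (P : Set G) :=
    le_antisymm (by rintro _ ⟨h, rfl⟩; exact hs.norm h) hN
  rw [Subgroup.map_comap_eq_self (IsBrauerSetup.le_range_of_normalizer_le hN),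
    map_centralizer_singleton_eq hs.inj, h2] at h1
  exact IsSylowIn.of_inf_normalizer (h1.le.trans inf_le_left) h1

/-- The Brauer map sends a class sum with defect group `P` to a class sum of `N_G(P)`. -/
theorem IsBrauerSetup.br_cls {R : Type*} [CommRing R] (hp : (p : R) = 0) (hs : IsBrauerSetup p P φ)
    (hN : Subgroup.normalizer (P : Set G) ≤ φ.range) {l : H}
    (hl : IsSylowIn p P (Subgroup.centralizer ({φ l} : Set G))) :
    ZA.br hp hs (ZA.cls R (φ l)) = ZA.cls R l := by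
  refine ZA.ext' fun h => ?_
  have hl' := le_centralizer_singleton_iff.1 hl.le
  by_cases hlh : IsConj l h
  · obtain ⟨c, rfl⟩ := isConj_iff.1 hlh
    rw [ZA.co_cls_of_isConj hlh, ZA.co_br_of_mem, ZA.co_cls_of_isConj (φ.map_isConj hlh)]
    rw [map_mul, map_mul, map_inv]
    exact (conj_mem_centralizer_iff (hs.norm c) _).2 hl'
  · rw [ZA.co_cls_of_not_isConj hlh]
    by_contra hc
    obtain ⟨h1, h2⟩ := (ZA.co_br_ne_zero_iff hp hs _ h).1 hc
    have : Nontrivial R := nontrivial_of_ne _ _ h2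
    obtain ⟨n, hn, hnl⟩ := ((Cfsg.Agent.S0916.result p P hs.isPGroup).1 (φ l) hl).2 (φ l) (φ h)
      (IsConj.refl _) (ZA.isConj_of_co_cls_ne_zero h2) hl' h1
    obtain ⟨m, rfl⟩ := hN hn
    exact hlh (isConj_iff.2 ⟨m, hs.inj (by rw [map_mul, map_mul, map_inv, hnl])⟩)

theorem IndVia.lamK_cls_eq (hM : IsPModular p M) (hs : IsBrauerSetup p P φ)
    (hN : Subgroup.normalizer (P : Set G) ≤ φ.range) (h : IndVia M φ ξ χ) {l : H}
    (hl : IsSylowIn p (P.comap φ) (Subgroup.centralizer ({l} : Set H))) :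
    lamK M ξ (ZA.cls _ l) = lamK M χ (ZA.cls _ (φ l)) := by
  rw [← (indVia_iff_br hM hs (IsBrauerSetup.le_range_of_normalizer_le hN)).1 h,
    hs.br_cls _ hN (hs.isSylowIn_of_comap hN hl)]

/-- First Main Theorem, (i): a block of `N_G(P)` with defect group `P` induces a block with defect
group `P`. -/
theorem IndVia.isDefectGroup_of_comap (hM : IsPModular p M) (hs : IsBrauerSetup p P φ)
    (hN : Subgroup.normalizer (P : Set G) ≤ φ.range) (h : IndVia M φ ξ χ) (hb : IsPBlock M b)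
    (hξ : ξ ∈ b) (hB : IsPBlock M B) (hχ : χ ∈ B) (hP : IsDefectGroup p M b (P.comap φ)) :
    IsDefectGroup p M B P := by
  obtain ⟨E, hE, hPE⟩ := h.exists_isDefectGroup_ge hM hb hξ hB hχ hP
  rw [Subgroup.map_comap_eq_self (IsBrauerSetup.le_range_of_normalizer_le hN)] at hPE
  obtain ⟨l, hl, hlP⟩ := isDefectGroup_iff.1 hP
  have h1 := ((isDefectClass_iff hb hξ).1 hl).2
  rw [h.lamK_cls_eq hM hs hN hlP] at h1
  obtain ⟨x, hx⟩ := exists_conj_le_of_lamK_cls_ne_zero hM hB hχ hE h1 (hs.isSylowIn_of_comap hN hlP)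
  have h2 := Subgroup.card_le_of_le hx
  rw [card_map_conj] at h2
  rwa [Subgroup.eq_of_le_of_card_ge hPE h2]

/-- First Main Theorem, injectivity: a block of `N_G(P)` with defect group `P` is the only block
of `N_G(P)` inducing its Brauer correspondent. -/
theorem IndVia.mem_of_isDefectGroup_comap (hM : IsPModular p M) (hs : IsBrauerSetup p P φ)
    (hN : Subgroup.normalizer (P : Set G) ≤ φ.range) (h : IndVia M φ ξ χ) (h' : IndVia M φ ξ' χ)
    (hb : IsPBlock M b) (hξ : ξ ∈ b) (hP : IsDefectGroup p M b (P.comap φ)) : ξ' ∈ b := by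
  have := hs.normal_comap
  refine mem_of_lamK_eK_ne_zero hb ?_
  have h1 : (lamK M ξ').toLinearMap (eK M b) = (lamK M ξ).toLinearMap (eK M b) :=
    ZA.linearMap_apply_congr _ _ _ fun l hl => by
      have h2 := isSylowIn_of_co_eK_ne_zero hM hb hP hl
      exact (h'.lamK_cls_eq hM hs hN h2).trans (h.lamK_cls_eq hM hs hN h2).symm
  rw [AlgHom.toLinearMap_apply, AlgHom.toLinearMap_apply, lamK_eK_of_mem hb hξ] at h1
  rw [h1]
  exact one_ne_zero

/-- If `B` has defect group `P`, exactly one block of `N_G(P)` induces it. -/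
theorem IndVia.lamK_eq_of_isDefectGroup (hM : IsPModular p M) (hs : IsBrauerSetup p P φ)
    (hN : Subgroup.normalizer (P : Set G) ≤ φ.range) (h : IndVia M φ ξ χ) (h' : IndVia M φ ξ' χ)
    (hB : IsPBlock M B) (hχ : χ ∈ B) (hP : IsDefectGroup p M B P) : lamK M ξ = lamK M ξ' :=
  mem_blockOf_iff_lamK.1 (h.mem_of_isDefectGroup_comap hM hs hN h' (isPBlock_blockOf ξ)
    (self_mem_blockOf ξ) (h.isDefectGroup_comap hM hs (IsBrauerSetup.le_range_of_normalizer_le hN)
      (isPBlock_blockOf ξ) (self_mem_blockOf ξ) hB hχ hP))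

end Setup

/-! ### Subgroup versions -/

section Subgroup

variable {P K : Subgroup G} {b : Set (IrrCharacter K)} {B : Set (IrrCharacter G)}

omit [Fact p.Prime] in
theorem le_range_subtype (h : P ≤ K) : P ≤ K.subtype.range := by rwa [Subgroup.range_subtype]

theorem exists_isInducedBlock (hM : IsPModular p M) (hP : IsPGroup p P) (hPK : P ≤ K)
    (hC : Subgroup.centralizer (P : Set G) ≤ K) (hN : K ≤ Subgroup.normalizer (P : Set G))
    (hb : IsPBlock M b) : ∃ B, IsInducedBlock M K b B := by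
  obtain ⟨ξ, hξ⟩ := block_nonempty hb
  obtain ⟨χ, hχ⟩ := exists_indVia hM (isBrauerSetup_subtype hP hC hN) (le_range_subtype hPK) ξ
  exact ⟨_, isInducedBlock_of_indVia hb (isPBlock_blockOf χ) hξ (self_mem_blockOf χ) hχ⟩

theorem exists_isInducedBlock_of_conj_le (hM : IsPModular p M) (hP : IsPGroup p P) (hPK : P ≤ K)
    (hC : Subgroup.centralizer (P : Set G) ≤ K) (hN : K ≤ Subgroup.normalizer (P : Set G))
    (hB : IsPBlock M B) {D : Subgroup G} (hD : IsDefectGroup p M B D) {x : G}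
    (hx : P.map (MulAut.conj x).toMonoidHom ≤ D) : ∃ b, IsInducedBlock M K b B := by
  obtain ⟨χ, hχ⟩ := block_nonempty hB
  obtain ⟨ξ, hξ⟩ := exists_indVia_of_conj_le hM (isBrauerSetup_subtype hP hC hN)
    (le_range_subtype hPK) hB hχ hD hx
  exact ⟨_, isInducedBlock_of_indVia (isPBlock_blockOf ξ) hB (self_mem_blockOf ξ) hχ hξ⟩

theorem exists_isInducedBlock_of_le (hM : IsPModular p M) (hP : IsPGroup p P) (hPK : P ≤ K)
    (hC : Subgroup.centralizer (P : Set G) ≤ K) (hN : K ≤ Subgroup.normalizer (P : Set G))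
    (hB : IsPBlock M B) {D : Subgroup G} (hD : IsDefectGroup p M B D) (hPD : P ≤ D) :
    ∃ b, IsInducedBlock M K b B :=
  exists_isInducedBlock_of_conj_le hM hP hPK hC hN hB hD (x := 1) ((map_conj_one P).le.trans hPD)

theorem exists_isDefectGroup_ge_of_isInducedBlock (hM : IsPModular p M)
    (h : IsInducedBlock M K b B) {D : Subgroup K} (hD : IsDefectGroup p M b D) :
    ∃ E, IsDefectGroup p M B E ∧ D.map K.subtype ≤ E := by
  obtain ⟨ξ, hξ⟩ := block_nonempty h.1
  obtain ⟨χ, hχ⟩ := block_nonempty h.2.1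
  exact (indVia_of_isInducedBlock h hξ hχ).exists_isDefectGroup_ge hM h.1 hξ h.2.1 hχ hD

theorem exists_isDefectGroup_ge_of_isInducedBlock' (hM : IsPModular p M) (hP : IsPGroup p P)
    (hPK : P ≤ K) (hC : Subgroup.centralizer (P : Set G) ≤ K)
    (hN : K ≤ Subgroup.normalizer (P : Set G)) (h : IsInducedBlock M K b B) :
    ∃ E, IsDefectGroup p M B E ∧ P ≤ E := by
  obtain ⟨ξ, hξ⟩ := block_nonempty h.1
  obtain ⟨χ, hχ⟩ := block_nonempty h.2.1
  exact (indVia_of_isInducedBlock h hξ hχ).exists_isDefectGroup_ge_of_setup hM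
    (isBrauerSetup_subtype hP hC hN) (le_range_subtype hPK) h.2.1 hχ

theorem isDefectGroup_subgroupOf_of_isInducedBlock (hM : IsPModular p M) (hPK : P ≤ K)
    (hC : Subgroup.centralizer (P : Set G) ≤ K) (hN : K ≤ Subgroup.normalizer (P : Set G))
    (h : IsInducedBlock M K b B) (hP : IsDefectGroup p M B P) :
    IsDefectGroup p M b (P.subgroupOf K) := by
  obtain ⟨ξ, hξ⟩ := block_nonempty h.1
  obtain ⟨χ, hχ⟩ := block_nonempty h.2.1
  exact (indVia_of_isInducedBlock h hξ hχ).isDefectGroup_comap hM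
    (isBrauerSetup_subtype (isPGroup_of_isDefectGroup hP) hC hN) (le_range_subtype hPK) h.1 hξ
    h.2.1 hχ hP

theorem isDefectGroup_of_isInducedBlock_normalizer (hM : IsPModular p M) (hP : IsPGroup p P)
    {b : Set (IrrCharacter (Subgroup.normalizer (P : Set G)))}
    (h : IsInducedBlock M (Subgroup.normalizer (P : Set G)) b B)
    (hb : IsDefectGroup p M b (P.subgroupOf (Subgroup.normalizer (P : Set G)))) :
    IsDefectGroup p M B P := by
  obtain ⟨ξ, hξ⟩ := block_nonempty h.1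
  obtain ⟨χ, hχ⟩ := block_nonempty h.2.1
  exact (indVia_of_isInducedBlock h hξ hχ).isDefectGroup_of_comap hM (isBrauerSetup_normalizer hP)
    (le_range_subtype le_rfl) h.1 hξ h.2.1 hχ hb

theorem eq_of_isInducedBlock_normalizer (hM : IsPModular p M)
    {b b' : Set (IrrCharacter (Subgroup.normalizer (P : Set G)))}
    (h : IsInducedBlock M (Subgroup.normalizer (P : Set G)) b B)
    (h' : IsInducedBlock M (Subgroup.normalizer (P : Set G)) b' B)
    (hP : IsDefectGroup p M B P) : b = b' := by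
  obtain ⟨ξ, hξ⟩ := block_nonempty h.1
  obtain ⟨ξ', hξ'⟩ := block_nonempty h'.1
  obtain ⟨χ, hχ⟩ := block_nonempty h.2.1
  exact block_eq_of_lamK h.1 h'.1 hξ hξ' ((indVia_of_isInducedBlock h hξ hχ).lamK_eq_of_isDefectGroup
    hM (isBrauerSetup_normalizer (isPGroup_of_isDefectGroup hP)) (le_range_subtype le_rfl)
    (indVia_of_isInducedBlock h' hξ' hχ) h.2.1 hχ hP)

/-- The Brauer correspondent in `N_G(P)` of a block with defect group `P`. -/
theorem exists_brauerCorrespondent (hM : IsPModular p M) (hB : IsPBlock M B)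
    (hP : IsDefectGroup p M B P) : ∃ b : Set (IrrCharacter (Subgroup.normalizer (P : Set G))),
      IsInducedBlock M (Subgroup.normalizer (P : Set G)) b B ∧
        IsDefectGroup p M b (P.subgroupOf (Subgroup.normalizer (P : Set G))) := by
  obtain ⟨b, hb⟩ := exists_isInducedBlock_of_le hM (isPGroup_of_isDefectGroup hP)
    Subgroup.le_normalizer (centralizer_le_normalizer' P) le_rfl hB hP le_rfl
  exact ⟨b, hb, isDefectGroup_subgroupOf_of_isInducedBlock hM Subgroup.le_normalizer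
    (centralizer_le_normalizer' P) le_rfl hb hP⟩

end Subgroup

end CL.Blocks
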