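import Cfsg.Agent.Blocks.Kernel
import Cfsg.Agent.Blocks.Third
import Cfsg.Agent.Char.Orth
import Cfsg.Agent.S0923

/-!
# The principal block on a `p`-section (Second and Third Main Theorems combined)
-/

set_option linter.unusedSectionVars false

namespace CL.Blocks

open Cfsg CL.Char
open scoped MonoidAlgebra ComplexConjugate

variable {G : Type*} [Group G] [Finite G] {p : ℕ} {M : Ideal AlgInt}

/-- The class function `c ↦ χ (z c)` on the centralizer of `z`. -/
def secFun (z : G) (χ : G → ℂ) : Subgroup.centralizer ({z} : Set G) → ℂ := fun c => χ (z * (c : G))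

omit [Finite G] in
theorem secFun_apply (z : G) (χ : G → ℂ) (c : Subgroup.centralizer ({z} : Set G)) :
    secFun z χ c = χ (z * (c : G)) := rfl

omit [Finite G] in
theorem isClassFunction_secFun (z : G) {χ : G → ℂ} (hχ : IsClassFunction G χ) :
    IsClassFunction _ (secFun z χ) := by
  intro g h
  have hc : Commute (h : G) z := mem_centralizer_singleton_iff_commute.1 h.2
  rw [secFun_apply, secFun_apply, ← hχ (z * g) h]
  congr 1
  simp only [Subgroup.coe_mul, Subgroup.coe_inv, ← mul_assoc, hc.eq]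

theorem blockPart_apply [Fintype G] (A : Set (IrrCharacter G)) (ϑ : G → ℂ) (g : G) :
    blockPart A ϑ g = ∑ᶠ χ ∈ A, classInner ϑ (χ : G → ℂ) * (χ : G → ℂ) g := by
  unfold blockPart
  simp only [classInner_congr_fintype (Fintype.ofFinite G) ‹_›]

theorem sum_blocks_blockPart [M.IsMaximal] {ϑ : G → ℂ} (hϑ : IsClassFunction G ϑ) (g : G) :
    ∑ B ∈ blocks G M, blockPart B ϑ g = ϑ g := by
  have := Fintype.ofFinite G
  simp only [blockPart_apply]
  rw [← sum_irr_eq_sum_blocks, ← classFun_apply_eq_sum hϑ]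

theorem blockPart_sum_smul {ι : Type*} (s : Finset ι) (A : Set (IrrCharacter G)) (c : ι → ℂ)
    (ϑ : ι → G → ℂ) (g : G) :
    blockPart A (∑ i ∈ s, c i • ϑ i) g = ∑ i ∈ s, c i * blockPart A (ϑ i) g := by
  classical
  have := Fintype.ofFinite G
  simp only [blockPart_apply, finsum_mem_irr_eq_sum, classInner_sum_left, classInner_smul_left,
    Finset.mul_sum, Finset.sum_mul]
  rw [Finset.sum_comm]
  refine Finset.sum_congr rfl fun χ _ => ?_
  split_ifs
  · simp only [mul_assoc]
  · simp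

theorem blockPart_eq_of_mem_blockKerSub (A : Set (IrrCharacter G)) (ϑ : G → ℂ) {v : G}
    (hv : v ∈ blockKerSub A) (g : G) : blockPart A ϑ (v * g) = blockPart A ϑ g := by
  have := Fintype.ofFinite G
  rw [blockPart_apply, blockPart_apply]
  refine finsum_mem_congr rfl fun χ hχ => ?_
  rw [char_apply_mul_of_eq_one (irr_isCharacter χ.2) (mem_blockKerSub.1 hv χ hχ)]

/-- For `χ` in the principal block of `G`, only the principal block of `C(z)` contributes to
`χ (z y)` for `p`-regular `y`. -/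
theorem apply_mul_eq_blockPart_principal (hM : IsPModular p M) {z : G}
    (hz : ∃ k : ℕ, orderOf z = p ^ k) {χ : IrrCharacter G} (hχ : χ ∈ principalBlock M G)
    {y : Subgroup.centralizer ({z} : Set G)} (hy : ¬ p ∣ orderOf y) :
    (χ : G → ℂ) (z * (y : G)) = blockPart (principalBlock M _) (secFun z (χ : G → ℂ)) y := by
  have := hM.2.1
  have : Fact p.Prime := ⟨hM.1⟩
  rw [← secFun_apply z (χ : G → ℂ) y, ← sum_blocks_blockPart (M := M)
    (isClassFunction_secFun z (irr_isClassFunction χ.2)),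
    Finset.sum_eq_single (principalBlock M _)]
  · intro b hb hne
    refine Cfsg.Agent.S0923.result p M hM z hz _ isPBlock_principalBlock χ hχ b (mem_blocks.1 hb)
      (fun h => hne ((third_main hM ⟨_, h⟩).1 h)) y hy
  · intro h
    exact (h (mem_blocks.2 isPBlock_principalBlock)).elim

/-- For `χ` outside the principal block of `G`, the principal block of `C(z)` does not contribute
to `χ (z y)` for `p`-regular `y`. -/
theorem blockPart_principal_eq_zero (hM : IsPModular p M) {z : G}
    (hz : ∃ k : ℕ, orderOf z = p ^ k) {χ : IrrCharacter G} (hχ : χ ∉ principalBlock M G)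
    {y : Subgroup.centralizer ({z} : Set G)} (hy : ¬ p ∣ orderOf y) :
    blockPart (principalBlock M _) (secFun z (χ : G → ℂ)) y = 0 := by
  have := hM.2.1
  have : Fact p.Prime := ⟨hM.1⟩
  refine Cfsg.Agent.S0923.result p M hM z hz _ (isPBlock_blockOf χ) χ (self_mem_blockOf χ) _
    isPBlock_principalBlock (fun h => hχ ?_) y hy
  rw [← induced_unique h ((third_main hM ⟨_, h⟩).2 rfl)]
  exact self_mem_blockOf χ

/-- `χ (z v y) = χ (z y)` for `χ` in the principal block, `z` a `p`-element, `v ∈ O_{p'}(C(z))` and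
`y ∈ C(z)` `p`-regular. -/
theorem principal_apply_mul_pPrimeCore (hM : IsPModular p M) {z : G}
    (hz : ∃ k : ℕ, orderOf z = p ^ k) {χ : IrrCharacter G} (hχ : χ ∈ principalBlock M G)
    {v y : Subgroup.centralizer ({z} : Set G)} (hv : v ∈ pPrimeCore p _)
    (hy : ¬ p ∣ orderOf y) (hvy : ¬ p ∣ orderOf (v * y)) :
    (χ : G → ℂ) (z * (v * y : G)) = (χ : G → ℂ) (z * (y : G)) := by
  rw [← Subgroup.coe_mul, apply_mul_eq_blockPart_principal hM hz hχ hvy,
    apply_mul_eq_blockPart_principal hM hz hχ hy, blockPart_eq_of_mem_blockKerSub]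
  rwa [blockKerSub_principalBlock hM]

/-- `χ (z v) = χ z` for `χ` in the principal block, `z` a `p`-element and `v ∈ O_{p'}(C(z))`. -/
theorem principal_apply_mul_of_mem_centralizerPPrimeCore (hM : IsPModular p M) {z : G}
    (hz : ∃ k : ℕ, orderOf z = p ^ k) {v : G} (hv : v ∈ centralizerPPrimeCore p z)
    {χ : IrrCharacter G} (hχ : χ ∈ principalBlock M G) :
    (χ : G → ℂ) (z * v) = (χ : G → ℂ) z := by
  have : Fact p.Prime := ⟨hM.1⟩
  obtain ⟨w, hw, rfl⟩ := hv
  have h1 : ¬ p ∣ orderOf w := fun h =>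
    not_dvd_card_pPrimeCore' hM.1 (h.trans (Subgroup.orderOf_dvd_natCard _ hw))
  have := principal_apply_mul_pPrimeCore hM hz hχ hw (y := 1) not_dvd_orderOf_one
    (by rwa [mul_one])
  simpa using this

omit [Finite G] in
theorem isConj_mul_iff_of_ppart [Fact p.Prime] {z : G} (hz : ∃ k : ℕ, orderOf z = p ^ k)
    {y y' : Subgroup.centralizer ({z} : Set G)} (hy : ¬ p ∣ orderOf y) (hy' : ¬ p ∣ orderOf y') :
    IsConj (z * (y : G)) (z * (y' : G)) ↔ IsConj y y' := by
  have hc : ∀ w : Subgroup.centralizer ({z} : Set G), Commute z (w : G) := fun w =>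
    (mem_centralizer_singleton_iff_commute.1 w.2).symm
  constructor
  · intro h
    obtain ⟨c, hc'⟩ := isConj_iff.1 h
    have h1 : Commute c z := commute_of_conj_of_ppart
      (isPPart_mul (hc y) hz (by rwa [Subgroup.orderOf_coe]))
      (isPPart_mul (hc y') hz (by rwa [Subgroup.orderOf_coe])) hc'
    refine isConj_iff.2 ⟨⟨c, mem_centralizer_singleton_iff_commute.2 h1⟩, Subtype.ext ?_⟩
    refine mul_left_cancel (a := z) ?_
    rw [← hc']
    simp only [Subgroup.coe_mul, Subgroup.coe_inv, ← mul_assoc, h1.eq]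
  · intro h
    obtain ⟨c, rfl⟩ := isConj_iff.1 h
    refine isConj_iff.2 ⟨c, ?_⟩
    simp only [Subgroup.coe_mul, Subgroup.coe_inv, ← mul_assoc, (hc c).eq]

omit [Finite G] in
theorem card_centralizer_mul_of_ppart [Fact p.Prime] {z : G} (hz : ∃ k : ℕ, orderOf z = p ^ k)
    {y : Subgroup.centralizer ({z} : Set G)} (hy : ¬ p ∣ orderOf y) :
    Nat.card (Subgroup.centralizer ({z * (y : G)} : Set G)) =
      Nat.card (Subgroup.centralizer ({y} : Set (Subgroup.centralizer ({z} : Set G)))) := by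
  have hc : Commute z (y : G) := (mem_centralizer_singleton_iff_commute.1 y.2).symm
  rw [centralizer_mul_ppart hc hz (by rwa [Subgroup.orderOf_coe]),
    ← Subgroup.card_map_of_injective (Subgroup.subtype_injective _)]
  congr 2
  ext x
  simp only [Subgroup.mem_inf, Subgroup.mem_map, mem_centralizer_singleton_iff_commute]
  constructor
  · rintro ⟨h1, h2⟩
    exact ⟨⟨x, mem_centralizer_singleton_iff_commute.2 h1⟩, Subtype.ext h2.eq, rfl⟩
  · rintro ⟨w, hw, rfl⟩
    exact ⟨mem_centralizer_singleton_iff_commute.1 w.2, congrArg Subtype.val hw.eq⟩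

theorem sum_irr_mul_conj_section [Fact p.Prime] {z : G} (hz : ∃ k : ℕ, orderOf z = p ^ k)
    {y y' : Subgroup.centralizer ({z} : Set G)} (hy : ¬ p ∣ orderOf y) (hy' : ¬ p ∣ orderOf y') :
    ∑ ζ : IrrCharacter G, (ζ : G → ℂ) (z * (y : G)) * conj ((ζ : G → ℂ) (z * (y' : G))) =
      ∑ χ : IrrCharacter (Subgroup.centralizer ({z} : Set G)), χ.1 y * conj (χ.1 y') := by
  by_cases h : IsConj y y'
  · rw [sum_irr_mul_conj_of_isConj h,
      sum_irr_mul_conj_of_isConj ((isConj_mul_iff_of_ppart hz hy hy').2 h),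
      card_centralizer_mul_of_ppart hz hy]
  · rw [sum_irr_mul_conj_of_not_isConj h,
      sum_irr_mul_conj_of_not_isConj (mt (isConj_mul_iff_of_ppart hz hy hy').1 h)]

/-- The column inner products of the principal block on the `p`-section of `z` are those of the
principal block of `C(z)` on `p`-regular elements. -/
theorem principal_sum_mul_conj (hM : IsPModular p M) {z : G} (hz : ∃ k : ℕ, orderOf z = p ^ k)
    {y y' : Subgroup.centralizer ({z} : Set G)} (hy : ¬ p ∣ orderOf y) (hy' : ¬ p ∣ orderOf y') :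
    ∑ᶠ ζ ∈ principalBlock M G, (ζ : G → ℂ) (z * (y : G)) * conj ((ζ : G → ℂ) (z * (y' : G))) =
      ∑ᶠ χ ∈ principalBlock M (Subgroup.centralizer ({z} : Set G)), χ.1 y * conj (χ.1 y') := by
  classical
  have := hM.2.1
  have : Fact p.Prime := ⟨hM.1⟩
  have h1 := blockPart_congr_of_section hM
    (memLocalRing_blockCoeff (isPBlock_principalBlock (M := M)
      (G := Subgroup.centralizer ({z} : Set G))))
    (ϑ := ∑ ζ : IrrCharacter G, conj ((ζ : G → ℂ) (z * (y' : G))) • secFun z (ζ : G → ℂ))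
    (φ := ∑ χ : IrrCharacter (Subgroup.centralizer ({z} : Set G)), conj (χ.1 y') • χ.1)
    (x := 1) (u := y) (z := 1) (by
      intro u w hw hw1
      rw [isConj_one_right.1 hw1, isPPart_one_iff] at hw
      simp only [Finset.sum_apply, Pi.smul_apply, smul_eq_mul, secFun_apply, mul_comm (conj _)]
      exact sum_irr_mul_conj_section hz hw hy') (isPPart_one_iff.2 hy) (IsConj.refl 1)
  rw [blockPart_sum_smul, blockPart_sum_smul] at h1
  rw [finsum_mem_irr_eq_sum, finsum_mem_irr_eq_sum]
  refine Eq.trans (Finset.sum_congr rfl fun ζ _ => ?_) (h1.trans (Finset.sum_congr rfl fun χ _ => ?_))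
  · split_ifs with h
    · rw [← apply_mul_eq_blockPart_principal hM hz h hy, mul_comm]
    · rw [blockPart_principal_eq_zero hM hz h hy, mul_zero]
  · rw [blockPart_irr]
    split_ifs with h
    · rw [mul_comm]
    · simp

theorem finsum_norm_sq_cast (A : Set (IrrCharacter G)) (g : G) :
    ((∑ᶠ χ ∈ A, ‖(χ : G → ℂ) g‖ ^ 2 : ℝ) : ℂ) =
      ∑ᶠ χ ∈ A, (χ : G → ℂ) g * conj ((χ : G → ℂ) g) := by
  classical
  rw [finsum_mem_irr_eq_sum, finsum_mem_irr_eq_sum]
  push_cast
  refine Finset.sum_congr rfl fun χ _ => ?_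
  split_ifs
  · rw [Complex.mul_conj, Complex.normSq_eq_norm_sq]
  · rfl

theorem principal_sum_norm_sq (hM : IsPModular p M) {z : G} (hz : ∃ k : ℕ, orderOf z = p ^ k)
    {y : Subgroup.centralizer ({z} : Set G)} (hy : ¬ p ∣ orderOf y) :
    ∑ᶠ ζ ∈ principalBlock M G, ‖(ζ : G → ℂ) (z * (y : G))‖ ^ 2 =
      ∑ᶠ χ ∈ principalBlock M (Subgroup.centralizer ({z} : Set G)), ‖χ.1 y‖ ^ 2 := by
  have h := principal_sum_mul_conj hM hz hy hy
  rw [← finsum_norm_sq_cast, ← finsum_norm_sq_cast] at h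
  exact_mod_cast h

/-- In a group with a normal `p`-complement `N`, `∑_{χ ∈ B₀} χ(y) conj χ(y') = |G : N|` for
`p`-regular `y`, `y'`. -/
theorem principal_sum_mul_conj_of_normal_compl (hM : IsPModular p M) {N : Subgroup G} [N.Normal]
    (hN : ¬ p ∣ Nat.card N) (hidx : ∃ k : ℕ, N.index = p ^ k) {y y' : G} (hy : ¬ p ∣ orderOf y)
    (hy' : ¬ p ∣ orderOf y') :
    ∑ᶠ χ ∈ principalBlock M G, (χ : G → ℂ) y * conj ((χ : G → ℂ) y') = (N.index : ℂ) := by
  classical
  have : Fact p.Prime := ⟨hM.1⟩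
  rw [principalBlock_eq_of_normal_compl hM hN hidx, ← finsum_charDegree_sq_of_normal N,
    finsum_mem_irr_eq_sum, finsum_mem_irr_eq_sum]
  push_cast
  refine Finset.sum_congr rfl fun χ _ => ?_
  split_ifs with h
  · rw [h y ((not_dvd_orderOf_iff_mem hN hidx).1 hy), h y' ((not_dvd_orderOf_iff_mem hN hidx).1 hy'),
      conj_irr_apply, inv_one, cast_charDegree, sq]
  · rfl

omit [Finite G] in
theorem index_eq_pow_factorization [Finite G] (hp : p.Prime) {N : Subgroup G}
    (hN : ¬ p ∣ Nat.card N) (hidx : ∃ k : ℕ, N.index = p ^ k) :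
    N.index = p ^ (Nat.card G).factorization p := by
  obtain ⟨k, hk⟩ := hidx
  rw [← N.index_mul_card, Nat.factorization_mul N.index_ne_zero_of_finite Nat.card_pos.ne',
    Finsupp.add_apply, Nat.factorization_eq_zero_of_not_dvd hN, add_zero, hk,
    Nat.factorization_pow_self hp]

end CL.Blocks
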