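import Cfsg.Agent.Base
import Cfsg.Agent.Blocks.Principal
import Cfsg.Agent.Char.InduceChar
import Cfsg.Agent.Transfer.PCompl

/-!
# The principal block when centralizers of `p`-elements have normal `p`-complements

For a subgroup `P` and a function `α` on `P`, `theta M P α` is the principal block component of the
induced function.
-/

set_option autoImplicit false
set_option linter.unusedSectionVars false

namespace CL.Blocks

open Cfsg CL.Char
open scoped ComplexConjugate

variable {G : Type*} [Group G] [Fintype G] {p : ℕ} {M : Ideal AlgInt}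

/-- A character of the principal block is constant on the part of the `p`-section of `z`, if
`C(z)` has a normal `p`-complement. -/
theorem principal_apply_of_isPPart (hM : IsPModular p M) {g z : G} (hz : IsPPart p g z)
    (hC : HasNormalPComplement p (Subgroup.centralizer ({z} : Set G))) {χ : IrrCharacter G}
    (hχ : χ ∈ principalBlock M G) : (χ : G → ℂ) g = (χ : G → ℂ) z := by
  have : Fact p.Prime := ⟨hM.1⟩
  obtain ⟨y, rfl, hc, hk, hy⟩ := hz
  have hyC : y ∈ Subgroup.centralizer ({z} : Set G) :=
    mem_centralizer_singleton_iff_commute.2 hc.symm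
  refine principal_apply_mul_of_mem_centralizerPPrimeCore hM hk ⟨⟨y, hyC⟩, ?_, rfl⟩ hχ
  rw [← CL.Transfer.pResidual_eq_pPrimeCore hC]
  refine CL.Transfer.mem_pResidual_of_coprime ?_
  rw [Subgroup.orderOf_mk]
  exact ((Nat.Prime.coprime_iff_not_dvd hM.1).2 hy).symm

/-- `∑_{χ ∈ B₀} |χ z|² = |P|` for `z` central in a Sylow subgroup `P` such that `C(z)` has a normal
`p`-complement. -/
theorem principal_sum_mul_conj_self (hM : IsPModular p M) [Fact p.Prime] (P : Sylow p G) {z : G}
    (hz : z ∈ (P : Subgroup G)) (hzP : (P : Subgroup G) ≤ Subgroup.centralizer ({z} : Set G))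
    (hC : HasNormalPComplement p (Subgroup.centralizer ({z} : Set G))) :
    ∑ᶠ χ ∈ principalBlock M G, (χ : G → ℂ) z * conj ((χ : G → ℂ) z) =
      (Nat.card (P : Subgroup G) : ℂ) := by
  have hk : ∃ k : ℕ, orderOf z = p ^ k := by
    obtain ⟨k, hk⟩ := IsPGroup.iff_orderOf.1 P.isPGroup' ⟨z, hz⟩
    exact ⟨k, by rwa [Subgroup.orderOf_mk] at hk⟩
  have h1 := principal_sum_mul_conj hM hk (y := 1) (y' := 1) not_dvd_orderOf_one not_dvd_orderOf_one
  simp only [OneMemClass.coe_one, mul_one] at h1
  rw [h1, principal_sum_mul_conj_of_normal_compl hM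
    (CL.Transfer.hasNormalPComplement_iff_not_dvd.1 hC) CL.Transfer.exists_index_pResidual_eq_pow
    not_dvd_orderOf_one not_dvd_orderOf_one,
    (CL.Transfer.isComplement'_pResidual hC (P.subtype hzP)).symm.index_eq_card,
    Sylow.coe_subtype, Nat.card_congr (Subgroup.subgroupOfEquivOfLe hzP).toEquiv]

/-- The principal block component of an induced function. -/
noncomputable def theta (M : Ideal AlgInt) (P : Subgroup G) (α : P → ℂ) : G → ℂ :=
  blockPart (principalBlock M G) (indFun P α)

theorem blockPart_eq_sum_smul (A : Set (IrrCharacter G)) [DecidablePred (· ∈ A)] (ϑ : G → ℂ) :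
    blockPart A ϑ = ∑ χ : IrrCharacter G,
      (if χ ∈ A then classInner ϑ (χ : G → ℂ) else 0) • (χ : G → ℂ) := by
  funext u
  rw [blockPart_apply]
  simp only [finsum_mem_irr_eq_sum, Finset.sum_apply, Pi.smul_apply, smul_eq_mul]
  refine Finset.sum_congr rfl fun χ _ => ?_
  split_ifs <;> simp

theorem isClassFunction_blockPart (A : Set (IrrCharacter G)) (ϑ : G → ℂ) :
    IsClassFunction G (blockPart A ϑ) := by
  classical
  rw [blockPart_eq_sum_smul]
  exact isClassFunction_sum_irr _

theorem gen_blockPart (A : Set (IrrCharacter G)) {ϑ : G → ℂ} (h : IsGeneralizedCharacter G ϑ) :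
    IsGeneralizedCharacter G (blockPart A ϑ) := by
  classical
  refine gen_of_inner_int (isClassFunction_blockPart A ϑ) fun χ hχ => ?_
  have := classInner_blockPart A ϑ ⟨χ, hχ⟩
  simp only at this
  rw [this]
  split_ifs
  · exact gen_inner_int h (gen_of_irr hχ)
  · exact ⟨0, by simp⟩

theorem isClassFunction_theta (P : Subgroup G) (α : P → ℂ) : IsClassFunction G (theta M P α) :=
  isClassFunction_blockPart _ _

theorem gen_theta (P : Subgroup G) {α : P → ℂ} (h : IsGeneralizedCharacter P α) :
    IsGeneralizedCharacter G (theta M P α) :=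
  gen_blockPart _ (gen_indFun P h)

theorem classInner_theta_irr (P : Subgroup G) [Fintype P] (α : P → ℂ) (χ : IrrCharacter G)
    [Decidable (χ ∈ principalBlock M G)] :
    classInner (theta M P α) χ =
      if χ ∈ principalBlock M G then classInner α (fun x : P => (χ : G → ℂ) x) else 0 := by
  rw [theta, classInner_blockPart, classInner_indFun_left P α (irr_isClassFunction χ.2)]

theorem mem_principalBlock_of_classInner_theta (P : Subgroup G) (α : P → ℂ) {χ : IrrCharacter G}
    (h : classInner (theta M P α) χ ≠ 0) : χ ∈ principalBlock M G := by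
  classical
  by_contra hc
  rw [theta, classInner_blockPart, if_neg hc] at h
  exact h rfl

theorem classInner_theta_theta (P : Subgroup G) [Fintype P] (α β : P → ℂ) :
    classInner (theta M P α) (theta M P β) = classInner (fun x : P => theta M P α x) β := by
  classical
  rw [← classInner_indFun_right P β (isClassFunction_theta P α),
    classInner_eq_sum (isClassFunction_theta P α), classInner_eq_sum (isClassFunction_theta P α)]
  refine Finset.sum_congr rfl fun χ _ => ?_
  by_cases h : χ ∈ principalBlock M G
  · rw [show theta M P β = blockPart _ (indFun P β) from rfl, classInner_blockPart _ (indFun P β),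
      if_pos h]
  · rw [classInner_theta_irr, if_neg h, zero_mul, zero_mul]

theorem theta_apply (P : Subgroup G) [Fintype P] (α : P → ℂ) (g : G) :
    theta M P α g = (Nat.card P : ℂ)⁻¹ *
      ∑ x : P, α x * ∑ᶠ χ ∈ principalBlock M G, (χ : G → ℂ) g * conj ((χ : G → ℂ) x) := by
  classical
  rw [theta, blockPart_apply]
  simp only [finsum_mem_irr_eq_sum, classInner_indFun_left P α (irr_isClassFunction (Subtype.prop _)),
    classInner_def, Finset.mul_sum, Finset.sum_mul]
  rw [Finset.sum_comm]
  refine Finset.sum_congr rfl fun χ _ => ?_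
  split_ifs
  · refine Finset.sum_congr rfl fun x _ => ?_
    ring
  · simp

/-- `theta` vanishes on `p`-regular elements. -/
theorem theta_apply_of_not_dvd (hM : IsPModular p M) {P : Subgroup G} (hP : IsPGroup p P)
    {α : P → ℂ} (hα : α 1 = 0) {g : G} (hg : ¬ p ∣ orderOf g) : theta M P α g = 0 := by
  have := hM.2.1
  have : Fact p.Prime := ⟨hM.1⟩
  have := Fintype.ofFinite P
  rw [theta_apply, Finset.sum_eq_zero, mul_zero]
  intro x _
  by_cases hx : x = 1
  · rw [hx, hα, zero_mul]
  · rw [sum_mul_conj_eq_zero_of_regular_singular hM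
      (memLocalRing_blockCoeff isPBlock_principalBlock) hg, mul_zero]
    obtain ⟨k, hk⟩ := IsPGroup.iff_orderOf.1 hP x
    rw [Subgroup.orderOf_coe, hk]
    refine dvd_pow_self p ?_
    rintro rfl
    exact hx (orderOf_eq_one_iff.1 hk)

/-- `theta` is constant on the part of the `p`-section of `z`, if `C(z)` has a normal
`p`-complement. -/
theorem theta_apply_of_isPPart (hM : IsPModular p M) (P : Subgroup G) (α : P → ℂ) {g z : G}
    (hz : IsPPart p g z) (hC : HasNormalPComplement p (Subgroup.centralizer ({z} : Set G))) :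
    theta M P α g = theta M P α z := by
  rw [theta, blockPart_apply, blockPart_apply]
  exact finsum_mem_congr rfl fun χ hχ => by rw [principal_apply_of_isPPart hM hz hC hχ]

/-- The value of `theta` at an element `z` central in the Sylow subgroup `P`, if `C(z)` has a normal
`p`-complement. -/
theorem theta_apply_sylow (hM : IsPModular p M) [Fact p.Prime] (P : Sylow p G)
    [Fintype (P : Subgroup G)] (α : ↥(P : Subgroup G) → ℂ) {z : G}
    (hz : z ∈ (P : Subgroup G)) (hzP : (P : Subgroup G) ≤ Subgroup.centralizer ({z} : Set G))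
    (hC : HasNormalPComplement p (Subgroup.centralizer ({z} : Set G)))
    [DecidablePred fun x : ↥(P : Subgroup G) => IsConj z (x : G)] :
    theta M (P : Subgroup G) α z =
      ∑ x : ↥(P : Subgroup G), if IsConj z (x : G) then α x else 0 := by
  have := hM.2.1
  have hk : ∀ x ∈ (P : Subgroup G), IsPPart p x x := fun x hx => by
    obtain ⟨k, hk⟩ := IsPGroup.iff_orderOf.1 P.isPGroup' ⟨x, hx⟩
    exact isPPart_self ⟨k, by rwa [Subgroup.orderOf_mk] at hk⟩
  rw [theta_apply, Finset.mul_sum]
  refine Finset.sum_congr rfl fun x _ => ?_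
  split_ifs with h
  · rw [finsum_mem_congr rfl (fun χ _ => by
      rw [← classFun_eq_of_isConj (irr_isClassFunction χ.2) h]),
      principal_sum_mul_conj_self hM P hz hzP hC, mul_comm, mul_assoc,
      mul_inv_cancel₀ (natCard_cast_ne_zero _), mul_one]
  · simp only [conj_irr_apply]
    rw [sum_mul_inv_eq_zero_of_pPart hM (memLocalRing_blockCoeff isPBlock_principalBlock)
      (hk z hz) (hk x x.2) h, mul_zero, mul_zero]

end CL.Blocks
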