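import Cfsg.Agent.Base
import Cfsg.Agent.Char.Basic
import Cfsg.Agent.Blocks.LocalRingP
import Cfsg.Agent.Blocks.PPart

/-!
# Character values modulo `M`, and traces of elements commuting with a subgroup

* `χ (x * y) ≡ χ y` when `x` is a `p`-element commuting with `y`;
* Lemma (C): if `y` commutes with `Q`, the inner product of `u ↦ ψ (y * u)` with a character of
  `Q` is an algebraic integer.
-/

set_option autoImplicit false

namespace CL.Blocks

open Cfsg CL.Char

open scoped ComplexConjugate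

variable {G : Type*} [Group G] {M : Ideal AlgInt} {p : ℕ}

/-- A central element acts as a root of unity in an irreducible character. -/
theorem irr_central_mul {χ : G → ℂ} (hχ : IsIrrCharacter G χ) {z : G} (hz : ∀ g, z * g = g * z) :
    ∃ ω : ℂ, ω ^ orderOf z = 1 ∧ ∀ (k : ℕ) (g : G), χ (z ^ k * g) = ω ^ k * χ g := by
  obtain ⟨n, ρ, hρ, rfl⟩ := hχ
  obtain ⟨c, hc⟩ := exists_eq_smul_of_comm ρ (ρ z) fun g v => by
    rw [← Module.End.mul_apply, ← map_mul, hz g, map_mul, Module.End.mul_apply]
  have h1 : ∀ (k : ℕ) (g : G), ρ.character (z ^ k * g) = c ^ k * ρ.character g := by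
    intro k g
    have h2 : ρ (z ^ k * g) = c ^ k • ρ g := by
      rw [map_mul, map_pow, hc, smul_pow, smul_mul_assoc]
      congr 1
      rw [← Module.End.one_eq_id, one_pow, one_mul]
    simp only [Representation.character, h2, map_smul, smul_eq_mul]
  refine ⟨c, ?_, h1⟩
  have h3 := h1 (orderOf z) 1
  rw [pow_orderOf_eq_one, mul_one] at h3
  have h4 : ρ.character 1 ≠ 0 := irr_apply_one_ne_zero ⟨n, ρ, hρ, rfl⟩
  exact (mul_eq_right₀ h4).1 h3.symm

theorem irr_central_mul' {χ : G → ℂ} (hχ : IsIrrCharacter G χ) {z : G} (hz : ∀ g, z * g = g * z) :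
    ∃ ω : ℂ, ω ^ orderOf z = 1 ∧ ∀ g : G, χ (z * g) = ω * χ g := by
  obtain ⟨ω, h1, h2⟩ := irr_central_mul hχ hz
  exact ⟨ω, h1, fun g => by simpa using h2 1 g⟩

/-- The value of an irreducible character at a central element times `g`. -/
theorem irr_central_mul_eq {χ : G → ℂ} (hχ : IsIrrCharacter G χ) {z : G}
    (hz : ∀ g, z * g = g * z) (g : G) : χ (z * g) = χ z / χ 1 * χ g := by
  obtain ⟨ω, -, h⟩ := irr_central_mul' hχ hz
  have h1 := h 1
  rw [mul_one] at h1
  rw [h g, h1, mul_div_cancel_right₀ _ (irr_apply_one_ne_zero hχ)]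

variable [Finite G]

theorem isIntegral_multiset_sum' {s : Multiset ℂ} (h : ∀ x ∈ s, IsIntegral ℤ x) :
    IsIntegral ℤ s.sum := IsIntegral.multiset_sum h

theorem isIntegral_char_value {χ : G → ℂ} (hχ : IsCharacter G χ) (g : G) : IsIntegral ℤ (χ g) := by
  obtain ⟨s, -, h1, h2, -⟩ := char_exists_eigenvalues_nat hχ g
  rw [h2]
  exact isIntegral_multiset_sum' fun x hx =>
    isIntegral_of_pow_eq_one' (orderOf_pos g).ne' (h1 x hx)

theorem isIntegral_gen_value {χ : G → ℂ} (hχ : IsGeneralizedCharacter G χ) (g : G) :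
    IsIntegral ℤ (χ g) := by
  obtain ⟨a, b, ha, hb, rfl⟩ := hχ
  exact (isIntegral_char_value ha g).sub (isIntegral_char_value hb g)

theorem memLocalRing_char [M.IsMaximal] {χ : G → ℂ} (hχ : IsCharacter G χ) (g : G) :
    MemLocalRing M (χ g) := memLocalRing_of_isIntegral (isIntegral_char_value hχ g)

theorem memLocalRing_gen [M.IsMaximal] {χ : G → ℂ} (hχ : IsGeneralizedCharacter G χ) (g : G) :
    MemLocalRing M (χ g) := memLocalRing_of_isIntegral (isIntegral_gen_value hχ g)

theorem memLocalRing_irr [M.IsMaximal] (χ : IrrCharacter G) (g : G) :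
    MemLocalRing M ((χ : G → ℂ) g) := memLocalRing_char (irr_isCharacter χ.2) g

theorem memLocalRing_conj_char [M.IsMaximal] {χ : G → ℂ} (hχ : IsCharacter G χ) (g : G) :
    MemLocalRing M (conj (χ g)) := memLocalRing_char (char_conj hχ) g

omit [Finite G] in
theorem red_multiset_sum [M.IsMaximal] {s : Multiset ℂ} (h : ∀ x ∈ s, MemLocalRing M x) :
    red M s.sum = (s.map (red M)).sum := by
  induction s using Multiset.induction_on with
  | empty => simpa using red_zero
  | cons a s ih =>
    have hs : ∀ x ∈ s, MemLocalRing M x := fun x hx => h x (Multiset.mem_cons_of_mem hx)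
    rw [Multiset.sum_cons, Multiset.map_cons, Multiset.sum_cons,
      red_add (h a (Multiset.mem_cons_self a s)) ((locRing M).multiset_sum_mem s hs), ih hs]

/-- `χ(g) ^ (p ^ k) ≡ χ(g ^ (p ^ k))`. -/
theorem char_pow_sub_memLocalIdeal (hM : IsPModular p M) {χ : G → ℂ} (hχ : IsCharacter G χ)
    (g : G) (k : ℕ) : MemLocalIdeal M (χ g ^ p ^ k - χ (g ^ p ^ k)) := by
  have := hM.2.1
  have := charP_residueField hM
  have : Fact p.Prime := ⟨hM.1⟩
  obtain ⟨s, -, h1, h2, h3⟩ := char_exists_eigenvalues_nat hχ g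
  have hs : ∀ x ∈ s, MemLocalRing M x := fun x hx =>
    memLocalRing_of_pow_eq_one (orderOf_pos g).ne' (h1 x hx)
  rw [← red_eq_red_iff (memLocalRing_pow (memLocalRing_char hχ g) _) (memLocalRing_char hχ _),
    red_pow (memLocalRing_char hχ g), h2, h3, red_multiset_sum hs, multiset_sum_pow_char_pow,
    red_multiset_sum, Multiset.map_map, Multiset.map_map]
  · congr 1
    refine Multiset.map_congr rfl fun x hx => ?_
    simp only [Function.comp_apply]
    rw [red_pow (hs x hx)]
  · intro y hy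
    obtain ⟨x, hx, rfl⟩ := Multiset.mem_map.1 hy
    exact memLocalRing_pow (hs x hx) _

/-- If `g ^ (p ^ k) = h ^ (p ^ k)` then `χ g ≡ χ h`. -/
theorem char_sub_memLocalIdeal_of_pow_eq (hM : IsPModular p M) {χ : G → ℂ} (hχ : IsCharacter G χ)
    {g h : G} {k : ℕ} (hgh : g ^ p ^ k = h ^ p ^ k) : MemLocalIdeal M (χ g - χ h) := by
  have := hM.2.1
  refine memLocalIdeal_sub_of_pow_sub_pow hM (memLocalRing_char hχ g) (memLocalRing_char hχ h)
    (k := k) ?_
  refine memLocalIdeal_sub_trans (char_pow_sub_memLocalIdeal hM hχ g k) ?_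
  rw [hgh]
  exact memLocalIdeal_sub_comm (char_pow_sub_memLocalIdeal hM hχ h k)

/-- `χ (x * y) ≡ χ y` for a `p`-element `x` commuting with `y`. -/
theorem char_mul_sub_memLocalIdeal (hM : IsPModular p M) {χ : G → ℂ} (hχ : IsCharacter G χ)
    {x y : G} (hc : Commute x y) (hx : ∃ k : ℕ, orderOf x = p ^ k) :
    MemLocalIdeal M (χ (x * y) - χ y) := by
  obtain ⟨k, hk⟩ := hx
  refine char_sub_memLocalIdeal_of_pow_eq hM hχ (k := k) ?_
  rw [hc.mul_pow, ← hk, pow_orderOf_eq_one, one_mul]

theorem gen_mul_sub_memLocalIdeal (hM : IsPModular p M) {χ : G → ℂ}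
    (hχ : IsGeneralizedCharacter G χ) {x y : G} (hc : Commute x y)
    (hx : ∃ k : ℕ, orderOf x = p ^ k) : MemLocalIdeal M (χ (x * y) - χ y) := by
  have := hM.2.1
  obtain ⟨a, b, ha, hb, rfl⟩ := hχ
  have := memLocalIdeal_sub (char_mul_sub_memLocalIdeal hM ha hc hx)
    (char_mul_sub_memLocalIdeal hM hb hc hx)
  simp only [Pi.sub_apply]
  convert this using 1
  ring

/-- `χ x ≡ χ 1` for a `p`-element `x`. -/
theorem char_sub_one_memLocalIdeal (hM : IsPModular p M) {χ : G → ℂ} (hχ : IsCharacter G χ)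
    {x : G} (hx : ∃ k : ℕ, orderOf x = p ^ k) : MemLocalIdeal M (χ x - χ 1) := by
  simpa using char_mul_sub_memLocalIdeal hM hχ (Commute.one_right x) hx

theorem char_sub_pReg_memLocalIdeal [Fact p.Prime] (hM : IsPModular p M) {χ : G → ℂ}
    (hχ : IsCharacter G χ) (g : G) : MemLocalIdeal M (χ g - χ (pReg p g)) := by
  conv => enter [2, 1]; rw [← pPart_mul_pReg (p := p) g]
  exact char_mul_sub_memLocalIdeal hM hχ (commute_pPart_pReg g) (orderOf_pPart g)

theorem gen_sub_pReg_memLocalIdeal [Fact p.Prime] (hM : IsPModular p M) {χ : G → ℂ}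
    (hχ : IsGeneralizedCharacter G χ) (g : G) : MemLocalIdeal M (χ g - χ (pReg p g)) := by
  conv => enter [2, 1]; rw [← pPart_mul_pReg (p := p) g]
  exact gen_mul_sub_memLocalIdeal hM hχ (commute_pPart_pReg g) (orderOf_pPart g)

/-! ### Lemma (C) -/

section C

variable {Q : Type*} [Group Q] [Fintype Q]

/-- Lemma (C), for a homomorphism `f : Q →* G` whose image commutes with `y`. -/
theorem isIntegral_inner_comm_hom (f : Q →* G) {y : G} (hy : ∀ u : Q, Commute (f u) y)
    {ψ : G → ℂ} (hψ : IsCharacter G ψ) {α : Q → ℂ} (hα : IsCharacter Q α) :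
    IsIntegral ℤ (classInner (fun u : Q => ψ (y * f u)) α) := by
  let C : Subgroup G := Subgroup.centralizer {y}
  let y' : C := ⟨y, mem_centralizer_singleton_iff_commute.2 (Commute.refl y)⟩
  let f' : Q →* C := f.codRestrict C fun u => mem_centralizer_singleton_iff_commute.2 (hy u)
  have hy' : ∀ c : C, y' * c = c * y' := fun c =>
    Subtype.ext (mem_centralizer_singleton_iff_commute.1 c.2).symm.eq
  have key : ∀ ξ : C → ℂ, IsCharacter C ξ →
      IsIntegral ℤ (classInner (fun u : Q => ξ (y' * f' u)) α) := by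
    intro ξ hξ
    refine char_induction (P := fun ξ => IsIntegral ℤ (classInner (fun u : Q => ξ (y' * f' u)) α))
      ?_ ?_ ?_ hξ
    · have : (fun u : Q => (0 : C → ℂ) (y' * f' u)) = 0 := rfl
      simp only [this, classInner_zero_left]
      exact isIntegral_zero
    · intro ξ hξ
      obtain ⟨ω, h1, h2⟩ := irr_central_mul' hξ hy'
      have : (fun u : Q => ξ (y' * f' u)) = ω • fun u : Q => ξ (f' u) := funext fun u => h2 _
      obtain ⟨n, hn⟩ := char_inner_nat (char_comp (irr_isCharacter hξ) f') hα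
      simp only [this, classInner_smul_left, hn]
      exact (isIntegral_of_pow_eq_one' (orderOf_pos y').ne' h1).mul
        (isIntegral_algebraMap (R := ℤ) (x := (n : ℤ)))
    · intro ξ η _ _ h1 h2
      have : (fun u : Q => (ξ + η) (y' * f' u)) =
          (fun u : Q => ξ (y' * f' u)) + fun u : Q => η (y' * f' u) := rfl
      simp only [this, classInner_add_left]
      exact h1.add h2
  exact key _ (char_restrict hψ C)

theorem isIntegral_inner_comm_hom_gen (f : Q →* G) {y : G} (hy : ∀ u : Q, Commute (f u) y)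
    {ψ : G → ℂ} (hψ : IsGeneralizedCharacter G ψ) {α : Q → ℂ} (hα : IsGeneralizedCharacter Q α) :
    IsIntegral ℤ (classInner (fun u : Q => ψ (y * f u)) α) := by
  obtain ⟨a, b, ha, hb, rfl⟩ := hψ
  obtain ⟨c, d, hc, hd, rfl⟩ := hα
  have : (fun u : Q => (a - b) (y * f u)) =
      (fun u : Q => a (y * f u)) - fun u : Q => b (y * f u) := rfl
  rw [this, classInner_sub_left, classInner_sub_right, classInner_sub_right]
  exact ((isIntegral_inner_comm_hom f hy ha hc).sub (isIntegral_inner_comm_hom f hy ha hd)).sub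
    ((isIntegral_inner_comm_hom f hy hb hc).sub (isIntegral_inner_comm_hom f hy hb hd))

end C

/-- Lemma (C): `y` commutes with the subgroup `Q`. -/
theorem isIntegral_inner_comm (Q : Subgroup G) [Fintype Q] {y : G} (hy : ∀ u ∈ Q, Commute u y)
    {ψ : G → ℂ} (hψ : IsGeneralizedCharacter G ψ) {α : Q → ℂ} (hα : IsGeneralizedCharacter Q α) :
    IsIntegral ℤ (classInner (fun u : Q => ψ (y * u)) α) :=
  isIntegral_inner_comm_hom_gen Q.subtype (fun u => hy u u.2) hψ hα

/-- The average of `ψ (y * u)` over a subgroup commuting with `y` is an algebraic integer. -/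
theorem isIntegral_sum_comm_div (Q : Subgroup G) [Fintype Q] {y : G} (hy : ∀ u ∈ Q, Commute u y)
    {ψ : G → ℂ} (hψ : IsGeneralizedCharacter G ψ) :
    IsIntegral ℤ ((∑ u : Q, ψ (y * u)) / Nat.card Q) := by
  have := isIntegral_inner_comm Q hy hψ (gen_one (G := Q))
  rwa [classInner_one_right, mul_comm, ← div_eq_mul_inv] at this

/-! ### Class functions that are combinations of characters with local integer coefficients -/

section RGen

variable (M) in
/-- `θ` is a class function whose coefficients on the irreducible characters are local integers. -/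
def IsLocGen (θ : G → ℂ) : Prop :=
  ∃ c : IrrCharacter G → ℂ, (∀ χ, MemLocalRing M (c χ)) ∧
    θ = ∑ χ : IrrCharacter G, c χ • (χ : G → ℂ)

theorem isLocGen_iff [Fintype G] {θ : G → ℂ} : IsLocGen M θ ↔ IsClassFunction G θ ∧
    ∀ χ : IrrCharacter G, MemLocalRing M (classInner θ χ) := by
  constructor
  · rintro ⟨c, hc, rfl⟩
    exact ⟨isClassFunction_sum_irr c, fun χ => by rw [classInner_sum_irr]; exact hc χ⟩
  · rintro ⟨h1, h2⟩
    exact ⟨_, h2, classFun_eq_sum h1⟩

theorem IsLocGen.isClassFunction {θ : G → ℂ} (h : IsLocGen M θ) : IsClassFunction G θ := by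
  have := Fintype.ofFinite G
  exact (isLocGen_iff.1 h).1

variable [M.IsMaximal]

theorem isLocGen_of_gen {θ : G → ℂ} (h : IsGeneralizedCharacter G θ) : IsLocGen M θ := by
  have := Fintype.ofFinite G
  obtain ⟨c, -, hc⟩ := gen_exists_eq_sum h
  exact ⟨fun χ => c χ, fun χ => memLocalRing_intCast _, hc⟩

theorem isLocGen_of_char {θ : G → ℂ} (h : IsCharacter G θ) : IsLocGen M θ :=
  isLocGen_of_gen (gen_of_char h)

theorem isLocGen_zero : IsLocGen M (0 : G → ℂ) := isLocGen_of_gen gen_zero

theorem IsLocGen.add {θ η : G → ℂ} (h : IsLocGen M θ) (h' : IsLocGen M η) :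
    IsLocGen M (θ + η) := by
  obtain ⟨c, hc, rfl⟩ := h
  obtain ⟨d, hd, rfl⟩ := h'
  exact ⟨c + d, fun χ => memLocalRing_add (hc χ) (hd χ), by
    simp [← Finset.sum_add_distrib, add_smul]⟩

theorem IsLocGen.smul {θ : G → ℂ} (h : IsLocGen M θ) {a : ℂ} (ha : MemLocalRing M a) :
    IsLocGen M (a • θ) := by
  obtain ⟨c, hc, rfl⟩ := h
  exact ⟨fun χ => a * c χ, fun χ => memLocalRing_mul ha (hc χ), by
    simp [Finset.smul_sum, mul_smul]⟩

theorem IsLocGen.sub {θ η : G → ℂ} (h : IsLocGen M θ) (h' : IsLocGen M η) :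
    IsLocGen M (θ - η) := by
  have := h.add (h'.smul (memLocalRing_neg memLocalRing_one))
  rwa [neg_one_smul, ← sub_eq_add_neg] at this

theorem IsLocGen.sum {ι : Type*} (s : Finset ι) {θ : ι → G → ℂ} (h : ∀ i ∈ s, IsLocGen M (θ i)) :
    IsLocGen M (∑ i ∈ s, θ i) :=
  Finset.sum_induction θ (IsLocGen M) (fun _ _ => IsLocGen.add) isLocGen_zero h

omit [M.IsMaximal] in
/-- Induction principle for `IsLocGen`. -/
theorem IsLocGen.induction {P : (G → ℂ) → Prop} (h0 : P 0)
    (hirr : ∀ (a : ℂ) (χ : G → ℂ), MemLocalRing M a → IsIrrCharacter G χ → P (a • χ))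
    (hadd : ∀ θ η, P θ → P η → P (θ + η)) {θ : G → ℂ} (h : IsLocGen M θ) : P θ := by
  obtain ⟨c, hc, rfl⟩ := h
  exact Finset.sum_induction _ P hadd h0 fun χ _ => hirr _ _ (hc χ) χ.2

theorem IsLocGen.memLocalRing {θ : G → ℂ} (h : IsLocGen M θ) (g : G) : MemLocalRing M (θ g) :=
  h.induction (P := fun θ => MemLocalRing M (θ g)) memLocalRing_zero
    (fun _ _ ha hχ => memLocalRing_mul ha (memLocalRing_char (irr_isCharacter hχ) g))
    fun _ _ => memLocalRing_add

theorem IsLocGen.comp {H : Type*} [Group H] [Finite H] {θ : G → ℂ} (h : IsLocGen M θ)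
    (f : H →* G) : IsLocGen M fun x => θ (f x) :=
  h.induction (P := fun θ => IsLocGen M fun x => θ (f x)) isLocGen_zero
    (fun _ _ ha hχ => (isLocGen_of_char (char_comp (irr_isCharacter hχ) f)).smul ha)
    fun _ _ => IsLocGen.add

theorem IsLocGen.restrict {θ : G → ℂ} (h : IsLocGen M θ) (H : Subgroup G) :
    IsLocGen M fun x : H => θ x := h.comp H.subtype

theorem IsLocGen.inv {θ : G → ℂ} (h : IsLocGen M θ) : IsLocGen M fun x => θ x⁻¹ :=
  h.induction (P := fun θ => IsLocGen M fun x => θ x⁻¹) isLocGen_zero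
    (fun _ _ ha hχ => (isLocGen_of_char (char_inv (irr_isCharacter hχ))).smul ha)
    fun _ _ => IsLocGen.add

theorem IsLocGen.mul {θ η : G → ℂ} (h : IsLocGen M θ) (h' : IsLocGen M η) :
    IsLocGen M (θ * η) := by
  refine h.induction (P := fun θ => IsLocGen M (θ * η)) (by simpa using isLocGen_zero)
    (fun a χ ha hχ => ?_) fun _ _ h1 h2 => by rw [add_mul]; exact h1.add h2
  refine h'.induction (P := fun η => IsLocGen M (a • χ * η)) (by simpa using isLocGen_zero)
    (fun b ψ hb hψ => ?_) fun _ _ h1 h2 => by rw [mul_add]; exact h1.add h2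
  rw [smul_mul_smul_comm]
  exact (isLocGen_of_char (char_mul (irr_isCharacter hχ) (irr_isCharacter hψ))).smul
    (memLocalRing_mul ha hb)

theorem IsLocGen.inner_gen [Fintype G] {θ η : G → ℂ} (h : IsLocGen M θ)
    (h' : IsGeneralizedCharacter G η) : MemLocalRing M (classInner θ η) := by
  refine h.induction (P := fun θ => MemLocalRing M (classInner θ η)) ?_ (fun a χ ha hχ => ?_)
    fun _ _ h1 h2 => ?_
  · simpa only [classInner_zero_left] using memLocalRing_zero
  · obtain ⟨n, hn⟩ := gen_inner_int (gen_of_irr hχ) h'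
    simp only [classInner_smul_left, hn]
    exact memLocalRing_mul ha (memLocalRing_intCast n)
  · simp only [classInner_add_left]
    exact memLocalRing_add h1 h2

theorem IsLocGen.mul_sub_memLocalIdeal (hM : IsPModular p M) {θ : G → ℂ} (h : IsLocGen M θ)
    {x y : G} (hc : Commute x y) (hx : ∃ k : ℕ, orderOf x = p ^ k) :
    MemLocalIdeal M (θ (x * y) - θ y) := by
  refine h.induction (P := fun θ => MemLocalIdeal M (θ (x * y) - θ y))
    (by simpa using memLocalIdeal_zero) (fun a χ ha hχ => ?_) fun _ _ h1 h2 => ?_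
  · simp only [Pi.smul_apply, smul_eq_mul, ← mul_sub]
    exact memLocalIdeal_mul_left ha (char_mul_sub_memLocalIdeal hM (irr_isCharacter hχ) hc hx)
  · simp only [Pi.add_apply, add_sub_add_comm]
    exact memLocalIdeal_add h1 h2

/-- Lemma (C) for local integer combinations of characters. -/
theorem IsLocGen.inner_comm {θ : G → ℂ} (h : IsLocGen M θ) (Q : Subgroup G) [Fintype Q] {y : G}
    (hy : ∀ u ∈ Q, Commute u y) {α : Q → ℂ} (hα : IsGeneralizedCharacter Q α) :
    MemLocalRing M (classInner (fun u : Q => θ (y * u)) α) := by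
  refine h.induction (P := fun θ => MemLocalRing M (classInner (fun u : Q => θ (y * u)) α)) ?_
    (fun a χ ha hχ => ?_) fun θ η h1 h2 => ?_
  · have : (fun u : Q => (0 : G → ℂ) (y * u)) = 0 := rfl
    simpa only [this, classInner_zero_left] using memLocalRing_zero
  · have : (fun u : Q => (a • χ) (y * u)) = a • fun u : Q => χ (y * u) := rfl
    simp only [this, classInner_smul_left]
    exact memLocalRing_mul ha
      (memLocalRing_of_isIntegral (isIntegral_inner_comm Q hy (gen_of_irr hχ) hα))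
  · have : (fun u : Q => (θ + η) (y * u)) =
        (fun u : Q => θ (y * u)) + fun u : Q => η (y * u) := rfl
    simp only [this, classInner_add_left]
    exact memLocalRing_add h1 h2

theorem IsLocGen.sum_comm_div {θ : G → ℂ} (h : IsLocGen M θ) (Q : Subgroup G) [Fintype Q] {y : G}
    (hy : ∀ u ∈ Q, Commute u y) : MemLocalRing M ((∑ u : Q, θ (y * u)) / Nat.card Q) := by
  have := h.inner_comm Q hy (gen_one (G := Q))
  rwa [classInner_one_right, mul_comm, ← div_eq_mul_inv] at this

/-- If `θ` vanishes on `y * (Q \ 1)` with `Q` commuting with `y`, then `|Q|` divides `θ y`. -/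
theorem IsLocGen.div_card_of_vanish {θ : G → ℂ} (h : IsLocGen M θ) (Q : Subgroup G) {y : G}
    (hy : ∀ u ∈ Q, Commute u y) (hv : ∀ u ∈ Q, u ≠ 1 → θ (y * u) = 0) :
    MemLocalRing M (θ y / Nat.card Q) := by
  have := Fintype.ofFinite Q
  have h1 := h.sum_comm_div Q hy
  rw [Finset.sum_eq_single (1 : Q) (fun u _ hu => hv u u.2 fun h => hu (Subtype.ext h))
    (by simp)] at h1
  simpa using h1

/-- A local integer combination of characters that vanishes on the `p`-singular elements has its
value at `y` divisible by the order of the centralizer of `y`. -/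
theorem IsLocGen.div_card_centralizer (hM : IsPModular p M) {θ : G → ℂ} (h : IsLocGen M θ)
    (hv : ∀ g, p ∣ orderOf g → θ g = 0) (y : G) :
    MemLocalRing M (θ y / Nat.card (Subgroup.centralizer ({y} : Set G))) := by
  have : Fact p.Prime := ⟨hM.1⟩
  by_cases hy : p ∣ orderOf y
  · rw [hv y hy, zero_div]
    exact memLocalRing_zero
  obtain ⟨P⟩ : Nonempty (Sylow p (Subgroup.centralizer ({y} : Set G))) := inferInstance
  let Q : Subgroup G := (P : Subgroup (Subgroup.centralizer ({y} : Set G))).map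
    (Subgroup.centralizer ({y} : Set G)).subtype
  have hQ : IsPGroup p Q := P.2.map _
  have hc : ∀ u ∈ Q, Commute u y := by
    rintro _ ⟨u, -, rfl⟩
    exact mem_centralizer_singleton_iff_commute.1 u.2
  have h1 := h.div_card_of_vanish Q hc fun u hu hu1 =>
    hv _ (dvd_orderOf_mul_of_ne_one' (hc u hu) (exists_orderOf_eq_pow_of_mem hQ hu) hy hu1)
  rw [memLocalRing_div_natCast_iff hM Nat.card_pos.ne']
  have h2 : Nat.card Q = p ^ (Nat.card (Subgroup.centralizer ({y} : Set G))).factorization p := by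
    rw [← P.card_eq_multiplicity]
    exact Subgroup.card_map_of_injective (Subgroup.subtype_injective _)
  rw [h2] at h1
  exact_mod_cast h1

end RGen

end CL.Blocks
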