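import Cfsg.Agent.Blocks.Center
import Cfsg.Agent.Blocks.TraceOrth

/-!
# The central elements `θ^♯ = ∑_{x p-regular} θ(x⁻¹) x` and characters of height zero
-/

set_option linter.unusedSectionVars false

namespace CL.Blocks

open Cfsg CL.Char
open scoped MonoidAlgebra ComplexConjugate

variable {G : Type*} [Group G] [Finite G] {p : ℕ} {M : Ideal AlgInt}

variable (p) in
/-- `θ^♯ = ∑_{x p-regular} θ(x⁻¹) x`. -/
noncomputable def sharp (θ : G → ℂ) : ℂ[G] := mk fun x => if p ∣ orderOf x then 0 else θ x⁻¹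

theorem coeff_sharp (θ : G → ℂ) (x : G) :
    (sharp p θ).coeff x = if p ∣ orderOf x then 0 else θ x⁻¹ := rfl

theorem coeff_sharp_of_dvd (θ : G → ℂ) {x : G} (hx : p ∣ orderOf x) :
    (sharp p θ).coeff x = 0 := if_pos hx

theorem coeff_sharp_of_not_dvd (θ : G → ℂ) {x : G} (hx : ¬ p ∣ orderOf x) :
    (sharp p θ).coeff x = θ x⁻¹ := if_neg hx

omit [Finite G] in
theorem orderOf_conj_eq (g h : G) : orderOf (h * g * h⁻¹) = orderOf g :=
  (MulAut.conj h).orderOf_eq g

theorem isCen_sharp {θ : G → ℂ} (hθ : IsClassFunction G θ) : IsCen (sharp p θ) := by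
  intro g h
  rw [coeff_sharp, coeff_sharp, orderOf_conj_eq]
  have := classFun_inv hθ g h
  simp only at this
  rw [this]

theorem isCen_sharp_irr (θ : IrrCharacter G) : IsCen (sharp p (θ : G → ℂ)) :=
  isCen_sharp (irr_isClassFunction θ.2)

theorem intCoeff_sharp [M.IsMaximal] {θ : G → ℂ} (hθ : ∀ g, MemLocalRing M (θ g)) :
    IntCoeff M (sharp p θ) := by
  intro g
  rw [coeff_sharp]
  split_ifs
  · exact memLocalRing_zero
  · exact hθ _

theorem intCoeff_sharp_char [M.IsMaximal] {θ : G → ℂ} (hθ : IsCharacter G θ) :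
    IntCoeff M (sharp p θ) := intCoeff_sharp (memLocalRing_char_apply hθ)

theorem intCoeff_sharp_irr [M.IsMaximal] (θ : IrrCharacter G) :
    IntCoeff M (sharp p (θ : G → ℂ)) := intCoeff_sharp (memLocalRing_irr_apply θ)

theorem trunc_sharp (H : Subgroup G) (θ : G → ℂ) :
    trunc H (sharp p θ) = sharp p fun h : H => θ h := by
  refine alg_ext fun h => ?_
  rw [coeff_trunc, coeff_sharp, coeff_sharp, Subgroup.orderOf_coe]
  rfl

theorem sharp_add (θ η : G → ℂ) : sharp p (θ + η) = sharp p θ + sharp p η := by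
  refine alg_ext fun x => ?_
  rw [coeff_add_apply, coeff_sharp, coeff_sharp, coeff_sharp]
  split_ifs <;> simp

theorem sharp_smul (c : ℂ) (θ : G → ℂ) : sharp p (c • θ) = c • sharp p θ := by
  refine alg_ext fun x => ?_
  rw [coeff_smul_apply', coeff_sharp, coeff_sharp]
  split_ifs <;> simp

theorem sharp_zero : sharp p (0 : G → ℂ) = 0 := by
  refine alg_ext fun x => ?_
  rw [coeff_sharp]
  split_ifs <;> simp

theorem sharp_sum {ι : Type*} (s : Finset ι) (θ : ι → G → ℂ) :
    sharp p (∑ i ∈ s, θ i) = ∑ i ∈ s, sharp p (θ i) := by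
  classical
  induction s using Finset.induction_on with
  | empty => simp [sharp_zero]
  | insert i s hi ih => rw [Finset.sum_insert hi, Finset.sum_insert hi, sharp_add, ih]

theorem sharp_congr {θ η : G → ℂ} (h : ∀ x, ¬ p ∣ orderOf x → θ x = η x) :
    sharp p θ = sharp p η := by
  refine alg_ext fun x => ?_
  rw [coeff_sharp, coeff_sharp]
  split_ifs with hx
  · rfl
  · exact h _ (by rwa [orderOf_inv])

theorem sharp_one : sharp p (fun _ : G => (1 : ℂ)) = setSum ℂ {x : G | ¬ p ∣ orderOf x} := by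
  refine alg_ext fun x => ?_
  rw [coeff_sharp, coeff_setSum]
  simp

theorem ev_sharp [Fintype G] (χ θ : G → ℂ) :
    ev χ (sharp p θ) = ∑ x, if p ∣ orderOf x then 0 else χ x * θ x⁻¹ := by
  rw [ev_apply]
  refine Finset.sum_congr rfl fun x _ => ?_
  rw [coeff_sharp]
  split_ifs
  · rw [zero_mul]
  · rw [mul_comm]

theorem ev_sharp_finsum (χ θ : G → ℂ) :
    ev χ (sharp p θ) = ∑ᶠ x ∈ {x : G | ¬ p ∣ orderOf x}, χ x * θ x⁻¹ := by
  classical
  have := Fintype.ofFinite G
  rw [ev_sharp, finsum_mem_eq_finite_toFinset_sum _ (Set.toFinite _)]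
  simp only [← ite_not (p ∣ orderOf _)]
  rw [← Finset.sum_filter]
  exact Finset.sum_congr (by ext; simp) fun _ _ => rfl

theorem ev_sharp_comm (χ θ : G → ℂ) : ev χ (sharp p θ) = ev θ (sharp p χ) := by
  have := Fintype.ofFinite G
  rw [ev_sharp, ev_sharp]
  exact Fintype.sum_equiv (Equiv.inv G) _ _ fun x => by simp [mul_comm]

theorem om_sharp_comm (χ θ : IrrCharacter G) :
    om (χ : G → ℂ) (sharp p (θ : G → ℂ)) =
      (θ : G → ℂ) 1 / (χ : G → ℂ) 1 * om (θ : G → ℂ) (sharp p (χ : G → ℂ)) := by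
  have := irr_apply_one_ne_zero θ.2
  rw [om, om, ev_sharp_comm]
  field_simp

/-- Characters in different blocks are orthogonal on the `p`-regular elements. -/
theorem ev_sharp_eq_zero (hM : IsPModular p M) {χ θ : IrrCharacter G}
    (h : ¬ SameBlock M (χ : G → ℂ) (θ : G → ℂ)) : ev (χ : G → ℂ) (sharp p (θ : G → ℂ)) = 0 := by
  have := hM.2.1
  have h1 := sum_section_mul_conj_eq_zero hM (memLocalRing_blockCoeff (isPBlock_blockOf χ))
    (self_mem_blockOf χ) (ψ := θ) h 1
  rw [ev_sharp_finsum, ← h1]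
  refine finsum_mem_congr ?_ fun x _ => by rw [conj_irr_apply]
  ext u
  constructor
  · intro hu
    exact ⟨1, isPPart_one_of_not_dvd hu, IsConj.refl 1⟩
  · rintro ⟨z, ⟨y, hy, -, -, hyp⟩, hz⟩
    rw [isConj_one_right.1 hz, one_mul] at hy
    rwa [← hy]

theorem om_sharp_eq_zero (hM : IsPModular p M) {χ θ : IrrCharacter G}
    (h : ¬ SameBlock M (χ : G → ℂ) (θ : G → ℂ)) : om (χ : G → ℂ) (sharp p (θ : G → ℂ)) = 0 := by
  rw [om, ev_sharp_eq_zero hM h, zero_div]

theorem sameBlock_of_ev_sharp_ne_zero (hM : IsPModular p M) {χ θ : IrrCharacter G}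
    (h : ev (χ : G → ℂ) (sharp p (θ : G → ℂ)) ≠ 0) : SameBlock M (χ : G → ℂ) (θ : G → ℂ) := by
  by_contra h'
  exact h (ev_sharp_eq_zero hM h')

theorem sharp_mul_idem (hM : IsPModular p M) {B : Set (IrrCharacter G)} (hB : IsPBlock M B)
    {θ : IrrCharacter G} (hθ : θ ∈ B) : sharp p (θ : G → ℂ) * idem B = sharp p (θ : G → ℂ) := by
  have := hM.2.1
  refine ((isCen_sharp_irr θ).mul (isCen_idem B)).eq_of_om (isCen_sharp_irr θ) fun χ => ?_
  rw [om_mul χ (isCen_sharp_irr θ)]
  by_cases hχ : χ ∈ B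
  · rw [om_idem_of_mem hχ, mul_one]
  · rw [om_sharp_eq_zero hM fun h => hχ (mem_block_of_sameBlock hB hθ (sameBlock_symm h)),
      zero_mul]

/-! ### Heights -/

omit [Finite G] in
theorem blockHeight_eq_zero_iff {B : Set (IrrCharacter G)} (hB : B.Nonempty) {χ : G → ℂ} :
    blockHeight p B χ = 0 ↔
      ∀ ψ ∈ B, (charDegree χ).factorization p ≤ (charDegree (ψ : G → ℂ)).factorization p := by
  rw [blockHeight, Nat.sub_eq_zero_iff_le]
  constructor
  · intro h ψ hψ
    exact h.trans (Nat.sInf_le ⟨ψ, hψ, rfl⟩)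
  · intro h
    obtain ⟨ψ, hψ, h'⟩ := Nat.sInf_mem (hB.image
      fun ψ : IrrCharacter G => (charDegree (ψ : G → ℂ)).factorization p)
    rw [← h']
    exact h ψ hψ

omit [Finite G] in
theorem exists_blockHeight_eq_zero {B : Set (IrrCharacter G)} (hB : B.Nonempty) :
    ∃ χ ∈ B, blockHeight p B (χ : G → ℂ) = 0 := by
  obtain ⟨ψ, hψ, h'⟩ := Nat.sInf_mem (hB.image
    fun ψ : IrrCharacter G => (charDegree (ψ : G → ℂ)).factorization p)
  exact ⟨ψ, hψ, by rw [blockHeight, ← h', Nat.sub_self]⟩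

theorem factorization_charDegree_le (χ : IrrCharacter G) :
    (charDegree (χ : G → ℂ)).factorization p ≤ (Nat.card G).factorization p :=
  (Nat.factorization_le_iff_dvd (charDegree_pos χ).ne' Nat.card_pos.ne').2
    (charDegree_dvd_card χ) p

/-- `ν(χ(1)) = a - d(B) + h(χ)`. -/
theorem factorization_charDegree_add_blockDefect {B : Set (IrrCharacter G)} {χ : IrrCharacter G}
    (hχ : χ ∈ B) :
    (charDegree (χ : G → ℂ)).factorization p + blockDefect p B =
      (Nat.card G).factorization p + blockHeight p B (χ : G → ℂ) := by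
  have h1 : sInf ((fun ψ : IrrCharacter G => (charDegree (ψ : G → ℂ)).factorization p) '' B) ≤
      (charDegree (χ : G → ℂ)).factorization p := Nat.sInf_le ⟨χ, hχ, rfl⟩
  have h2 := factorization_charDegree_le (p := p) χ
  rw [blockDefect, blockHeight]
  omega

theorem blockHeight_eq_zero_iff_defect {B : Set (IrrCharacter G)} {χ : IrrCharacter G}
    (hχ : χ ∈ B) : blockHeight p B (χ : G → ℂ) = 0 ↔
      (charDegree (χ : G → ℂ)).factorization p + blockDefect p B =
        (Nat.card G).factorization p := by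
  rw [factorization_charDegree_add_blockDefect hχ]
  omega

omit [Finite G] in
theorem blockDefect_le (B : Set (IrrCharacter G)) :
    blockDefect p B ≤ (Nat.card G).factorization p := Nat.sub_le _ _

omit [Finite G] in
theorem blockHeight_eq_zero_of_not_dvd (B : Set (IrrCharacter G)) {χ : G → ℂ}
    (h : ¬ p ∣ charDegree χ) : blockHeight p B χ = 0 := by
  rw [blockHeight, Nat.factorization_eq_zero_of_not_dvd h, Nat.zero_sub]

omit [Finite G] in
theorem charDegree_one : charDegree (fun _ : G => (1 : ℂ)) = 1 := by simp [charDegree]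

omit [Finite G] in
theorem blockHeight_one (B : Set (IrrCharacter G)) : blockHeight p B (fun _ : G => (1 : ℂ)) = 0 := by
  rw [blockHeight, charDegree_one, Nat.factorization_one, Finsupp.zero_apply, Nat.zero_sub]

theorem blockDefect_principalBlock [M.IsMaximal] :
    blockDefect p (principalBlock M G) = (Nat.card G).factorization p := by
  have h := (blockHeight_eq_zero_iff_defect (p := p)
    (irrOne_mem_principalBlock (M := M) (G := G))).1 (blockHeight_one _)
  have h1 : charDegree (irrOne G : G → ℂ) = 1 := charDegree_one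
  rwa [h1, Nat.factorization_one, Finsupp.zero_apply, zero_add] at h

omit [Finite G] in
theorem memLocalRing_degree_div_iff (hM : IsPModular p M) (ψ χ : IrrCharacter G) :
    MemLocalRing M ((ψ : G → ℂ) 1 / (χ : G → ℂ) 1) ↔
      (charDegree (χ : G → ℂ)).factorization p ≤ (charDegree (ψ : G → ℂ)).factorization p := by
  rw [← cast_charDegree, ← cast_charDegree,
    memLocalRing_natCast_div_natCast hM (charDegree_pos ψ).ne' (charDegree_pos χ).ne']

omit [Finite G] in
theorem memLocalIdeal_degree_div_iff (hM : IsPModular p M) (ψ χ : IrrCharacter G) :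
    MemLocalIdeal M ((ψ : G → ℂ) 1 / (χ : G → ℂ) 1) ↔
      (charDegree (χ : G → ℂ)).factorization p < (charDegree (ψ : G → ℂ)).factorization p := by
  rw [← cast_charDegree, ← cast_charDegree,
    memLocalIdeal_natCast_div_natCast hM (charDegree_pos ψ).ne' (charDegree_pos χ).ne']

/-! ### The height zero criterion -/

/-- The permutation character on the cosets of a `p`-subgroup has `π^♯ = |G : P|`. -/
theorem sharp_perm_pgroup [Fact p.Prime] {P : Subgroup G} (hP : IsPGroup p P) :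
    sharp p (fun g : G => (Nat.card (MulAction.fixedBy (G ⧸ P) g) : ℂ)) =
      (P.index : ℂ) • (1 : ℂ[G]) := by
  classical
  have hp : p.Prime := Fact.out
  refine alg_ext fun x => ?_
  rw [coeff_sharp, coeff_smul_apply', coeff_one']
  by_cases hx : x = 1
  · subst hx
    rw [orderOf_one, if_neg (by simpa using hp.one_lt.ne'), if_pos rfl, mul_one, inv_one,
      MulAction.fixedBy_one_eq_univ, Nat.card_congr (Equiv.Set.univ _)]
    rfl
  · rw [if_neg hx, mul_zero]
    split_ifs with hd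
    · rfl
    · have : IsEmpty (MulAction.fixedBy (G ⧸ P) x⁻¹) := by
        refine ⟨fun ⟨q, hq⟩ => ?_⟩
        obtain ⟨y, rfl⟩ := QuotientGroup.mk_surjective q
        have h1 : (x⁻¹ * y)⁻¹ * y ∈ P := QuotientGroup.eq.1 hq
        obtain ⟨k, hk⟩ := IsPGroup.iff_orderOf.1 hP ⟨_, h1⟩
        rw [← Subgroup.orderOf_coe] at hk
        have h2 : ((⟨(x⁻¹ * y)⁻¹ * y, h1⟩ : P) : G) = y⁻¹ * x * y⁻¹⁻¹ := by
          simp [mul_assoc]
        rw [h2, orderOf_conj_eq] at hk
        rcases k with _ | k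
        · exact hx (orderOf_eq_one_iff.1 hk)
        · exact hd (hk ▸ dvd_pow_self p k.succ_ne_zero)
      rw [Nat.card_of_isEmpty, Nat.cast_zero]

/-- For every `χ` some `ω_χ(ψ^♯)` is a unit. -/
theorem exists_not_memLocalIdeal_om_sharp (hM : IsPModular p M) (χ : IrrCharacter G) :
    ∃ ψ : IrrCharacter G, ¬ MemLocalIdeal M (om (χ : G → ℂ) (sharp p (ψ : G → ℂ))) := by
  have := hM.2.1
  have : Fact p.Prime := ⟨hM.1⟩
  have := Fintype.ofFinite G
  obtain ⟨P⟩ : Nonempty (Sylow p G) := inferInstance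
  obtain ⟨c, -, hc⟩ := char_exists_eq_sum (char_fixedBy (G := G) (G ⧸ (P : Subgroup G)))
  have h1 := sharp_perm_pgroup P.isPGroup'
  rw [hc, sharp_sum] at h1
  have h2 := congrArg (om (χ : G → ℂ)) h1
  rw [om_smul, om_one, mul_one, om_sum] at h2
  have h3 : ¬ MemLocalIdeal M (((P : Subgroup G).index : ℕ) : ℂ) :=
    not_memLocalIdeal_natCast hM P.not_dvd_index
  rw [← h2] at h3
  obtain ⟨ψ, -, hψ⟩ := exists_not_memLocalIdeal_of_sum _ h3
  refine ⟨ψ, fun h => hψ ?_⟩
  rw [sharp_smul, om_smul]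
  exact memLocalIdeal_mul_left (memLocalRing_natCast _) h

/-- (H0) If `θ ∈ B` has height zero then `ω_χ(θ^♯)` is a unit for every `χ ∈ B`. -/
theorem not_memLocalIdeal_om_sharp (hM : IsPModular p M) {B : Set (IrrCharacter G)}
    (hB : IsPBlock M B) {θ χ : IrrCharacter G} (hθ : θ ∈ B)
    (h0 : blockHeight p B (θ : G → ℂ) = 0) (hχ : χ ∈ B) :
    ¬ MemLocalIdeal M (om (χ : G → ℂ) (sharp p (θ : G → ℂ))) := by
  have := hM.2.1
  obtain ⟨ψ, hψ⟩ := exists_not_memLocalIdeal_om_sharp hM θ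
  have hψB : ψ ∈ B := by
    refine mem_block_of_sameBlock hB hθ ?_
    by_contra h
    rw [om_sharp_eq_zero hM h] at hψ
    exact hψ memLocalIdeal_zero
  rw [memLocalIdeal_om_iff_of_mem hB hχ hψB (isCen_sharp_irr θ) (intCoeff_sharp_irr θ)]
  intro h
  rw [om_sharp_comm] at hψ
  exact hψ (memLocalIdeal_mul_left ((memLocalRing_degree_div_iff hM ψ θ).2
    ((blockHeight_eq_zero_iff ⟨θ, hθ⟩).1 h0 ψ hψB)) h)

/-- Conversely, if `ω_χ(θ^♯)` is a unit for some `χ ∈ B` then `θ ∈ B` has height zero. -/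
theorem mem_and_height_of_not_memLocalIdeal_om_sharp (hM : IsPModular p M)
    {B : Set (IrrCharacter G)} (hB : IsPBlock M B) {θ χ : IrrCharacter G} (hχ : χ ∈ B)
    (h : ¬ MemLocalIdeal M (om (χ : G → ℂ) (sharp p (θ : G → ℂ)))) :
    θ ∈ B ∧ blockHeight p B (θ : G → ℂ) = 0 := by
  have := hM.2.1
  have hθ : θ ∈ B := by
    refine mem_block_of_sameBlock hB hχ ?_
    by_contra h'
    rw [om_sharp_eq_zero hM h'] at h
    exact h memLocalIdeal_zero
  refine ⟨hθ, (blockHeight_eq_zero_iff ⟨θ, hθ⟩).2 fun ψ hψ => ?_⟩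
  rw [memLocalIdeal_om_iff_of_mem hB hχ hψ (isCen_sharp_irr θ) (intCoeff_sharp_irr θ),
    om_sharp_comm] at h
  by_contra hlt
  exact h (memLocalIdeal_mul_right ((memLocalIdeal_degree_div_iff hM θ ψ).2 (not_le.1 hlt))
    (memLocalRing_om θ (isCen_sharp_irr ψ) (intCoeff_sharp_irr ψ)))

theorem not_memLocalIdeal_om_sharp_iff (hM : IsPModular p M) {B : Set (IrrCharacter G)}
    (hB : IsPBlock M B) {θ χ : IrrCharacter G} (hχ : χ ∈ B) :
    ¬ MemLocalIdeal M (om (χ : G → ℂ) (sharp p (θ : G → ℂ))) ↔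
      θ ∈ B ∧ blockHeight p B (θ : G → ℂ) = 0 :=
  ⟨mem_and_height_of_not_memLocalIdeal_om_sharp hM hB hχ,
    fun h => not_memLocalIdeal_om_sharp hM hB h.1 h.2 hχ⟩

/-- For `θ ∈ B` of height zero, `ω_χ(θ^♯)` is a unit exactly for `χ ∈ B`. -/
theorem not_memLocalIdeal_om_sharp_iff_mem (hM : IsPModular p M) {B : Set (IrrCharacter G)}
    (hB : IsPBlock M B) {θ : IrrCharacter G} (hθ : θ ∈ B)
    (h0 : blockHeight p B (θ : G → ℂ) = 0) (χ : IrrCharacter G) :
    ¬ MemLocalIdeal M (om (χ : G → ℂ) (sharp p (θ : G → ℂ))) ↔ χ ∈ B := by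
  have := hM.2.1
  refine ⟨fun h => ?_, not_memLocalIdeal_om_sharp hM hB hθ h0⟩
  refine mem_block_of_sameBlock hB hθ (sameBlock_symm ?_)
  by_contra h'
  rw [om_sharp_eq_zero hM h'] at h
  exact h memLocalIdeal_zero

/-- A character of height zero is linked to every member of its block. -/
theorem ev_sharp_ne_zero (hM : IsPModular p M) {B : Set (IrrCharacter G)}
    (hB : IsPBlock M B) {θ χ : IrrCharacter G} (hθ : θ ∈ B)
    (h0 : blockHeight p B (θ : G → ℂ) = 0) (hχ : χ ∈ B) :
    ev (χ : G → ℂ) (sharp p (θ : G → ℂ)) ≠ 0 := by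
  have := hM.2.1
  intro h
  apply not_memLocalIdeal_om_sharp hM hB hθ h0 hχ
  rw [om, h, zero_div]
  exact memLocalIdeal_zero

/-- Membership in the principal block: `χ ∈ B₀` iff its sum over the `p`-regular elements is
nonzero. -/
theorem mem_principalBlock_iff (hM : IsPModular p M) (χ : IrrCharacter G) :
    χ ∈ principalBlock M G ↔ ∑ᶠ x ∈ {x : G | ¬ p ∣ orderOf x}, (χ : G → ℂ) x ≠ 0 := by
  have := hM.2.1
  rw [← ev_setSum, ← sharp_one]
  refine ⟨fun h => ev_sharp_ne_zero hM isPBlock_principalBlock (θ := irrOne G)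
    irrOne_mem_principalBlock (blockHeight_one _) h, fun h => ?_⟩
  exact sameBlock_symm (sameBlock_of_ev_sharp_ne_zero hM (θ := irrOne G) h)

/-- The block relation does not depend on the choice of the maximal ideal above `p`. -/
theorem sameBlock_of_sameBlock (hM : IsPModular p M) {M' : Ideal AlgInt} (hM' : IsPModular p M')
    {χ ψ : IrrCharacter G} (h : SameBlock M (χ : G → ℂ) (ψ : G → ℂ)) :
    SameBlock M' (χ : G → ℂ) (ψ : G → ℂ) := by
  have := hM.2.1
  have := hM'.2.1
  obtain ⟨θ, hθ, h0⟩ := exists_blockHeight_eq_zero (p := p)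
    (block_nonempty (isPBlock_blockOf (M := M) χ))
  exact sameBlock_trans
    (sameBlock_of_ev_sharp_ne_zero hM'
      (ev_sharp_ne_zero hM (isPBlock_blockOf χ) hθ h0 (self_mem_blockOf χ)))
    (sameBlock_symm (sameBlock_of_ev_sharp_ne_zero hM'
      (ev_sharp_ne_zero hM (isPBlock_blockOf χ) hθ h0 h)))

/-- The number of `p`-regular elements is prime to `p`. -/
theorem not_dvd_card_pRegular (hp : p.Prime) : ¬ p ∣ Nat.card {y : G // ¬ p ∣ orderOf y} := by
  obtain ⟨M, hM⟩ := exists_isPModular hp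
  have := hM.2.1
  have h := not_memLocalIdeal_om_sharp hM isPBlock_principalBlock
    (irrOne_mem_principalBlock (G := G)) (blockHeight_one _) irrOne_mem_principalBlock
  have h1 : sharp p (irrOne G : G → ℂ) = setSum ℂ {x : G | ¬ p ∣ orderOf x} := sharp_one
  rw [h1, om_setSum] at h
  simp only [irrOne_apply, div_one] at h
  rw [finsum_mem_eq_finite_toFinset_sum _ (Set.toFinite _), Finset.sum_const, nsmul_eq_mul,
    mul_one, memLocalIdeal_natCast hM, ← Set.ncard_eq_toFinset_card] at h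
  exact h

end CL.Blocks
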