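import Cfsg.Agent.Base
import Cfsg.Agent.Blocks.Defect
import Cfsg.Agent.Blocks.Sharp
import Cfsg.Agent.Blocks.TraceOrth

/-!
# The order of a defect group; counting blocks of large defect
-/

set_option autoImplicit false
set_option linter.unusedSectionVars false

namespace CL.Blocks

open Cfsg CL.Char

variable {M : Ideal AlgInt} [M.IsMaximal] {p : ℕ}
variable {G : Type*} [Group G] [Finite G]

theorem factorization_index_add_factorization_card (H : Subgroup G) :
    H.index.factorization p + (Nat.card H).factorization p = (Nat.card G).factorization p := by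
  rw [← H.index_mul_card, Nat.factorization_mul H.index_ne_zero_of_finite Nat.card_pos.ne',
    Finsupp.add_apply]

theorem centralChar_eq_index_div_mul (χ : IrrCharacter G) (g : G) :
    centralChar (χ : G → ℂ) g =
      (((Subgroup.centralizer ({g} : Set G)).index : ℕ) : ℂ) / (charDegree (χ : G → ℂ) : ℂ) *
        (χ : G → ℂ) g := by
  rw [centralChar, cast_charDegree]
  ring

/-- If `ω_χ(g)` is a unit then `ν|cl g| ≤ ν χ(1)`. -/
theorem factorization_index_le_of_centralChar (hM : IsPModular p M) {χ : IrrCharacter G} {g : G}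
    (h : ¬ MemLocalIdeal M (centralChar (χ : G → ℂ) g)) :
    (Subgroup.centralizer ({g} : Set G)).index.factorization p ≤
      (charDegree (χ : G → ℂ)).factorization p := by
  by_contra hlt
  refine h ?_
  rw [centralChar_eq_index_div_mul]
  exact memLocalIdeal_mul_right ((memLocalIdeal_natCast_div_natCast hM
    Subgroup.index_ne_zero_of_finite (charDegree_pos χ).ne').2 (not_le.1 hlt))
    (memLocalRing_irr_apply χ g)

/-- If `χ(g)` is a unit then `ν χ(1) ≤ ν|cl g|`. -/
theorem factorization_charDegree_le_of_apply (hM : IsPModular p M) {χ : IrrCharacter G} {g : G}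
    (h : ¬ MemLocalIdeal M ((χ : G → ℂ) g)) :
    (charDegree (χ : G → ℂ)).factorization p ≤
      (Subgroup.centralizer ({g} : Set G)).index.factorization p := by
  have h1 := memLocalRing_centralChar (M := M) χ g
  rw [centralChar_eq_index_div_mul, memLocalRing_mul_unit_iff (memLocalRing_irr_apply χ g) h] at h1
  exact (memLocalRing_natCast_div_natCast hM Subgroup.index_ne_zero_of_finite
    (charDegree_pos χ).ne').1 h1

variable {B : Set (IrrCharacter G)} {χ : IrrCharacter G}

/-- If `λ_B(cl g) ≠ 0` then the defect of `B` is at most the defect of the class of `g`. -/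
theorem blockDefect_le_of_lamK_cls_ne_zero (hM : IsPModular p M) (hB : IsPBlock M B) (hχ : χ ∈ B)
    {g : G} (h : lamK M χ (ZA.cls _ g) ≠ 0) :
    blockDefect p B ≤ (Nat.card (Subgroup.centralizer ({g} : Set G))).factorization p := by
  obtain ⟨θ, hθ, h0⟩ := exists_blockHeight_eq_zero (p := p) ⟨χ, hχ⟩
  rw [lamK_eq_of_mem hB hχ hθ, lamK_cls_ne_zero_iff] at h
  have h1 := factorization_index_le_of_centralChar hM h
  have h2 := factorization_index_add_factorization_card (p := p) (Subgroup.centralizer ({g} : Set G))
  have h3 := (blockHeight_eq_zero_iff_defect hθ).1 h0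
  omega

/-- There is a `p`-regular class of defect `d(B)` on which `λ_B` does not vanish. -/
theorem exists_lamK_cls_ne_zero_defect (hM : IsPModular p M) (hB : IsPBlock M B) (hχ : χ ∈ B) :
    ∃ g : G, ¬ p ∣ orderOf g ∧ lamK M χ (ZA.cls _ g) ≠ 0 ∧
      (Nat.card (Subgroup.centralizer ({g} : Set G))).factorization p = blockDefect p B := by
  obtain ⟨θ, hθ, h0⟩ := exists_blockHeight_eq_zero (p := p) ⟨χ, hχ⟩
  obtain ⟨g, h1, h2⟩ := exists_coeff_centralChar_of_om (isCen_sharp_irr θ) (intCoeff_sharp_irr θ)
    (not_memLocalIdeal_om_sharp hM hB hθ h0 hχ)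
  have hg : ¬ p ∣ orderOf g := fun hg => h1 (by rw [coeff_sharp_of_dvd _ hg]; exact memLocalIdeal_zero)
  rw [coeff_sharp_of_not_dvd _ hg] at h1
  rw [← lamK_cls_ne_zero_iff] at h2
  refine ⟨g, hg, h2, le_antisymm ?_ (blockDefect_le_of_lamK_cls_ne_zero hM hB hχ h2)⟩
  have h3 := factorization_charDegree_le_of_apply hM h1
  have h4 : Subgroup.centralizer ({g⁻¹} : Set G) = Subgroup.centralizer ({g} : Set G) := by
    ext x
    simp only [Subgroup.mem_centralizer_singleton_iff]
    exact ⟨fun h => (Commute.inv_right_iff.1 h : Commute x g), fun h => (Commute.inv_right h : Commute x g⁻¹)⟩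
  rw [h4] at h3
  have h5 := factorization_index_add_factorization_card (p := p) (Subgroup.centralizer ({g} : Set G))
  have h6 := (blockHeight_eq_zero_iff_defect hθ).1 h0
  omega

variable [Fact p.Prime]

/-- The order of a defect group of `B` is `p ^ d(B)`. -/
theorem card_eq_pow_blockDefect (hM : IsPModular p M) (hB : IsPBlock M B) {D : Subgroup G}
    (hD : IsDefectGroup p M B D) : Nat.card D = p ^ blockDefect p B := by
  obtain ⟨χ, hχ⟩ := block_nonempty hB
  have hp : 1 < p := hM.1.one_lt
  apply le_antisymm
  · obtain ⟨g, -, h1, h2⟩ := exists_lamK_cls_ne_zero_defect hM hB hχ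
    obtain ⟨Q, hQ⟩ := IsSylowIn.exists_sylowIn p (Subgroup.centralizer ({g} : Set G))
    obtain ⟨x, hx⟩ := exists_conj_le_of_lamK_cls_ne_zero hM hB hχ hD h1 hQ
    rw [← h2, ← hQ.card_eq, ← card_map_conj D x]
    exact Subgroup.card_le_of_le hx
  · obtain ⟨g, hg, hDg⟩ := isDefectGroup_iff.1 hD
    rw [hDg.card_eq]
    exact Nat.pow_le_pow_right hp.le
      (blockDefect_le_of_lamK_cls_ne_zero hM hB hχ ((isDefectClass_iff hB hχ).1 hg).2)

theorem factorization_card_eq_blockDefect (hM : IsPModular p M) (hB : IsPBlock M B)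
    {D : Subgroup G} (hD : IsDefectGroup p M B D) :
    (Nat.card D).factorization p = blockDefect p B := by
  rw [card_eq_pow_blockDefect hM hB hD, Nat.Prime.factorization_pow hM.1, Finsupp.single_eq_same]

/-- The defect of a defect class is the defect of the block. -/
theorem factorization_centralizer_of_isDefectClass (hM : IsPModular p M) (hB : IsPBlock M B)
    {g : G} (hg : IsDefectClass M B g) :
    (Nat.card (Subgroup.centralizer ({g} : Set G))).factorization p = blockDefect p B := by
  obtain ⟨Q, hQ⟩ := IsSylowIn.exists_sylowIn p (Subgroup.centralizer ({g} : Set G))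
  have h := card_eq_pow_blockDefect hM hB (isDefectGroup_of_isSylowIn hg hQ)
  rw [hQ.card_eq] at h
  exact Nat.pow_right_injective hM.1.two_le h

/-- If `e_B` involves the class of `g`, then the defect of the class is at most `d(B)`. -/
theorem factorization_centralizer_le_of_co_eK_ne_zero (hM : IsPModular p M) (hB : IsPBlock M B)
    {g : G} (hg : (eK M B).co g ≠ 0) :
    (Nat.card (Subgroup.centralizer ({g} : Set G))).factorization p ≤ blockDefect p B := by
  obtain ⟨Q, hQ⟩ := IsSylowIn.exists_sylowIn p (Subgroup.centralizer ({g} : Set G))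
  obtain ⟨D, hD⟩ := exists_isDefectGroup p hB
  obtain ⟨x, hx⟩ := exists_conj_le_of_co_eK_ne_zero hM hB hD hg hQ.isPGroup hQ.le
  have h1 := Subgroup.card_le_of_le hx
  rw [card_map_conj, hQ.card_eq, card_eq_pow_blockDefect hM hB hD] at h1
  exact (Nat.pow_le_pow_iff_right hM.1.one_lt).1 h1

/-- A `p`-subgroup of order `p ^ d(B)` conjugate into a defect group is a defect group. -/
theorem isDefectGroup_of_conj_le_of_card_eq (hM : IsPModular p M) (hB : IsPBlock M B)
    {D E : Subgroup G} (hD : IsDefectGroup p M B D) {x : G}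
    (hx : E.map (MulAut.conj x).toMonoidHom ≤ D) (hE : p ^ blockDefect p B ≤ Nat.card E) :
    IsDefectGroup p M B E :=
  isDefectGroup_of_conj_le_of_card_le hD hx (by rwa [card_eq_pow_blockDefect hM hB hD])

/-- The block idempotent is supported on `p`-regular elements. -/
theorem not_dvd_orderOf_of_co_eK_ne_zero (hM : IsPModular p M) (hB : IsPBlock M B) {g : G}
    (hg : (eK M B).co g ≠ 0) : ¬ p ∣ orderOf g := fun h => hg (by
  rw [co_eK, blockCoeff_eq_zero_of_dvd hM (intCoeff_idem hB) h, red_zero])

end CL.Blocks
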