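import Cfsg.Agent.Base
import Cfsg.Agent.Blocks.Center
import Cfsg.Agent.Blocks.TraceOrth
import Cfsg.Agent.Blocks.CommTrace

/-!
# Blocks of defect zero
-/

set_option autoImplicit false

namespace CL.Blocks

open Cfsg CL.Char
open scoped MonoidAlgebra ComplexConjugate

variable {G : Type*} [Group G] [Finite G] {p : ℕ} {M : Ideal AlgInt}

theorem not_dvd_card_div_charDegree_iff (hp : p.Prime) (χ : IrrCharacter G) :
    ¬ p ∣ Nat.card G / charDegree (χ : G → ℂ) ↔
      (charDegree (χ : G → ℂ)).factorization p = (Nat.card G).factorization p := by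
  obtain ⟨k, hk⟩ := charDegree_dvd_card χ
  have h0 : Nat.card G ≠ 0 := Nat.card_pos.ne'
  have hd := (charDegree_pos χ).ne'
  have hk0 : k ≠ 0 := by
    rintro rfl
    exact h0 (by simpa using hk)
  rw [hk, Nat.mul_div_cancel_left _ (charDegree_pos χ), Nat.factorization_mul hd hk0,
    Finsupp.add_apply, left_eq_add, Nat.factorization_eq_zero_iff]
  simp [hp, hk0]

theorem memLocalRing_degree_div_card_iff (hM : IsPModular p M) (χ : IrrCharacter G) :
    MemLocalRing M ((χ : G → ℂ) 1 / Nat.card G) ↔
      (charDegree (χ : G → ℂ)).factorization p = (Nat.card G).factorization p := by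
  rw [← cast_charDegree, memLocalRing_natCast_div_natCast hM (charDegree_pos χ).ne' Nat.card_pos.ne']
  refine ⟨fun h => le_antisymm ?_ h, fun h => h.ge⟩
  exact (Nat.factorization_le_iff_dvd (charDegree_pos χ).ne' Nat.card_pos.ne').2
    (charDegree_dvd_card χ) p

theorem memLocalRing_blockCoeff_singleton (hM : IsPModular p M) {χ : IrrCharacter G}
    (h : (charDegree (χ : G → ℂ)).factorization p = (Nat.card G).factorization p) (g : G) :
    MemLocalRing M (blockCoeff {χ} g) := by
  have := hM.2.1
  rw [blockCoeff_singleton, ← mul_assoc, mul_comm _ ((χ : G → ℂ) 1), ← div_eq_mul_inv]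
  exact memLocalRing_mul ((memLocalRing_degree_div_card_iff hM χ).2 h) (memLocalRing_irr χ _)

/-- A character of defect zero is alone in its block. -/
theorem blockOf_eq_singleton_of_defect_zero (hM : IsPModular p M) {χ : IrrCharacter G}
    (h : (charDegree (χ : G → ℂ)).factorization p = (Nat.card G).factorization p) :
    blockOf M (χ : G → ℂ) = {χ} := by
  have := hM.2.1
  refine Set.Subset.antisymm (blockOf_subset_of_intCoeff (fun g => ?_) rfl) ?_
  · exact memLocalRing_blockCoeff_singleton hM h g
  · rintro _ rfl
    exact self_mem_blockOf _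

/-- A character of `p`-defect zero vanishes on the `p`-singular elements. -/
theorem irr_eq_zero_of_defect_zero (hp : p.Prime) {χ : IrrCharacter G}
    (h : (charDegree (χ : G → ℂ)).factorization p = (Nat.card G).factorization p) {g : G}
    (hg : p ∣ orderOf g) : (χ : G → ℂ) g = 0 := by
  obtain ⟨M, hM⟩ := exists_isPModular hp
  have h1 := blockCoeff_eq_zero_of_dvd hM (memLocalRing_blockCoeff_singleton hM h)
    (y := g⁻¹) (by rwa [orderOf_inv])
  rw [blockCoeff_singleton, inv_inv, mul_eq_zero, mul_eq_zero] at h1
  rcases h1 with h1 | h1 | h1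
  · exact absurd h1 (inv_ne_zero (by exact_mod_cast Nat.card_pos.ne'))
  · exact absurd h1 (irr_apply_one_ne_zero χ.2)
  · exact h1

/-- An irreducible character vanishing on the `p`-singular elements has defect zero. -/
theorem defect_zero_of_forall_eq_zero (hp : p.Prime) {χ : IrrCharacter G}
    (h : ∀ g, p ∣ orderOf g → (χ : G → ℂ) g = 0) :
    (charDegree (χ : G → ℂ)).factorization p = (Nat.card G).factorization p := by
  obtain ⟨M, hM⟩ := exists_isPModular hp
  have := hM.2.1
  have h1 := (isLocGen_of_char (M := M) (irr_isCharacter χ.2)).div_card_centralizer hM h 1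
  have h2 : Subgroup.centralizer ({1} : Set G) = ⊤ := by
    rw [eq_top_iff]
    exact fun g _ => mem_centralizer_singleton_iff_commute.2 (Commute.one_right g)
  rw [h2, Subgroup.card_top] at h1
  exact (memLocalRing_degree_div_card_iff hM χ).1 h1

theorem defect_zero_of_blockOf_eq_singleton (hM : IsPModular p M) {χ : IrrCharacter G}
    (h : blockOf M (χ : G → ℂ) = {χ}) :
    (charDegree (χ : G → ℂ)).factorization p = (Nat.card G).factorization p := by
  have := hM.2.1
  refine defect_zero_of_forall_eq_zero hM.1 fun g hg => ?_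
  have h1 := blockCoeff_eq_zero_of_dvd hM (memLocalRing_blockCoeff (isPBlock_blockOf (M := M) χ))
    (y := g⁻¹) (by rwa [orderOf_inv])
  rw [h, blockCoeff_singleton, inv_inv, mul_eq_zero, mul_eq_zero] at h1
  rcases h1 with h1 | h1 | h1
  · exact absurd h1 (inv_ne_zero (by exact_mod_cast Nat.card_pos.ne'))
  · exact absurd h1 (irr_apply_one_ne_zero χ.2)
  · exact h1

theorem defect_zero_iff_blockOf_eq_singleton (hM : IsPModular p M) (χ : IrrCharacter G) :
    (charDegree (χ : G → ℂ)).factorization p = (Nat.card G).factorization p ↔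
      blockOf M (χ : G → ℂ) = {χ} :=
  ⟨blockOf_eq_singleton_of_defect_zero hM, defect_zero_of_blockOf_eq_singleton hM⟩

theorem defect_zero_iff_forall_eq_zero (hp : p.Prime) (χ : IrrCharacter G) :
    (charDegree (χ : G → ℂ)).factorization p = (Nat.card G).factorization p ↔
      ∀ g, p ∣ orderOf g → (χ : G → ℂ) g = 0 :=
  ⟨fun h _ hg => irr_eq_zero_of_defect_zero hp h hg, defect_zero_of_forall_eq_zero hp⟩

/-- A block has defect zero iff some (then every) member has the full power of `p` in its degree. -/
theorem blockDefect_eq_zero_iff (hM : IsPModular p M) {B : Set (IrrCharacter G)}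
    (hB : IsPBlock M B) {χ : IrrCharacter G} (hχ : χ ∈ B) : blockDefect p B = 0 ↔
      (charDegree (χ : G → ℂ)).factorization p = (Nat.card G).factorization p := by
  have := hM.2.1
  have hle : (charDegree (χ : G → ℂ)).factorization p ≤ (Nat.card G).factorization p :=
    (Nat.factorization_le_iff_dvd (charDegree_pos χ).ne' Nat.card_pos.ne').2
      (charDegree_dvd_card χ) p
  constructor
  · intro h
    refine le_antisymm hle ?_
    rw [blockDefect, Nat.sub_eq_zero_iff_le] at h
    exact h.trans (Nat.sInf_le ⟨χ, hχ, rfl⟩)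
  · intro h
    rw [block_eq_blockOf hB hχ, blockOf_eq_singleton_of_defect_zero hM h, blockDefect,
      Set.image_singleton, csInf_singleton, h, Nat.sub_self]

end CL.Blocks
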