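import Cfsg.Agent.Blocks.NormalBasic
import Cfsg.Agent.Blocks.Center
import Cfsg.Agent.Blocks.TraceOrth
import Cfsg.Agent.Blocks.PPart

/-!
# Covering of blocks of normal subgroups
-/

set_option linter.unusedSectionVars false

namespace CL.Blocks

open Cfsg CL.Char
open scoped MonoidAlgebra ComplexConjugate

variable {G : Type*} [Group G] [Finite G] {M : Ideal AlgInt} [hM : M.IsMaximal]

/-- A union of blocks has an integral idempotent. -/
theorem intCoeff_idem_of_closed {A : Set (IrrCharacter G)}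
    (hA : ∀ χ ∈ A, ∀ ψ : IrrCharacter G, SameBlock M (χ : G → ℂ) (ψ : G → ℂ) → ψ ∈ A) :
    IntCoeff M (idem A) := by
  classical
  have h1 : idem A = ∑ B ∈ blocks G M, if B ⊆ A then idem B else 0 := by
    refine (isCen_idem A).eq_of_om (IsCen.sum fun B _ => ?_) fun χ => ?_
    · split_ifs
      · exact isCen_idem B
      · exact isCen_zero
    · rw [om_sum, Finset.sum_congr rfl
        (g := fun B => if χ ∈ B then (if B ⊆ A then (1 : ℂ) else 0) else 0), sum_blocks_ite,
        om_idem]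
      · refine if_congr ⟨fun h ψ hψ => hA χ h ψ hψ, fun h => h (self_mem_blockOf χ)⟩ rfl rfl
      · intro B _
        by_cases h : B ⊆ A
        · simp only [if_pos h, om_idem]
        · simp only [if_neg h, om_zero, ite_self]
  rw [h1]
  refine IntCoeff.sum _ fun B hB => ?_
  split_ifs
  · exact intCoeff_idem (mem_blocks.1 hB)
  · exact IntCoeff.zero

/-- The idempotent of a union of blocks is the sum of the block idempotents. -/
theorem idem_eq_sum_blocks_of_closed {A : Set (IrrCharacter G)}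
    (hA : ∀ χ ∈ A, ∀ ψ : IrrCharacter G, SameBlock M (χ : G → ℂ) (ψ : G → ℂ) → ψ ∈ A)
    [DecidablePred (· ⊆ A)] :
    idem A = ∑ B ∈ blocks G M with B ⊆ A, idem B := by
  classical
  refine (isCen_idem A).eq_of_om (IsCen.sum fun B _ => isCen_idem B) fun χ => ?_
  rw [om_sum, Finset.sum_filter, Finset.sum_congr rfl
    (g := fun B => if χ ∈ B then (if B ⊆ A then (1 : ℂ) else 0) else 0), sum_blocks_ite,
    om_idem]
  · refine if_congr ⟨fun h ψ hψ => hA χ h ψ hψ, fun h => h (self_mem_blockOf χ)⟩ rfl rfl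
  · intro B _
    by_cases h : B ⊆ A
    · simp only [if_pos h, om_idem]
    · simp only [if_neg h, ite_self]

theorem mem_of_memLocalIdeal_om_idem_sub_one {A : Set (IrrCharacter G)} {χ : IrrCharacter G}
    (h : MemLocalIdeal M (om (χ : G → ℂ) (idem A) - 1)) : χ ∈ A := by
  by_contra h1
  rw [om_idem_of_notMem h1, zero_sub, memLocalIdeal_neg_iff] at h
  exact not_memLocalIdeal_one h

/-- Congruence of `ω` on a central integral element from congruence on the classes in its
support. -/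
theorem memLocalIdeal_om_sub_of_support {χ ψ : G → ℂ} (hχ : IsClassFunction G χ)
    (hψ : IsClassFunction G ψ) {a : ℂ[G]} (ha : IsCen a) (hi : IntCoeff M a)
    (h : ∀ g, a.coeff g ≠ 0 → MemLocalIdeal M (centralChar χ g - centralChar ψ g)) :
    MemLocalIdeal M (om χ a - om ψ a) := by
  have := Fintype.ofFinite (ConjClasses G)
  rw [ha.om_eq_sum hχ, ha.om_eq_sum hψ]
  refine memLocalIdeal_sum_sub_sum _ fun c _ => ?_
  rw [← mul_sub]
  by_cases h0 : a.coeff (Quotient.out c) = 0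
  · rw [h0, zero_mul]
    exact memLocalIdeal_zero
  · exact memLocalIdeal_mul_left (hi _) (h _ h0)

theorem memLocalIdeal_om_sub_trunc_of_support {H : Subgroup G} {χ : G → ℂ}
    (hχ : IsClassFunction G χ) (ξ : H → ℂ) {a : ℂ[G]} (ha : IsCen a) (hi : IntCoeff M a)
    (h : ∀ g, a.coeff g ≠ 0 → MemLocalIdeal M (centralChar χ g - inducedCentralChar H ξ g)) :
    MemLocalIdeal M (om χ a - om ξ (trunc H a)) := by
  have := Fintype.ofFinite (ConjClasses G)
  rw [ha.om_eq_sum hχ, ha.om_trunc_eq_sum]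
  refine memLocalIdeal_sum_sub_sum _ fun c _ => ?_
  rw [← mul_sub]
  by_cases h0 : a.coeff (Quotient.out c) = 0
  · rw [h0, zero_mul]
    exact memLocalIdeal_zero
  · exact memLocalIdeal_mul_left (hi _) (h _ h0)

omit hM in
/-- Two irreducible characters are in the same block as soon as their central characters agree
on the `p`-regular classes. -/
theorem sameBlock_of_pRegular {p : ℕ} (hM : IsPModular p M) {χ ψ : IrrCharacter G}
    (h : ∀ g, ¬ p ∣ orderOf g →
      MemLocalIdeal M (centralChar (χ : G → ℂ) g - centralChar (ψ : G → ℂ) g)) :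
    SameBlock M (χ : G → ℂ) (ψ : G → ℂ) := by
  have := hM.2.1
  have hB := isPBlock_blockOf (M := M) χ
  have h1 := memLocalIdeal_om_sub_of_support (irr_isClassFunction χ.2) (irr_isClassFunction ψ.2)
    (isCen_idem _) (intCoeff_idem hB) fun g hg => h g fun hp =>
      hg (blockCoeff_eq_zero_of_dvd hM (memLocalRing_blockCoeff hB) hp)
  rw [om_idem_of_mem (self_mem_blockOf χ)] at h1
  exact mem_of_memLocalIdeal_om_idem_sub_one (memLocalIdeal_sub_comm h1)

section Normal

variable {N : Subgroup G} [hN : N.Normal]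

theorem sameBlock_cIrr (g : G) {θ θ' : IrrCharacter N}
    (h : SameBlock M (θ : N → ℂ) (θ' : N → ℂ)) :
    SameBlock M (cIrr g θ : N → ℂ) (cIrr g θ' : N → ℂ) := by
  intro n
  rw [centralChar_cIrr, centralChar_cIrr]
  exact h _

theorem sameBlock_cIrr_iff (g : G) {θ θ' : IrrCharacter N} :
    SameBlock M (cIrr g θ : N → ℂ) (cIrr g θ' : N → ℂ) ↔
      SameBlock M (θ : N → ℂ) (θ' : N → ℂ) := by
  refine ⟨fun h => ?_, sameBlock_cIrr g⟩
  have := sameBlock_cIrr g⁻¹ h
  rwa [cIrr_inv_cIrr, cIrr_inv_cIrr] at this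

theorem image_cIrr_blockOf (g : G) (θ : IrrCharacter N) :
    cIrr g '' blockOf M (θ : N → ℂ) = blockOf M (cIrr g θ : N → ℂ) := by
  ext η
  constructor
  · rintro ⟨η, h, rfl⟩
    exact sameBlock_cIrr g h
  · intro h
    refine ⟨cIrr g⁻¹ η, ?_, cIrr_cIrr_inv g η⟩
    have := sameBlock_cIrr g⁻¹ h
    rwa [cIrr_inv_cIrr] at this

theorem isPBlock_image_cIrr {b : Set (IrrCharacter N)} (hb : IsPBlock M b) (g : G) :
    IsPBlock M (cIrr g '' b) := by
  obtain ⟨θ, rfl⟩ := hb
  rw [image_cIrr_blockOf]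
  exact isPBlock_blockOf _

theorem conjClosure_closed {b : Set (IrrCharacter N)} (hb : IsPBlock M b) :
    ∀ θ ∈ conjClosure G b, ∀ η : IrrCharacter N, SameBlock M (θ : N → ℂ) (η : N → ℂ) →
      η ∈ conjClosure G b := by
  rintro θ ⟨g, θ', h, rfl⟩ η hη
  refine ⟨g, cIrr g⁻¹ η, mem_block_of_sameBlock hb h ?_, (cIrr_cIrr_inv g η).symm⟩
  have := sameBlock_cIrr g⁻¹ hη
  rwa [cIrr_inv_cIrr] at this

theorem intCoeff_idem_conjClosure {b : Set (IrrCharacter N)} (hb : IsPBlock M b) :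
    IntCoeff M (idem (conjClosure G b)) := intCoeff_idem_of_closed (conjClosure_closed hb)

variable [Fintype N]

omit hN hM in
/-- `B` covers `b`: some member of `B` has a constituent in `b` upon restriction. -/
def Covers {N : Subgroup G} [Fintype N] (B : Set (IrrCharacter G)) (b : Set (IrrCharacter N)) :
    Prop :=
  ∃ χ ∈ B, ∃ θ ∈ b, classInner (fun n : N => (χ : G → ℂ) n) (θ : N → ℂ) ≠ 0

/-- The set of characters lying over an invariant union of blocks of `N` is a union of blocks. -/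
theorem mem_of_sameBlock_of_inner {A : Set (IrrCharacter N)}
    (hA : ∀ g : G, ∀ θ ∈ A, cIrr g θ ∈ A) (hi : IntCoeff M (idem A)) {χ ψ : IrrCharacter G}
    (h : SameBlock M (χ : G → ℂ) (ψ : G → ℂ)) {θ η : IrrCharacter N} (hθ : θ ∈ A)
    (h1 : classInner (fun n : N => (χ : G → ℂ) n) θ ≠ 0)
    (h2 : classInner (fun n : N => (ψ : G → ℂ) n) η ≠ 0) : η ∈ A := by
  have h3 := memLocalIdeal_om_sub_of_sameBlock (irr_isClassFunction χ.2) (irr_isClassFunction ψ.2)
    h (isCen_incl_idem hA) hi.incl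
  rw [om_incl_idem_of_mem hA χ h1 hθ, om_incl_of_inner ψ η h2 (isCen_incl_idem hA)] at h3
  exact mem_of_memLocalIdeal_om_idem_sub_one (memLocalIdeal_sub_comm h3)

theorem Covers.mem_conjClosure {B : Set (IrrCharacter G)} {b : Set (IrrCharacter N)}
    (h : Covers B b) (hB : IsPBlock M B) (hb : IsPBlock M b) {χ : IrrCharacter G} (hχ : χ ∈ B)
    {η : IrrCharacter N} (hη : classInner (fun n : N => (χ : G → ℂ) n) η ≠ 0) :
    η ∈ conjClosure G b := by
  obtain ⟨ψ, hψ, θ, hθ, h1⟩ := h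
  exact mem_of_sameBlock_of_inner (cIrr_mem_conjClosure b) (intCoeff_idem_conjClosure hb)
    (sameBlock_of_mem hB hψ hχ) (subset_conjClosure b hθ) h1 hη

/-- If `B` covers `b`, every member of `B` has a constituent in `b`. -/
theorem Covers.exists_inner {B : Set (IrrCharacter G)} {b : Set (IrrCharacter N)}
    (h : Covers B b) (hB : IsPBlock M B) (hb : IsPBlock M b) {χ : IrrCharacter G} (hχ : χ ∈ B) :
    ∃ θ ∈ b, classInner (fun n : N => (χ : G → ℂ) n) θ ≠ 0 := by
  obtain ⟨η, hη⟩ := exists_constituent N χ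
  exact exists_inner_of_conjClosure (irr_isClassFunction χ.2) (h.mem_conjClosure hB hb hχ hη) hη

theorem Covers.memLocalIdeal_sub {B : Set (IrrCharacter G)} {b : Set (IrrCharacter N)}
    (h : Covers B b) (hB : IsPBlock M B) (hb : IsPBlock M b) {χ : IrrCharacter G} (hχ : χ ∈ B)
    {θ : IrrCharacter N} (hθ : θ ∈ b) {n : G} (hn : n ∈ N) :
    MemLocalIdeal M (centralChar (χ : G → ℂ) n - inducedCentralChar N (θ : N → ℂ) n) := by
  obtain ⟨η, hη, h1⟩ := h.exists_inner hB hb hχ
  rw [centralChar_eq_induced_of_inner χ η h1 hn]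
  exact memLocalIdeal_inducedCentralChar_sub (sameBlock_of_mem hb hη hθ) n

theorem covers_of_memLocalIdeal_sub {B : Set (IrrCharacter G)} {b : Set (IrrCharacter N)}
    (hb : IsPBlock M b) {χ : IrrCharacter G} (hχ : χ ∈ B) {θ : IrrCharacter N} (hθ : θ ∈ b)
    (h : ∀ n ∈ N,
      MemLocalIdeal M (centralChar (χ : G → ℂ) n - inducedCentralChar N (θ : N → ℂ) n)) :
    Covers B b := by
  have h1 := memLocalIdeal_om_sub_trunc_of_support (irr_isClassFunction χ.2) (θ : N → ℂ)
    (isCen_incl_idem_conjClosure (G := G) b) (intCoeff_idem_conjClosure hb).incl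
    fun g hg => h g (by_contra fun h2 => hg (coeff_incl_of_notMem N _ h2))
  obtain ⟨η, hη⟩ := exists_constituent N χ
  rw [trunc_incl, om_idem_of_mem (subset_conjClosure b hθ),
    om_incl_of_inner χ η hη (isCen_incl_idem_conjClosure b)] at h1
  exact ⟨χ, hχ, exists_inner_of_conjClosure (irr_isClassFunction χ.2)
    (mem_of_memLocalIdeal_om_idem_sub_one h1) hη⟩

/-- Passman's criterion. -/
theorem covers_iff {B : Set (IrrCharacter G)} {b : Set (IrrCharacter N)} (hB : IsPBlock M B)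
    (hb : IsPBlock M b) : Covers B b ↔ ∀ χ ∈ B, ∀ θ ∈ b, ∀ n : N, MemLocalIdeal M
      (centralChar (χ : G → ℂ) (n : G) - inducedCentralChar N (θ : N → ℂ) (n : G)) := by
  refine ⟨fun h χ hχ θ hθ n => h.memLocalIdeal_sub hB hb hχ hθ n.2, fun h => ?_⟩
  obtain ⟨χ, hχ⟩ := block_nonempty hB
  obtain ⟨θ, hθ⟩ := block_nonempty hb
  exact covers_of_memLocalIdeal_sub hb hχ hθ fun n hn => h χ hχ θ hθ ⟨n, hn⟩

theorem Covers.om_sub_om {B : Set (IrrCharacter G)} {b : Set (IrrCharacter N)}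
    (h : Covers B b) (hB : IsPBlock M B) (hb : IsPBlock M b) {χ : IrrCharacter G} (hχ : χ ∈ B)
    {θ : IrrCharacter N} (hθ : θ ∈ b) {a : ℂ[N]} (ha : IsCen (incl N a)) (hi : IntCoeff M a) :
    MemLocalIdeal M (om (χ : G → ℂ) (incl N a) - om (θ : N → ℂ) a) := by
  obtain ⟨η, hη, h1⟩ := h.exists_inner hB hb hχ
  rw [om_incl_of_inner χ η h1 ha]
  exact memLocalIdeal_om_sub_of_mem hb hη hθ ha.of_incl hi

omit hN in
theorem exists_covers {b : Set (IrrCharacter N)} (hb : IsPBlock M b) :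
    ∃ B : Set (IrrCharacter G), IsPBlock M B ∧ Covers B b := by
  obtain ⟨θ, hθ⟩ := block_nonempty hb
  obtain ⟨χ, hχ⟩ := exists_over N θ
  exact ⟨_, isPBlock_blockOf χ, χ, self_mem_blockOf χ, θ, hθ, hχ⟩

omit hN in
theorem exists_covered (N : Subgroup G) [Fintype N] {B : Set (IrrCharacter G)}
    (hB : IsPBlock M B) : ∃ b : Set (IrrCharacter N), IsPBlock M b ∧ Covers B b := by
  obtain ⟨χ, hχ⟩ := block_nonempty hB
  obtain ⟨θ, hθ⟩ := exists_constituent N χ
  exact ⟨_, isPBlock_blockOf θ, χ, hχ, θ, self_mem_blockOf θ, hθ⟩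

theorem Covers.image_cIrr {B : Set (IrrCharacter G)} {b : Set (IrrCharacter N)}
    (h : Covers B b) (g : G) : Covers B (cIrr g '' b) := by
  obtain ⟨χ, hχ, θ, hθ, h1⟩ := h
  exact ⟨χ, hχ, cIrr g θ, ⟨θ, hθ, rfl⟩, by rwa [classInner_res_cIrr (irr_isClassFunction χ.2)]⟩

/-- The blocks of `N` covered by a block of `G` are `G`-conjugate. -/
theorem Covers.exists_image_cIrr_eq {B : Set (IrrCharacter G)} {b b' : Set (IrrCharacter N)}
    (h : Covers B b) (h' : Covers B b') (hB : IsPBlock M B) (hb : IsPBlock M b)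
    (hb' : IsPBlock M b') : ∃ g : G, cIrr g '' b = b' := by
  obtain ⟨χ, hχ, θ', hθ', h1⟩ := h'
  obtain ⟨g, θ, hθ, rfl⟩ := h.mem_conjClosure hB hb hχ h1
  exact ⟨g, block_eq_of_mem (isPBlock_image_cIrr hb g) hb' ⟨θ, hθ, rfl⟩ hθ'⟩

/-- An induced block from a normal subgroup covers. -/
theorem covers_of_isInducedBlock {B : Set (IrrCharacter G)} {b : Set (IrrCharacter N)}
    (h : IsInducedBlock M N b B) : Covers B b :=
  (covers_iff h.2.1 h.1).2 fun χ hχ θ hθ n => memLocalIdeal_sub_comm (h.2.2 θ hθ χ hχ n)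

/-- A block covering `b` whose central character vanishes off `N` is induced by `b`. -/
theorem Covers.isInducedBlock {B : Set (IrrCharacter G)} {b : Set (IrrCharacter N)}
    (h : Covers B b) (hB : IsPBlock M B) (hb : IsPBlock M b)
    (h0 : ∀ χ ∈ B, ∀ g ∉ N, MemLocalIdeal M (centralChar (χ : G → ℂ) g)) :
    IsInducedBlock M N b B := by
  refine ⟨hb, hB, fun θ hθ χ hχ g => ?_⟩
  by_cases hg : g ∈ N
  · exact memLocalIdeal_sub_comm (h.memLocalIdeal_sub hB hb hχ hθ hg)
  · rw [inducedCentralChar_of_notMem _ hg, zero_sub]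
    exact memLocalIdeal_neg (h0 χ hχ g hg)

omit hM in
/-- If all `p`-regular elements lie in `N`, a block of `N` is covered by at most one block. -/
theorem Covers.unique_of_pRegular_mem {p : ℕ} (hM : IsPModular p M)
    (hreg : ∀ g : G, ¬ p ∣ orderOf g → g ∈ N) {B B' : Set (IrrCharacter G)}
    {b : Set (IrrCharacter N)} (h : Covers B b) (h' : Covers B' b) (hB : IsPBlock M B)
    (hB' : IsPBlock M B') (hb : IsPBlock M b) : B = B' := by
  have := hM.2.1
  obtain ⟨χ, hχ⟩ := block_nonempty hB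
  obtain ⟨χ', hχ'⟩ := block_nonempty hB'
  obtain ⟨θ, hθ⟩ := block_nonempty hb
  refine block_eq_of_mem hB hB' (mem_block_of_sameBlock hB hχ ?_) hχ'
  exact sameBlock_of_pRegular hM fun g hg => memLocalIdeal_sub_trans
    (h.memLocalIdeal_sub hB hb hχ hθ (hreg g hg))
    (memLocalIdeal_sub_comm (h'.memLocalIdeal_sub hB' hb hχ' hθ (hreg g hg)))

omit hM [Fintype N] in
theorem mem_of_index_eq_pow_of_not_dvd {p : ℕ} [Fact p.Prime] (hidx : ∃ k : ℕ, N.index = p ^ k)
    {g : G} (hg : ¬ p ∣ orderOf g) : g ∈ N := by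
  obtain ⟨k, hk⟩ := hidx
  have h1 : (QuotientGroup.mk' N g) ^ p ^ k = 1 := by
    rw [← hk]
    exact pow_card_eq_one'
  have h2 := eq_one_of_orderOf_pow_of_not_dvd (exists_orderOf_eq_pow_iff.2 ⟨k, h1⟩)
    (not_dvd_orderOf_map (QuotientGroup.mk' N) hg)
  exact (QuotientGroup.eq_one_iff g).1 h2

omit hM hN [Fintype N] in
/-- For a `p'`-group every central idempotent is integral. -/
theorem intCoeff_idem_of_not_dvd {p : ℕ} (hM : IsPModular p M) (hG : ¬ p ∣ Nat.card G)
    (A : Set (IrrCharacter G)) : IntCoeff M (idem A) := by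
  classical
  have := hM.2.1
  intro g
  rw [coeff_idem, blockCoeff_eq_sum]
  refine memLocalRing_mul (memLocalRing_inv_natCast hM hG) (memLocalRing_sum _ fun χ _ => ?_)
  split_ifs
  · exact memLocalRing_mul (memLocalRing_irr_apply χ _) (memLocalRing_irr_apply χ _)
  · exact memLocalRing_zero

omit hM hN [Fintype N] in
theorem blockOf_eq_singleton_of_not_dvd {p : ℕ} (hM : IsPModular p M) (hG : ¬ p ∣ Nat.card G)
    (χ : IrrCharacter G) : blockOf M (χ : G → ℂ) = {χ} := by
  have := hM.2.1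
  exact Set.Subset.antisymm (blockOf_subset_of_intCoeff (intCoeff_idem_of_not_dvd hM hG _) rfl)
    (Set.singleton_subset_iff.2 (self_mem_blockOf χ))

omit hM in
/-- Characters in the same block have the same constituents on a normal `p'`-subgroup. -/
theorem inner_ne_zero_of_sameBlock_of_not_dvd {p : ℕ} (hM : IsPModular p M)
    (hp : ¬ p ∣ Nat.card N) {χ ψ : IrrCharacter G} (h : SameBlock M (χ : G → ℂ) (ψ : G → ℂ))
    {θ : IrrCharacter N} (hθ : classInner (fun n : N => (χ : G → ℂ) n) θ ≠ 0) :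
    classInner (fun n : N => (ψ : G → ℂ) n) θ ≠ 0 := by
  have := hM.2.1
  have h1 : Covers (blockOf M (χ : G → ℂ)) (blockOf M (θ : N → ℂ)) :=
    ⟨χ, self_mem_blockOf χ, θ, self_mem_blockOf θ, hθ⟩
  obtain ⟨η, hη, h2⟩ := h1.exists_inner (isPBlock_blockOf χ) (isPBlock_blockOf θ) (χ := ψ) h
  rw [blockOf_eq_singleton_of_not_dvd hM hp] at hη
  rwa [← hη]

end Normal

end CL.Blocks
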