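import Cfsg.Agent.Base
import Cfsg.Agent.Blocks.FirstMain
import Cfsg.Agent.Blocks.NormalCover

/-!
# The extended First Main Theorem
-/

set_option autoImplicit false
set_option linter.unusedSectionVars false

namespace CL.Blocks

open Cfsg CL.Char

variable {M : Ideal AlgInt} [M.IsMaximal] {p : ℕ}
variable {G H : Type*} [Group G] [Group H] [Finite G] [Finite H]

theorem lamK_irrCompEquiv_eq_iff (e : H ≃* G) {χ ψ : IrrCharacter G} :
    lamK M (irrCompEquiv e χ) = lamK M (irrCompEquiv e ψ) ↔ lamK M χ = lamK M ψ := by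
  constructor
  · intro h
    refine AlgHom.ext fun z => ?_
    rw [← lamK_comp_mulEquiv e χ _ (irrCompEquiv_apply e χ), h,
      lamK_comp_mulEquiv e ψ _ (irrCompEquiv_apply e ψ)]
  · intro h
    refine AlgHom.ext fun z => ?_
    obtain ⟨w, rfl⟩ : ∃ w, ZA.resEquiv (kM M) e w = z :=
      ⟨ZA.resEquiv _ e.symm z, ZA.ext' fun x => by
        rw [ZA.co_resEquiv, ZA.co_resEquiv, e.symm_apply_apply]⟩
    rw [lamK_comp_mulEquiv e χ _ (irrCompEquiv_apply e χ), h,
      lamK_comp_mulEquiv e ψ _ (irrCompEquiv_apply e ψ)]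

/-- `P C_G(P)` is normalised by `N_G(P)`. -/
theorem normal_sup_centralizer_subgroupOf (P : Subgroup G) :
    ((P ⊔ Subgroup.centralizer (P : Set G)).subgroupOf
      (Subgroup.normalizer (P : Set G))).Normal := by
  rw [Subgroup.normal_subgroupOf_iff_le_normalizer
    (sup_le Subgroup.le_normalizer (centralizer_le_normalizer' P))]
  intro n hn
  rw [← map_conj_eq_iff_mem_normalizer, Subgroup.map_sup, map_conj_eq_iff_mem_normalizer.2 hn]
  congr 1
  refine map_conj_eq_iff_mem_normalizer.2 (Subgroup.mem_normalizer_iff.2 fun g => ?_)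
  exact (conj_mem_centralizer_iff hn g).symm

variable [Fact p.Prime]

/-- Two blocks of a normal subgroup `L` of `N_G(P)` containing `P C_G(P)` that induce the same block
of `G` with defect group `P` are conjugate under `N_G(P)`. -/
theorem exists_conj_of_isInducedBlock (hM : IsPModular p M) {P L : Subgroup G} (hPL : P ≤ L)
    (hC : Subgroup.centralizer (P : Set G) ≤ L) (hN : L ≤ Subgroup.normalizer (P : Set G))
    [hLN : (L.subgroupOf (Subgroup.normalizer (P : Set G))).Normal]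
    {B : Set (IrrCharacter G)} (hP : IsDefectGroup p M B P) {b b' : Set (IrrCharacter L)}
    (h : IsInducedBlock M L b B) (h' : IsInducedBlock M L b' B) :
    ∃ n ∈ Subgroup.normalizer (P : Set G), ∀ θ ∈ b, ∃ θ' ∈ b', ∀ x : L,
      ∀ hx : n * (x : G) * n⁻¹ ∈ L, (θ' : L → ℂ) x = (θ : L → ℂ) ⟨n * (x : G) * n⁻¹, hx⟩ := by
  classical
  have := Fintype.ofFinite (L.subgroupOf (Subgroup.normalizer (P : Set G)))
  have hPp := isPGroup_of_isDefectGroup hP
  obtain ⟨ξ, hξ⟩ := block_nonempty h.1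
  obtain ⟨ξ', hξ'⟩ := block_nonempty h'.1
  obtain ⟨χ, hχ⟩ := block_nonempty h.2.1
  have hs : IsBrauerSetup p (P.comap (Subgroup.normalizer (P : Set G)).subtype)
      (Subgroup.inclusion hN) :=
    IsBrauerSetup.of_comp (Subgroup.subtype_injective _) (le_range_subtype Subgroup.le_normalizer)
      (isBrauerSetup_subtype hPp hC hN)
  have hr : P.comap (Subgroup.normalizer (P : Set G)).subtype ≤ (Subgroup.inclusion hN).range :=
    fun x hx => ⟨⟨x, hPL hx⟩, rfl⟩
  obtain ⟨η, hη⟩ := exists_indVia hM hs hr ξ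
  obtain ⟨η', hη'⟩ := exists_indVia hM hs hr ξ'
  have h1 := (indVia_subtype_iff_of_inclusion hN hη).1 (indVia_of_isInducedBlock h hξ hχ)
  have h2 := (indVia_subtype_iff_of_inclusion hN hη').1 (indVia_of_isInducedBlock h' hξ' hχ)
  have h3 := h2.lamK_eq_of_isDefectGroup hM (isBrauerSetup_normalizer hPp)
    (le_range_subtype le_rfl) h1 h.2.1 hχ hP
  replace hη' := hη'.congr_right h3
  set e := Subgroup.subgroupOfEquivOfLe hN
  have c1 := covers_of_isInducedBlock (isInducedBlock_blockOf_iff.2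
    ((indVia_inclusion_iff hN (irrCompEquiv_apply e ξ)).1 hη))
  have c2 := covers_of_isInducedBlock (isInducedBlock_blockOf_iff.2
    ((indVia_inclusion_iff hN (irrCompEquiv_apply e ξ')).1 hη'))
  obtain ⟨g, hg⟩ := c1.exists_image_cIrr_eq c2 (isPBlock_blockOf _) (isPBlock_blockOf _)
    (isPBlock_blockOf _)
  refine ⟨g, g.2, fun θ hθ => ?_⟩
  have h4 : cIrr g (irrCompEquiv e θ) ∈ blockOf M (irrCompEquiv e ξ' : _ → ℂ) := by
    rw [← hg]
    exact ⟨_, mem_blockOf_iff_lamK.2 ((lamK_irrCompEquiv_eq_iff e).2 (lamK_eq_of_mem h.1 hξ hθ)),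
      rfl⟩
  obtain ⟨θ', hθ'⟩ := (irrCompEquiv e).surjective (cIrr g (irrCompEquiv e θ))
  rw [← hθ', mem_blockOf_iff_lamK, lamK_irrCompEquiv_eq_iff] at h4
  refine ⟨θ', (mem_iff_lamK_of_isPBlock h'.1 hξ' θ').2 h4, fun x hx => ?_⟩
  obtain ⟨y, rfl⟩ := e.surjective x
  rw [← irrCompEquiv_apply, hθ', cIrr_apply, irrCompEquiv_apply]
  rfl

end CL.Blocks
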