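import Cfsg.Agent.Base
import Cfsg.Agent.Blocks.FirstMain
import Cfsg.Agent.Blocks.DefectCard
import Cfsg.Agent.Char.Ito

/-!
# Green's theorem: defect groups are Sylow intersections
-/

set_option autoImplicit false
set_option linter.unusedSectionVars false

namespace CL.Blocks

open Cfsg CL.Char

variable {M : Ideal AlgInt} [M.IsMaximal] {p : ℕ}
variable {G : Type*} [Group G] [Finite G]

theorem sum_conj_blockCoeff_mul [Fintype G] (A : Set (IrrCharacter G)) (y u : G) :
    ∑ c : G, blockCoeff A (c⁻¹ * y * c * u) =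
      ∑ᶠ χ ∈ A, (χ : G → ℂ) y⁻¹ * (χ : G → ℂ) u⁻¹ := by
  classical
  rw [← Equiv.sum_comp (Equiv.inv G), finsum_mem_irr_eq_sum]
  simp only [blockCoeff_eq_sum, ← Finset.mul_sum]
  rw [Finset.sum_comm, Finset.mul_sum]
  refine Finset.sum_congr rfl fun χ _ => ?_
  split_ifs
  · have h1 : ∀ c : G, ((Equiv.inv G c)⁻¹ * y * Equiv.inv G c * u)⁻¹ = u⁻¹ * (c * y⁻¹ * c⁻¹) := by
      intro c
      simp [mul_assoc]
    simp only [h1]
    rw [← Finset.mul_sum, irr_sum_mul_conj χ.2]
    have h0 : (Nat.card G : ℂ) ≠ 0 := card_ne_zero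
    have h3 := irr_apply_one_ne_zero χ.2
    field_simp
  · simp

variable [Fact p.Prime]

/-- If `e_B` involves `y`, then for some conjugate `w` of `y` the sum of the coefficients of `e_B`
over the coset `w P` of a Sylow `p`-subgroup does not vanish. -/
theorem exists_isConj_sum_coset_ne_zero [Fintype G] (hM : IsPModular p M)
    {B : Set (IrrCharacter G)} (hB : IsPBlock M B) (P : Sylow p G)
    [DecidablePred (· ∈ (P : Subgroup G))] {y : G} (hy : (eK M B).co y ≠ 0) :
    ∃ w, IsConj y w ∧ ∑ u : G, (if u ∈ (P : Subgroup G) then (eK M B).co (w * u) else 0) ≠ 0 := by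
  classical
  have := Fintype.ofFinite (G ⧸ (P : Subgroup G))
  have hyr := not_dvd_orderOf_of_co_eK_ne_zero hM hB hy
  set F : G → ℂ := fun w => ∑ u : G, if u ∈ (P : Subgroup G) then blockCoeff B (w * u) else 0
    with hF
  have hFr : ∀ (w u : G), MemLocalRing M
      (if u ∈ (P : Subgroup G) then blockCoeff B (w * u) else 0) := by
    intro w u
    split_ifs
    · exact memLocalRing_blockCoeff hB _
    · exact memLocalRing_zero
  have hFconj : ∀ v ∈ (P : Subgroup G), ∀ w, F (v⁻¹ * w * v) = F w := by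
    intro v hv w
    refine Fintype.sum_equiv (MulAut.conj v).toEquiv _ _ fun u => ?_
    have h1 : v * u * v⁻¹ ∈ (P : Subgroup G) ↔ u ∈ (P : Subgroup G) := by
      rw [Subgroup.mul_mem_cancel_right _ (inv_mem hv), Subgroup.mul_mem_cancel_left _ hv]
    change _ = if v * u * v⁻¹ ∈ (P : Subgroup G) then blockCoeff B (w * (v * u * v⁻¹)) else 0
    refine if_congr h1.symm ?_ rfl
    rw [← isClassFunction_blockCoeff B (v⁻¹ * w * v * u) v]
    congr 1
    group
  have h1 : ∑ c : G, F (c⁻¹ * y * c) = (Nat.card G : ℂ) * blockCoeff B y := by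
    simp only [hF]
    rw [Finset.sum_comm, Finset.sum_eq_single 1]
    · simp only [one_mem, if_true, mul_one]
      rw [Finset.sum_congr rfl fun c _ =>
        blockCoeff_eq_of_isConj B (g := c⁻¹ * y * c) (h := y) (isConj_iff.2 ⟨c, by group⟩),
        Finset.sum_const, Finset.card_univ, nsmul_eq_mul, Nat.card_eq_fintype_card]
    · intro u _ hu
      by_cases huP : u ∈ (P : Subgroup G)
      · simp only [huP, if_true]
        rw [sum_conj_blockCoeff_mul]
        have h2 : p ∣ orderOf u := by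
          obtain ⟨k, hk⟩ := IsPGroup.iff_orderOf.1 P.isPGroup' ⟨u, huP⟩
          rw [← Subgroup.orderOf_coe] at hk
          change orderOf u = _ at hk
          rw [hk]
          refine dvd_pow_self p ?_
          rintro rfl
          exact hu (orderOf_eq_one_iff.1 hk)
        have h3 := sum_mul_conj_eq_zero_of_regular_singular hM (memLocalRing_blockCoeff hB)
          (x := y⁻¹) (by rwa [orderOf_inv]) h2
        simpa only [conj_irr_apply] using h3
      · simp [huP]
    · simp
  have h2 : ∑ c : G, F (c⁻¹ * y * c) = (Nat.card (P : Subgroup G) : ℂ) *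
      ∑ q : G ⧸ (P : Subgroup G), F (q.out⁻¹ * y * q.out) := by
    rw [sum_eq_sum_out_mul (P : Subgroup G), Finset.mul_sum]
    refine Finset.sum_congr rfl fun q _ => ?_
    rw [Finset.sum_congr rfl (g := fun _ => F (q.out⁻¹ * y * q.out)) fun v _ => by
      rw [← hFconj v v.2 (q.out⁻¹ * y * q.out)]
      congr 1
      group, Finset.sum_const, Finset.card_univ, nsmul_eq_mul, Nat.card_eq_fintype_card]
  have h3 : ∑ q : G ⧸ (P : Subgroup G), F (q.out⁻¹ * y * q.out) =
      ((P : Subgroup G).index : ℂ) * blockCoeff B y := by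
    have h0 : (Nat.card (P : Subgroup G) : ℂ) ≠ 0 := card_ne_zero
    refine mul_left_cancel₀ h0 ?_
    rw [← h2, h1, ← (P : Subgroup G).card_mul_index, Nat.cast_mul, mul_assoc]
  have h4 : ¬ MemLocalIdeal M (∑ q : G ⧸ (P : Subgroup G), F (q.out⁻¹ * y * q.out)) := by
    rw [h3]
    exact not_memLocalIdeal_mul (not_memLocalIdeal_natCast hM P.not_dvd_index)
      (memLocalRing_blockCoeff hB y) ((co_eK_ne_zero_iff hB y).1 hy)
  obtain ⟨q, -, hq⟩ := exists_not_memLocalIdeal_of_sum _ h4
  refine ⟨q.out⁻¹ * y * q.out, isConj_iff.2 ⟨q.out⁻¹, by rw [inv_inv]⟩, fun h => hq ?_⟩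
  rw [← red_eq_zero_iff (memLocalRing_sum _ fun u _ => hFr _ u), red_sum _ fun u _ => hFr _ u, ← h]
  refine Finset.sum_congr rfl fun u _ => ?_
  split_ifs
  · rfl
  · exact red_zero

/-- If `e_B` involves `y` and `P` is a Sylow `p`-subgroup, then for some conjugate `w` of `y` the
intersection `P ∩ wPw⁻¹` is conjugate into a defect group of `B`. -/
theorem exists_isConj_inf_conj_le (hM : IsPModular p M) {B : Set (IrrCharacter G)}
    (hB : IsPBlock M B) {D : Subgroup G} (hD : IsDefectGroup p M B D) (P : Sylow p G) {y : G}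
    (hy : (eK M B).co y ≠ 0) : ∃ w, IsConj y w ∧ ∃ x : G,
      ((P : Subgroup G) ⊓ (P : Subgroup G).map (MulAut.conj w).toMonoidHom).map
        (MulAut.conj x).toMonoidHom ≤ D := by
  classical
  have := Fintype.ofFinite G
  obtain ⟨w, hw, h⟩ := exists_isConj_sum_coset_ne_zero hM hB P hy
  refine ⟨w, hw, ?_⟩
  set R := (P : Subgroup G) ⊓ (P : Subgroup G).map (MulAut.conj w).toMonoidHom with hR
  have hRp : IsPGroup p R := P.isPGroup'.to_inf_left
  have h1 : ∑ u : G, (if u ∈ (P : Subgroup G) then (eK M B).co (w * u) else 0) =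
      ∑ z : G, if w⁻¹ * z ∈ (P : Subgroup G) then (eK M B).co z else 0 :=
    Fintype.sum_equiv (Equiv.mulLeft w) _ _ fun u => by simp
  rw [h1, sum_eq_sum_centralizer (kM_natCast_p hM) hRp] at h
  · obtain ⟨z, hz, hz'⟩ := Finset.exists_ne_zero_of_sum_ne_zero h
    rw [Finset.mem_filter] at hz
    exact exists_conj_le_of_co_eK_ne_zero hM hB hD (h := z) (fun h0 => hz' (by simp [h0])) hRp
      (le_centralizer_singleton_iff.2 hz.2)
  · rintro r ⟨hr, s, hs, hsr⟩ z
    have h2 : w⁻¹ * (r * z * r⁻¹) = s * (w⁻¹ * z) * r⁻¹ := by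
      have : r = w * s * w⁻¹ := hsr.symm
      conv_lhs => rw [show r * z = w * s * w⁻¹ * z by rw [← this]]
      group
    refine if_congr ?_ (ZA.co_conj _ _ _) rfl
    rw [h2, Subgroup.mul_mem_cancel_right _ (inv_mem hr), Subgroup.mul_mem_cancel_left _ hs]

/-- Green's theorem for a normal defect group. -/
theorem exists_inf_conj_eq_of_normal (hM : IsPModular p M) {B : Set (IrrCharacter G)}
    (hB : IsPBlock M B) {D : Subgroup G} [hn : D.Normal] (hD : IsDefectGroup p M B D)
    (P : Sylow p G) : ∃ w : G, (eK M B).co w ≠ 0 ∧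
      (P : Subgroup G) ⊓ (P : Subgroup G).map (MulAut.conj w).toMonoidHom = D := by
  obtain ⟨χ, hχ⟩ := block_nonempty hB
  obtain ⟨y, hy⟩ := exists_isDefectClass hB
  have hy' := ((isDefectClass_iff hB hχ).1 hy).1
  obtain ⟨w, hw, x, hx⟩ := exists_isConj_inf_conj_le hM hB hD P hy'
  refine ⟨w, by rwa [← ZA.co_eq_of_isConj _ hw], (Subgroup.eq_of_le_of_card_ge ?_ ?_).symm⟩
  · have h1 : D ≤ P := (isPGroup_of_isDefectGroup hD).le_sylow_of_normal P
    refine le_inf h1 fun d hd => ⟨w⁻¹ * d * w, h1 ?_, by simp [mul_assoc]⟩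
    simpa using hn.conj_mem d hd w⁻¹
  · rw [← card_map_conj _ x]
    exact Subgroup.card_le_of_le hx

omit [Finite G] in
/-- A proper subgroup of a finite `p`-group is properly contained in its normaliser. -/
theorem eq_of_inf_normalizer_le {D Q : Subgroup G} [Finite Q] (hQ : IsPGroup p Q) (hDQ : D ≤ Q)
    (h : Q ⊓ Subgroup.normalizer (D : Set G) ≤ D) : Q = D := by
  by_contra hne
  have hlt : D.subgroupOf Q < ⊤ := by
    rw [lt_top_iff_ne_top, Ne, Subgroup.subgroupOf_eq_top]
    exact fun hle => hne (le_antisymm hle hDQ)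
  have : Group.IsNilpotent Q := hQ.isNilpotent
  obtain ⟨x, hxN, hxD⟩ := SetLike.exists_of_lt
    (Group.normalizerCondition_of_isNilpotent (G := Q) _ hlt)
  have hxN' : (x : G) ∈ Subgroup.normalizer (D : Set G) := by
    have := (Subgroup.subgroupOf_normalizer_eq hDQ) ▸ hxN
    exact this
  exact hxD (h ⟨x.2, hxN'⟩)

/-- Green's theorem. -/
theorem exists_inf_conj_eq_of_isDefectGroup (hM : IsPModular p M) {B : Set (IrrCharacter G)}
    (hB : IsPBlock M B) {D : Subgroup G} (hD : IsDefectGroup p M B D) (P : Sylow p G)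
    (hDP : D ≤ P) : ∃ x : G, ¬ p ∣ orderOf x ∧
      IsSylowIn p D (Subgroup.centralizer ({x} : Set G)) ∧
      (P : Subgroup G) ⊓ (P : Subgroup G).map (MulAut.conj x).toMonoidHom = D := by
  obtain ⟨b, hb, hbD⟩ := exists_brauerCorrespondent hM hB hD
  have hs := isBrauerSetup_normalizer (isPGroup_of_isDefectGroup hD)
  have : (D.subgroupOf (Subgroup.normalizer (D : Set G))).Normal := hs.normal_comap
  obtain ⟨Q, hQ⟩ := (P.isPGroup'.comap_of_injective (Subgroup.normalizer (D : Set G)).subtype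
    (Subgroup.subtype_injective _)).exists_le_sylow
  obtain ⟨w, hw, hwQ⟩ := exists_inf_conj_eq_of_normal hM hb.1 hbD Q
  have h1 := hs.isSylowIn_of_comap (le_range_subtype le_rfl)
    (isSylowIn_of_co_eK_ne_zero hM hb.1 hbD hw)
  refine ⟨w, ?_, h1, eq_of_inf_normalizer_le P.isPGroup'.to_inf_left (le_inf hDP ?_) ?_⟩
  · rw [Subgroup.orderOf_coe]
    exact not_dvd_orderOf_of_co_eK_ne_zero hM hb.1 hw
  · exact (map_conj_eq_iff_mem_normalizer.2 w.2).ge.trans (Subgroup.map_mono hDP)
  · rintro r ⟨⟨hr, s, hs, hsr⟩, hrN⟩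
    have hsN : s ∈ Subgroup.normalizer (D : Set G) := by
      have : s = (w : G)⁻¹ * r * w := by
        rw [← hsr]
        simp [mul_assoc]
      rw [this]
      exact mul_mem (mul_mem (inv_mem w.2) hrN) w.2
    have h2 : (⟨r, hrN⟩ : Subgroup.normalizer (D : Set G)) ∈
        D.subgroupOf (Subgroup.normalizer (D : Set G)) := by
      rw [← hwQ]
      exact ⟨hQ hr, ⟨s, hsN⟩, hQ hs, Subtype.ext hsr⟩
    exact h2

end CL.Blocks
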