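import Cfsg.Agent.Base
import Cfsg.Agent.Blocks.Defect
import Cfsg.Agent.Blocks.Sharp
import Cfsg.Agent.Blocks.TraceSecond
import Cfsg.Agent.Blocks.CommTrace

/-!
# Defect classes, height zero characters and roots

* `card_defectGroup_eq_pow`: the order of a defect group is `p ^ blockDefect`;
* values of height zero characters on `x * y`, `y` in a defect class;
* characters vanish off the `p`-sections meeting a defect group;
* roots of a block under a Brauer homomorphism, and the centre of a defect group.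
-/

set_option autoImplicit false

namespace CL.Blocks

open Cfsg CL.Char
open scoped MonoidAlgebra ComplexConjugate

variable {G : Type*} [Group G] [Finite G] {p : ℕ} {M : Ideal AlgInt}
variable {B : Set (IrrCharacter G)}

theorem not_dvd_orderOf_of_isDefectClass (hM : IsPModular p M) (hB : IsPBlock M B) {y : G}
    (hy : IsDefectClass M B y) : ¬ p ∣ orderOf y := by
  have := hM.2.1
  intro h
  apply hy.2.1
  rw [blockCoeff_eq_zero_of_dvd hM (memLocalRing_blockCoeff hB) h]
  exact memLocalIdeal_zero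

theorem factorization_index_add_card (H : Subgroup G) :
    H.index.factorization p + (Nat.card H).factorization p = (Nat.card G).factorization p := by
  rw [← H.index_mul_card, Nat.factorization_mul H.index_ne_zero_of_finite Nat.card_pos.ne']
  rfl

omit [Finite G] in
theorem centralChar_eq_div_mul (χ : IrrCharacter G) (g : G) :
    centralChar (χ : G → ℂ) g = ((Subgroup.centralizer ({g} : Set G)).index : ℂ) /
      (charDegree (χ : G → ℂ) : ℂ) * (χ : G → ℂ) g := by
  rw [cast_charDegree, centralChar]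
  ring

/-- If the central character of a member of `B` at `g` is a unit, then `p ^ d(B)` divides
the order of the centralizer of `g`. -/
theorem blockDefect_le_of_not_memLocalIdeal_centralChar (hM : IsPModular p M)
    (hB : IsPBlock M B) {χ : IrrCharacter G} (hχ : χ ∈ B) {g : G}
    (hg : ¬ MemLocalIdeal M (centralChar (χ : G → ℂ) g)) :
    blockDefect p B ≤ (Nat.card (Subgroup.centralizer ({g} : Set G))).factorization p := by
  have := hM.2.1
  obtain ⟨ψ, hψ, h0⟩ := exists_blockHeight_eq_zero (p := p) (block_nonempty hB)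
  have hg' : ¬ MemLocalIdeal M (centralChar (ψ : G → ℂ) g) := by
    rwa [← memLocalIdeal_congr (sameBlock_of_mem hB hχ hψ g)]
  rw [blockHeight_eq_zero_iff_defect hψ] at h0
  have h1 := factorization_index_add_card (p := p) (Subgroup.centralizer ({g} : Set G))
  have h2 : ¬ (charDegree (ψ : G → ℂ)).factorization p <
      (Subgroup.centralizer ({g} : Set G)).index.factorization p := by
    intro h
    apply hg'
    rw [centralChar_eq_div_mul]
    exact memLocalIdeal_mul_right ((memLocalIdeal_natCast_div_natCast hM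
      Subgroup.index_ne_zero_of_finite (charDegree_pos ψ).ne').2 h) (memLocalRing_irr ψ g)
  omega

/-- If the idempotent coefficient of `B` at `g` is a unit, the `p`-part of the order of the
centralizer of `g` divides `p ^ d(B)`. -/
theorem le_blockDefect_of_not_memLocalIdeal_blockCoeff (hM : IsPModular p M)
    (hB : IsPBlock M B) {g : G} (hg : ¬ MemLocalIdeal M (blockCoeff B g)) :
    (Nat.card (Subgroup.centralizer ({g} : Set G))).factorization p ≤ blockDefect p B := by
  classical
  have := hM.2.1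
  obtain ⟨ψ, hψ, h0⟩ := exists_blockHeight_eq_zero (p := p) (block_nonempty hB)
  have hψ1 : (ψ : G → ℂ) 1 ≠ 0 := by
    rw [← cast_charDegree]; exact_mod_cast (charDegree_pos ψ).ne'
  have hG : (Nat.card G : ℂ) ≠ 0 := by exact_mod_cast Nat.card_pos.ne'
  let η : G → ℂ := ∑ χ : IrrCharacter G,
    (if χ ∈ B then (χ : G → ℂ) 1 / (ψ : G → ℂ) 1 else 0) • (χ : G → ℂ)
  have hη : IsLocGen M η := by
    refine ⟨_, fun χ => ?_, rfl⟩
    split_ifs with h
    · exact (memLocalRing_degree_div_iff hM χ ψ).2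
        ((blockHeight_eq_zero_iff (block_nonempty hB)).1 h0 χ h)
    · exact memLocalRing_zero
  have hval : ∀ x : G, η x⁻¹ = (Nat.card G : ℂ) / (ψ : G → ℂ) 1 * blockCoeff B x := by
    intro x
    rw [blockCoeff_eq_sum, ← mul_assoc, Finset.mul_sum]
    simp only [η, Finset.sum_apply, Pi.smul_apply, smul_eq_mul]
    refine Finset.sum_congr rfl fun χ _ => ?_
    split_ifs
    · field_simp
    · simp
  have h1 := hη.inv.div_card_centralizer hM (fun x hx => by
    rw [hval, blockCoeff_eq_zero_of_dvd hM (memLocalRing_blockCoeff hB) hx, mul_zero]) g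
  rw [hval] at h1
  have h2 : (Nat.card G : ℂ) / (ψ : G → ℂ) 1 * blockCoeff B g /
      Nat.card (Subgroup.centralizer ({g} : Set G)) =
      (Nat.card G : ℂ) / ((charDegree (ψ : G → ℂ) *
        Nat.card (Subgroup.centralizer ({g} : Set G)) : ℕ) : ℂ) * blockCoeff B g := by
    rw [Nat.cast_mul, cast_charDegree]
    ring
  rw [h2, memLocalRing_mul_unit_iff (memLocalRing_blockCoeff hB g) hg,
    memLocalRing_natCast_div_natCast hM Nat.card_pos.ne'
      (mul_ne_zero (charDegree_pos ψ).ne' Nat.card_pos.ne'),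
    Nat.factorization_mul (charDegree_pos ψ).ne' Nat.card_pos.ne', Finsupp.add_apply] at h1
  rw [blockHeight_eq_zero_iff_defect hψ] at h0
  omega

theorem factorization_card_centralizer_of_isDefectClass (hM : IsPModular p M)
    (hB : IsPBlock M B) {y : G} (hy : IsDefectClass M B y) :
    (Nat.card (Subgroup.centralizer ({y} : Set G))).factorization p = blockDefect p B := by
  have := hM.2.1
  obtain ⟨χ, hχ⟩ := block_nonempty hB
  exact le_antisymm (le_blockDefect_of_not_memLocalIdeal_blockCoeff hM hB hy.2.1)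
    (blockDefect_le_of_not_memLocalIdeal_centralChar hM hB hχ (hy.2.2 χ hχ))

theorem card_defectGroup_eq_pow (hM : IsPModular p M) (hB : IsPBlock M B) {D : Subgroup G}
    (hD : IsDefectGroup p M B D) : Nat.card D = p ^ blockDefect p B := by
  have := hM.2.1
  have : Fact p.Prime := ⟨hM.1⟩
  obtain ⟨y, hy, hS⟩ := isDefectGroup_iff.1 hD
  rw [hS.card_eq, factorization_card_centralizer_of_isDefectClass hM hB hy]

theorem defectGroup_eq_bot_iff (hM : IsPModular p M) (hB : IsPBlock M B) {D : Subgroup G}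
    (hD : IsDefectGroup p M B D) : D = ⊥ ↔ blockDefect p B = 0 := by
  rw [← Subgroup.card_eq_one, card_defectGroup_eq_pow hM hB hD, Nat.pow_eq_one]
  exact ⟨fun h => h.resolve_left hM.1.one_lt.ne', Or.inr⟩

/-- For `χ` of height zero and `|C(g)|_p = p ^ d(B)`, `ω_χ(g)` and `χ(g)` are associated. -/
theorem memLocalIdeal_centralChar_iff_of_height_zero (hM : IsPModular p M)
    {χ : IrrCharacter G} (hχ : χ ∈ B) (h0 : blockHeight p B (χ : G → ℂ) = 0) {g : G}
    (hg : (Nat.card (Subgroup.centralizer ({g} : Set G))).factorization p = blockDefect p B) :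
    MemLocalIdeal M (centralChar (χ : G → ℂ) g) ↔ MemLocalIdeal M ((χ : G → ℂ) g) := by
  have := hM.2.1
  rw [blockHeight_eq_zero_iff_defect hχ] at h0
  have h1 := factorization_index_add_card (p := p) (Subgroup.centralizer ({g} : Set G))
  rw [centralChar_eq_div_mul, mul_comm]
  refine memLocalIdeal_mul_unit_iff ((memLocalRing_natCast_div_natCast hM
      Subgroup.index_ne_zero_of_finite (charDegree_pos χ).ne').2 (by omega)) ?_
  rw [memLocalIdeal_natCast_div_natCast hM
      Subgroup.index_ne_zero_of_finite (charDegree_pos χ).ne']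
  omega

theorem not_memLocalIdeal_of_height_zero_of_isDefectClass (hM : IsPModular p M)
    (hB : IsPBlock M B) {χ : IrrCharacter G} (hχ : χ ∈ B)
    (h0 : blockHeight p B (χ : G → ℂ) = 0) {y : G} (hy : IsDefectClass M B y) {x : G}
    (hc : Commute x y) (hx : ∃ k : ℕ, orderOf x = p ^ k) :
    ¬ MemLocalIdeal M ((χ : G → ℂ) (x * y)) := by
  have := hM.2.1
  rw [memLocalIdeal_congr (char_mul_sub_memLocalIdeal hM (irr_isCharacter χ.2) hc hx),
    ← memLocalIdeal_centralChar_iff_of_height_zero hM hχ h0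
      (factorization_card_centralizer_of_isDefectClass hM hB hy)]
  exact hy.2.2 χ hχ

/-- For `x` in the centre of a Sylow `p`-subgroup of `C(y)`, `y` in a defect class of `B`,
the central character of `B` at `x * y` is a unit. -/
theorem not_memLocalIdeal_centralChar_mul_of_isDefectClass (hM : IsPModular p M)
    (hB : IsPBlock M B) {χ : IrrCharacter G} (hχ : χ ∈ B) {y : G} (hy : IsDefectClass M B y)
    {D : Subgroup G} (hD : IsSylowIn p D (Subgroup.centralizer ({y} : Set G))) {x : G}
    (hx : x ∈ D) (hxc : x ∈ Subgroup.centralizer (D : Set G)) :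
    ¬ MemLocalIdeal M (centralChar (χ : G → ℂ) (x * y)) := by
  have := hM.2.1
  have : Fact p.Prime := ⟨hM.1⟩
  obtain ⟨ψ, hψ, h0⟩ := exists_blockHeight_eq_zero (p := p) (block_nonempty hB)
  have hc : Commute x y := mem_centralizer_singleton_iff_commute.1 (hD.le hx)
  have hxp := exists_orderOf_eq_pow_of_mem hD.isPGroup hx
  have hy' := not_dvd_orderOf_of_isDefectClass hM hB hy
  have hD' : IsSylowIn p D (Subgroup.centralizer ({x * y} : Set G)) := by
    refine hD.of_le ?_ ?_
    · rw [centralizer_mul_ppart hc hxp hy']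
      exact le_inf (le_centralizer_singleton_iff.2 hxc) hD.le
    · rw [centralizer_mul_ppart hc hxp hy']
      exact inf_le_right
  have h1 : (Nat.card (Subgroup.centralizer ({x * y} : Set G))).factorization p =
      blockDefect p B := by
    have h2 := hD'.card_eq
    rw [card_defectGroup_eq_pow hM hB (isDefectGroup_of_isSylowIn hy hD)] at h2
    exact (Nat.pow_right_injective hM.1.two_le h2).symm
  rw [memLocalIdeal_congr (sameBlock_of_mem hB hχ hψ _),
    memLocalIdeal_centralChar_iff_of_height_zero hM hψ h0 h1]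
  exact not_memLocalIdeal_of_height_zero_of_isDefectClass hM hB hψ h0 hy hc hxp

/-- A character which does not vanish at `g` has a defect group containing the `p`-part
of `g`. -/
theorem exists_conj_mem_defectGroup_of_ne_zero (hM : IsPModular p M) (hB : IsPBlock M B)
    {D : Subgroup G} (hD : IsDefectGroup p M B D) {χ : IrrCharacter G} (hχ : χ ∈ B) {g x : G}
    (hx : IsPPart p g x) (hg : (χ : G → ℂ) g ≠ 0) : ∃ c : G, c * x * c⁻¹ ∈ D := by
  have := hM.2.1
  have : Fact p.Prime := ⟨hM.1⟩
  by_contra h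
  refine hg (irr_eq_zero_of_blockCoeff_mem hM (memLocalRing_blockCoeff hB) hx
    (fun c hc => ?_) hχ)
  by_contra hc'
  have hle : Subgroup.zpowers x ≤ Subgroup.centralizer ({c} : Set G) := by
    rw [Subgroup.zpowers_le, mem_centralizer_singleton_iff_commute]
    exact (mem_centralizer_singleton_iff_commute.1 hc).symm
  obtain ⟨t, ht⟩ := exists_conj_le_of_co_eK_ne_zero hM hB hD ((co_eK_ne_zero_iff hB c).2 hc')
    (isPGroup_zpowers_of_orderOf (ppart_orderOf hx)) hle
  exact h ⟨t, ht ⟨x, Subgroup.mem_zpowers x, rfl⟩⟩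

theorem exists_isDefectGroup_mem_of_ne_zero (hM : IsPModular p M) (hB : IsPBlock M B)
    {χ : IrrCharacter G} (hχ : χ ∈ B) {g x : G}
    (hx : IsPPart p g x) (hg : (χ : G → ℂ) g ≠ 0) : ∃ D, IsDefectGroup p M B D ∧ x ∈ D := by
  have := hM.2.1
  obtain ⟨D, hD⟩ := exists_isDefectGroup p hB
  obtain ⟨c, hc⟩ := exists_conj_mem_defectGroup_of_ne_zero hM hB hD hχ hx hg
  refine ⟨_, isDefectGroup_map_conj hD c⁻¹, _, hc, ?_⟩
  simp [mul_assoc]

theorem mem_defectGroup_of_ne_zero_of_normal (hM : IsPModular p M) (hB : IsPBlock M B)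
    {D : Subgroup G} [hN : D.Normal] (hD : IsDefectGroup p M B D) {χ : IrrCharacter G}
    (hχ : χ ∈ B) {g x : G} (hx : IsPPart p g x) (hg : (χ : G → ℂ) g ≠ 0) : x ∈ D := by
  obtain ⟨c, hc⟩ := exists_conj_mem_defectGroup_of_ne_zero hM hB hD hχ hx hg
  simpa [mul_assoc] using hN.conj_mem _ hc c⁻¹

section Root

variable [M.IsMaximal] [Fact p.Prime] {H : Type*} [Group H] [Finite H]

/-- A root of `B` under the Brauer homomorphism for a subgroup `P` of a defect group. -/
theorem exists_root_br (hM : IsPModular p M) (hB : IsPBlock M B) {χ : IrrCharacter G}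
    (hχ : χ ∈ B) {D P : Subgroup G} (hD : IsDefectGroup p M B D) (hPD : P ≤ D) {φ : H →* G}
    (hs : IsBrauerSetup p P φ) :
    ∃ ξ : IrrCharacter H, ∀ z, lamK M ξ (ZA.br (kM_natCast_p hM) hs z) = lamK M χ z := by
  have h0 : ZA.br (kM_natCast_p hM) hs (eK M B) ≠ 0 :=
    (br_eK_ne_zero_iff hM hB hD hs).2 ⟨1, by rwa [map_conj_one]⟩
  obtain ⟨ξ, hξ⟩ := exists_lamK_eq_one ((isIdempotentElem_eK hB).map _) h0
  have h1 := eq_lamK_of_eK_ne_zero ((lamK M ξ).comp (ZA.br (kM_natCast_p hM) hs)) hB hχ
    (by rw [AlgHom.comp_apply, hξ]; exact one_ne_zero)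
  exact ⟨ξ, fun z => by rw [← h1]; rfl⟩

/-- If `λ_B(K) ≠ 0` and `P` is a defect group of `B` then `K` contains an element
centralizing `P` with `p`-part in `P`. -/
theorem exists_isConj_centralizer_ppart_mem (hM : IsPModular p M) (hB : IsPBlock M B)
    {χ : IrrCharacter G} (hχ : χ ∈ B) {P : Subgroup G} (hP : IsDefectGroup p M B P) {g : G}
    (hg : lamK M χ (ZA.cls _ g) ≠ 0) :
    ∃ x : G, IsConj g x ∧ x ∈ Subgroup.centralizer (P : Set G) ∧
      ∀ z : G, IsPPart p x z → z ∈ P := by
  have hPp := isPGroup_of_isDefectGroup hP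
  set C := Subgroup.centralizer (P : Set G) with hC
  obtain ⟨ξ, hξ⟩ := exists_root_br hM hB hχ hP le_rfl (isBrauerSetup_centralizer hPp)
  rw [← hξ] at hg
  obtain ⟨h, hh, hh'⟩ := ZA.exists_co_ne_zero_of_linearMap (lamK M ξ).toLinearMap hg
  rw [ZA.co_br_ne_zero_iff] at hh
  refine ⟨h, ZA.isConj_of_co_cls_ne_zero hh.2, h.2, fun z hz => ?_⟩
  have hzC : z ∈ C := ppart_mem hz h.2
  have hz' : IsPPart p h (⟨z, hzC⟩ : C) := ppart_coe_iff.1 hz
  have hb := isPBlock_blockOf (M := M) ξ
  have hξh : (ξ : C → ℂ) h ≠ 0 := by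
    intro h0
    apply hh'
    rw [AlgHom.toLinearMap_apply, lamK_cls, centralChar, h0, mul_zero, zero_div, red_zero]
  obtain ⟨E, hE, hzE⟩ := exists_isDefectGroup_mem_of_ne_zero hM hb (self_mem_blockOf ξ) hz' hξh
  obtain ⟨c, hc, hc'⟩ := exists_co_ne_zero_centralizer_defect hM hb (self_mem_blockOf ξ) hE
    (z := ZA.br (kM_natCast_p hM) (isBrauerSetup_centralizer hPp) (eK M B))
    (by rw [hξ, lamK_eK_of_mem hB hχ]; exact one_ne_zero)
  rw [ZA.co_br_ne_zero_iff] at hc'
  have hQ : IsPGroup p (Subgroup.zpowers z ⊔ P : Subgroup G) :=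
    (isPGroup_zpowers_of_orderOf (ppart_orderOf hz)).to_sup_of_normal_right' hPp
      ((Subgroup.zpowers_le.2 hzC).trans (centralizer_le_normalizer' P))
  have hQc : Subgroup.zpowers z ⊔ P ≤ Subgroup.centralizer ({(c : G)} : Set G) := by
    refine sup_le ?_ (le_centralizer_singleton_iff.2 c.2)
    rw [Subgroup.zpowers_le, mem_centralizer_singleton_iff_commute]
    exact congrArg Subtype.val (hc _ hzE)
  obtain ⟨t, ht⟩ := exists_conj_le_of_co_eK_ne_zero hM hB hP hc'.2 hQ hQc
  have hcard := Subgroup.card_le_of_le ht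
  rw [card_map_conj] at hcard
  have heq : P = Subgroup.zpowers z ⊔ P := Subgroup.eq_of_le_of_card_ge le_sup_right hcard
  rw [heq]
  exact Subgroup.mem_sup_left (Subgroup.mem_zpowers z)

/-- A defect group of `b` is conjugate into a defect group of `b^G`. -/
theorem exists_conj_le_of_isInducedBlock (hM : IsPModular p M) {K : Subgroup G}
    {b : Set (IrrCharacter K)} (hind : IsInducedBlock M K b B) {D : Subgroup K}
    (hD : IsDefectGroup p M b D) {P : Subgroup G} (hP : IsDefectGroup p M B P) :
    ∃ x : G, (D.map K.subtype).map (MulAut.conj x).toMonoidHom ≤ P := by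
  obtain ⟨ξ, hξ⟩ := block_nonempty hind.1
  obtain ⟨χ, hχ⟩ := block_nonempty hind.2.1
  obtain ⟨c, hc, hc'⟩ := exists_co_ne_zero_centralizer_defect hM hind.1 hξ hD
    (z := ZA.res _ K.subtype (eK M B))
    (by rw [lamK_res_of_isInducedBlock hind hξ hχ, lamK_eK_of_mem hind.2.1 hχ]
        exact one_ne_zero)
  refine (exists_co_eK_ne_zero_iff hM hind.2.1 hP
    ((isPGroup_of_isDefectGroup hD).map _)).1 ⟨c, ?_, hc'⟩
  rintro _ ⟨d, hd, rfl⟩
  exact congrArg Subtype.val (hc d hd)

/-- If `b^G = B`, every element in the centre of a defect group of `B` is conjugate to an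
element of the centre of a defect group of `b`. -/
theorem exists_isConj_center_defect_of_isInducedBlock (hM : IsPModular p M) {K : Subgroup G}
    {b : Set (IrrCharacter K)} (hind : IsInducedBlock M K b B) {D : Subgroup K}
    (hD : IsDefectGroup p M b D) {P : Subgroup G} (hP : IsDefectGroup p M B P) {x : G}
    (hx : x ∈ P) (hxc : x ∈ Subgroup.centralizer (P : Set G)) :
    ∃ z : K, IsConj x (z : G) ∧ z ∈ D ∧ z ∈ Subgroup.centralizer (D : Set K) := by
  obtain ⟨ξ, hξ⟩ := block_nonempty hind.1
  obtain ⟨χ, hχ⟩ := block_nonempty hind.2.1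
  obtain ⟨y, hy, hS⟩ := isDefectGroup_iff.1 hP
  have h1 := (lamK_cls_ne_zero_iff χ _).2
    (not_memLocalIdeal_centralChar_mul_of_isDefectClass hM hind.2.1 hχ hy hS hx hxc)
  rw [← lamK_res_of_isInducedBlock hind hξ hχ] at h1
  obtain ⟨h, hh, hh'⟩ := ZA.exists_co_ne_zero_of_linearMap (lamK M ξ).toLinearMap h1
  obtain ⟨w, hw, hwc, hwp⟩ := exists_isConj_centralizer_ppart_mem hM hind.1 hξ hD hh'
  obtain ⟨z, hz⟩ := exists_isPPart p w
  have hc : Commute x y := mem_centralizer_singleton_iff_commute.1 (hS.le hx)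
  refine ⟨z, ppart_isConj (g := x * y) (h := (w : G)) ?_
    (isPPart_mul hc (exists_orderOf_eq_pow_of_mem hS.isPGroup hx)
      (not_dvd_orderOf_of_isDefectClass hM hind.2.1 hy)) (ppart_coe_iff.2 hz),
    hwp z hz, ppart_mem hz hwc⟩
  exact (ZA.isConj_of_co_cls_ne_zero hh).trans (K.subtype.map_isConj hw)

end Root

/-- A product of two central elements invariant under translation by a nontrivial
`p`-subgroup vanishes in characteristic `p`. -/
theorem ZA.mul_eq_zero_of_translation {R : Type*} [CommRing R] [Fact p.Prime]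
    (hp : (p : R) = 0) {Q : Subgroup G} (hQ : IsPGroup p Q) (hQ1 : Q ≠ ⊥) {w v : ZA R G}
    (hw : ∀ u ∈ Q, ∀ g, w.co (u * g) = w.co g) (hv : ∀ u ∈ Q, ∀ g, v.co (u * g) = v.co g) :
    w * v = 0 := by
  classical
  have := Fintype.ofFinite G
  refine ZA.ext' fun g => ?_
  rw [ZA.co_mul, ZA.co_zero, sum_eq_sum_fixedPoints hp hQ]
  · refine Finset.sum_eq_zero fun a ha => (hQ1 ?_).elim
    rw [Finset.mem_filter] at ha
    rw [eq_bot_iff]
    intro u hu
    have := ha.2 ⟨u, hu⟩
    rw [Subgroup.smul_def, smul_eq_mul, mul_eq_right] at this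
    exact this
  · intro u a
    rw [Subgroup.smul_def, smul_eq_mul, hw u u.2, mul_inv_rev, mul_assoc, v.co_mul_comm,
      mul_assoc, hv _ (Q.inv_mem u.2), v.co_mul_comm]

end CL.Blocks
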