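import Cfsg.Agent.Base
import Cfsg.Agent.Char.Exceptional

/-!
# Families of generalized characters with inner products `3 + δ`
-/

set_option autoImplicit false

namespace CL.Blocks

open Cfsg CL.Char
open scoped ComplexConjugate

variable {G : Type*} [Group G] [Fintype G]

/-- If a signed sum of two distinct irreducible characters is orthogonal to an irreducible
character `φ`, then both differ from `φ`. -/
theorem ne_of_classInner_add_eq_zero {e₁ e₂ : ℤ} (h₁ : e₁ = 1 ∨ e₁ = -1) (h₂ : e₂ = 1 ∨ e₂ = -1)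
    {a b φ : G → ℂ} (ha : IsIrrCharacter G a) (hb : IsIrrCharacter G b) (hab : a ≠ b)
    (h : classInner ((e₁ : ℂ) • a + (e₂ : ℂ) • b) φ = 0) : a ≠ φ ∧ b ≠ φ := by
  rw [classInner_add_left, classInner_smul_left, classInner_smul_left] at h
  constructor
  · rintro rfl
    rw [irr_inner_self ha, irr_inner_of_ne hb ha hab.symm] at h
    rcases h₁ with rfl | rfl <;> simp at h
  · rintro rfl
    rw [irr_inner_self hb, irr_inner_of_ne ha hb hab] at h
    rcases h₂ with rfl | rfl <;> simp at h

/-- At least five generalized characters of degree zero with inner products `3 + δᵢⱼ`, all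
containing the principal character with multiplicity `-1`, have three common constituents. -/
theorem exists_common_part_of_norm_four {ι : Type*} [Fintype ι] (hι : 5 ≤ Fintype.card ι)
    (θ : ι → G → ℂ) (hgen : ∀ i, IsGeneralizedCharacter G (θ i)) (hone : ∀ i, θ i 1 = 0)
    (hself : ∀ i, classInner (θ i) (θ i) = 4)
    (hne : ∀ i j, i ≠ j → classInner (θ i) (θ j) = 3)
    (htriv : ∀ i, classInner (θ i) (fun _ => 1) = -1) :
    ∃ (ε e₁ e₂ : ℤ) (a b : G → ℂ) (μ : ι → G → ℂ), (ε = 1 ∨ ε = -1) ∧ (e₁ = 1 ∨ e₁ = -1) ∧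
      (e₂ = 1 ∨ e₂ = -1) ∧ IsIrrCharacter G a ∧ IsIrrCharacter G b ∧
      (∀ i, IsIrrCharacter G (μ i)) ∧ a ≠ (fun _ => 1) ∧ b ≠ (fun _ => 1) ∧
      (∀ i g, θ i g = ε * μ i g + e₁ * a g + e₂ * b g - 1) ∧
      (∀ i, classInner (θ i) a = e₁) ∧ ∀ i, classInner (θ i) b = e₂ := by
  classical
  obtain ⟨ε', hε', μ, hμ, hinj, hD⟩ := exists_irr_family_of_diff (fun i j => θ i - θ j)
    (fun i j k => by abel) (fun i j => gen_sub (hgen i) (hgen j))
    (fun i j => by simp [hone])
    (fun i j hij => by
      rw [classInner_sub_left, classInner_sub_right, classInner_sub_right, hself, hself,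
        hne i j hij, hne j i hij.symm]; norm_num)
    (fun i j k hik hjk hij => by
      rw [classInner_sub_left, classInner_sub_right, classInner_sub_right, hself, hne i j hij,
        hne i k hik, hne k j hjk.symm]; norm_num)
  obtain ⟨ε, hε, rfl⟩ : ∃ ε : ℤ, (ε = 1 ∨ ε = -1) ∧ ε' = ε := by
    rcases hε' with rfl | rfl
    · exact ⟨1, Or.inl rfl, by simp⟩
    · exact ⟨-1, Or.inr rfl, by simp⟩
  have hε2 : (ε : ℂ) * ε = 1 := by rcases hε with rfl | rfl <;> simp
  have hε0 : (ε : ℂ) ≠ 0 := by rcases hε with rfl | rfl <;> simp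
  have : Nontrivial ι := Fintype.one_lt_card_iff_nontrivial.1 (by omega)
  obtain ⟨i₀⟩ : Nonempty ι := inferInstance
  set Θ : G → ℂ := θ i₀ - (ε : ℂ) • μ i₀ with hΘ
  have hθ : ∀ i, θ i = Θ + (ε : ℂ) • μ i := fun i => by
    have := hD i i₀
    simp only [smul_sub] at this
    rw [hΘ, ← sub_add_cancel (θ i) (θ i₀), this]; abel
  have hΘg : IsGeneralizedCharacter G Θ := gen_sub (hgen _) (gen_intCast_smul _ (gen_of_irr (hμ _)))
  -- the `μ i` are not principal
  have hμ1 : ∀ i, μ i ≠ fun _ => 1 := by
    intro i hi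
    obtain ⟨j, hj⟩ := exists_ne i
    have h1 := congrArg (fun f => classInner f (fun _ => 1)) (hD i j)
    simp only [classInner_sub_left, classInner_smul_left, htriv, sub_self] at h1
    rw [irr_inner_one (hμ j) (fun h => hj (hinj (h.trans hi.symm))), hi, irr_inner_self irr_one]
      at h1
    exact hε0 (by simpa using h1.symm)
  -- `Θ` has the same multiplicity at each `μ i`
  obtain ⟨c, hc⟩ := gen_inner_int hΘg (gen_of_irr (hμ i₀))
  have hcc : ∀ j, classInner Θ (μ j) = c := by
    intro j
    by_cases hj : j = i₀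
    · rw [hj, hc]
    have h1 : classInner (θ i₀) (θ i₀ - θ j) = 1 := by
      rw [classInner_sub_right, hself, hne _ _ (Ne.symm hj)]; norm_num
    rw [hD i₀ j, hθ i₀, classInner_smul_right, classInner_sub_right, classInner_add_left,
      classInner_add_left, classInner_smul_left, classInner_smul_left, irr_inner_self (hμ _),
      irr_inner_of_ne (hμ _) (hμ _) (hinj.ne (Ne.symm hj)), hc, map_intCast] at h1
    apply mul_left_cancel₀ hε0
    linear_combination hε2 - h1
  have hc0 : c = 0 := by
    obtain ⟨a, ha, -⟩ := gen_exists_eq_sum (hgen i₀)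
    have h1 := classInner_self_eq_sum_sq (gen_isClassFunction (hgen i₀)) ha
    rw [hself] at h1
    have h2 : ∑ χ, a χ ^ 2 = 4 := by exact_mod_cast h1.symm
    let f : ι → IrrCharacter G := fun i => ⟨μ i, hμ i⟩
    have hf : Function.Injective f := fun i j h => hinj (congrArg Subtype.val h)
    have h3 : ∑ χ ∈ insert (irrOne G) ((Finset.univ.erase i₀).image f), a χ ^ 2 ≤ 4 :=
      h2 ▸ Finset.sum_le_sum_of_subset_of_nonneg (Finset.subset_univ _) fun _ _ _ => sq_nonneg _
    rw [Finset.sum_insert, Finset.sum_image (fun i _ j _ h => hf h),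
      Finset.sum_congr rfl (g := fun _ => c ^ 2), Finset.sum_const, Finset.card_erase_of_mem
        (Finset.mem_univ _), Finset.card_univ, nsmul_eq_mul] at h3
    · have h4 : a (irrOne G) = -1 := by
        have := (ha (irrOne G)).symm.trans (htriv i₀)
        exact_mod_cast this
      rw [h4] at h3
      have h5 : (4 : ℤ) ≤ ((Fintype.card ι - 1 : ℕ) : ℤ) := by omega
      by_contra hc0
      have h6 : 1 ≤ c ^ 2 := by
        have := sq_pos_of_ne_zero hc0
        omega
      nlinarith
    · intro j hj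
      have h4 := ha (f j)
      rw [hθ i₀, classInner_add_left, classInner_smul_left, hcc,
        irr_inner_of_ne (hμ _) (hμ _) (hinj.ne (Finset.ne_of_mem_erase hj).symm)] at h4
      have h5 : c = a (f j) := by exact_mod_cast (by simpa using h4 : (c : ℂ) = a (f j))
      rw [h5]
    · simp only [Finset.mem_image, not_exists, not_and]
      intro j _ h
      exact hμ1 j (congrArg Subtype.val h)
  simp only [hc0, Int.cast_zero] at hcc
  have hΘ1 : classInner Θ (fun _ => 1) = -1 := by
    have := htriv i₀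
    rwa [hθ i₀, classInner_add_left, classInner_smul_left, irr_inner_one (hμ _) (hμ1 _), mul_zero,
      add_zero] at this
  have hΘΘ : classInner Θ Θ = 3 := by
    have := hself i₀
    rw [hθ i₀, classInner_add_left, classInner_add_right, classInner_add_right,
      classInner_smul_left, classInner_smul_left, classInner_smul_right, classInner_smul_right,
      gen_inner_comm (gen_of_irr (hμ _)) hΘg, hcc, irr_inner_self (hμ _), map_intCast] at this
    linear_combination this - hε2
  obtain ⟨e₁, e₂, a, b, h₁, h₂, ha, hb, hab, hΘ'⟩ := gen_norm_two (gen_add hΘg gen_one) (by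
    rw [classInner_add_left, classInner_add_right, classInner_add_right, hΘΘ, hΘ1,
      gen_inner_comm gen_one hΘg, hΘ1, irr_inner_self irr_one]; norm_num)
  obtain ⟨ha1, hb1⟩ := ne_of_classInner_add_eq_zero (φ := fun _ => 1) h₁ h₂ ha hb hab (by
    rw [← hΘ', classInner_add_left, hΘ1, irr_inner_self irr_one]; norm_num)
  have hab' : ∀ i, a ≠ μ i ∧ b ≠ μ i := fun i =>
    ne_of_classInner_add_eq_zero h₁ h₂ ha hb hab (by
      rw [← hΘ', classInner_add_left, hcc, irr_inner_of_ne irr_one (hμ i) (hμ1 i).symm, add_zero])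
  have hθ' : ∀ i, θ i = (ε : ℂ) • μ i + (e₁ : ℂ) • a + (e₂ : ℂ) • b - fun _ => 1 := fun i => by
    rw [hθ i, add_assoc, ← hΘ']; abel
  refine ⟨ε, e₁, e₂, a, b, μ, hε, h₁, h₂, ha, hb, hμ, ha1, hb1, fun i g => ?_, fun i => ?_,
    fun i => ?_⟩
  · rw [hθ' i]; simp
  · rw [hθ' i, classInner_sub_left, classInner_add_left, classInner_add_left, classInner_smul_left,
      classInner_smul_left, classInner_smul_left, irr_inner_self ha,
      irr_inner_of_ne (hμ i) ha (hab' i).1.symm, irr_inner_of_ne hb ha hab.symm,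
      irr_inner_of_ne irr_one ha ha1.symm]
    ring
  · rw [hθ' i, classInner_sub_left, classInner_add_left, classInner_add_left, classInner_smul_left,
      classInner_smul_left, classInner_smul_left, irr_inner_self hb,
      irr_inner_of_ne (hμ i) hb (hab' i).2.symm, irr_inner_of_ne ha hb hab,
      irr_inner_of_ne irr_one hb hb1.symm]
    ring

/-- The sum of an irreducible character over the products of `t` with its conjugates. -/
theorem sum_mul_conj_irr_comb {χ : G → ℂ} (hχ : IsIrrCharacter G χ) (t : G) :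
    ∑ x, χ (t * (x * t * x⁻¹)) = (Nat.card G : ℂ) * (χ t ^ 2 / χ 1) := by
  rw [irr_sum_mul_conj hχ]; ring

/-- The arithmetic at the end of Brauer's argument. -/
theorem eq_one_of_class_equation {x y : ℤ} (hx : (16 : ℤ) ∣ x - 1) (hy : (16 : ℤ) ∣ y - 1)
    (h : 9 * x * y = (1 + x + y) * (x * y + x + y)) : x = 1 := by
  obtain ⟨a, ha⟩ := hx
  obtain ⟨b, hb⟩ := hy
  obtain ⟨k, hk⟩ : ∃ k, k = a + b := ⟨_, rfl⟩
  have hs : x + y = 16 * k + 2 := by omega
  obtain ⟨q, hq⟩ : ∃ q, q = x * y := ⟨_, rfl⟩
  have h1 : (6 - 16 * k) * (q + 11 + 16 * k) = 72 := by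
    have h2 : 9 * q = (1 + (x + y)) * (q + (x + y)) := by rw [hq]; linear_combination h
    rw [hs] at h2
    linear_combination h2
  have h2 : 6 - 16 * k ∣ 72 := ⟨_, h1.symm⟩
  have h3 := Int.le_of_dvd (by norm_num) h2
  have h4 := Int.le_of_dvd (by norm_num) ((neg_dvd).2 h2)
  have h5 : -5 ≤ k := by omega
  have h6 : k ≤ 5 := by omega
  have h7 : k = 0 := by interval_cases k <;> omega
  subst h7
  have h8 : q = 1 := by omega
  have h9 : y = 2 - x := by omega
  rw [h9, h8] at hq
  nlinarith

end CL.Blocks
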