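import Cfsg.Agent.Base
import Cfsg.Agent.Blocks.AbelSyl
import Cfsg.Agent.Blocks.NormFour
import Cfsg.Agent.Char.Linear

/-!
# Abelian Sylow `2`-subgroups with an automizer of order three acting freely

The character-theoretic part of Brauer's theorem on homocyclic Sylow `2`-subgroups of rank two.
-/

set_option autoImplicit false
set_option linter.unusedSectionVars false

namespace CL.Blocks

open Cfsg CL.Char
open scoped ComplexConjugate

variable {G : Type*} [Group G] [Fintype G] {M : Ideal AlgInt}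

/-- The Sylow subgroup `P` is abelian, fusion in `P` is given by the fixed-point-free automorphism
`σ` of order three, and centralizers of nontrivial elements have normal `2`-complements. -/
structure CubeFusion (P : Sylow 2 G) (σ : (P : Subgroup G) →* (P : Subgroup G)) : Prop where
  comm : ∀ a b : (P : Subgroup G), a * b = b * a
  isConj : ∀ x : (P : Subgroup G), IsConj (x : G) (σ x : G)
  cube : ∀ x, σ (σ (σ x)) = x
  fpf : ∀ x, σ x = x → x = 1
  fusion : ∀ x y : (P : Subgroup G), IsConj (x : G) (y : G) → y = x ∨ y = σ x ∨ y = σ (σ x)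
  compl : ∀ x : (P : Subgroup G), x ≠ 1 →
    HasNormalPComplement 2 (Subgroup.centralizer ({(x : G)} : Set G))

namespace CubeFusion

variable {P : Sylow 2 G} {σ : (P : Subgroup G) →* (P : Subgroup G)}

theorem fpf₂ (h : CubeFusion P σ) {x : (P : Subgroup G)} (hx : σ (σ x) = x) : x = 1 :=
  h.fpf x (by rw [← h.cube (σ x), hx, hx])

theorem comp_cube (h : CubeFusion P σ) (lam : (P : Subgroup G) →* ℂˣ) :
    ((lam.comp σ).comp σ).comp σ = lam := by
  ext x
  simp [h.cube]

theorem dual_fpf (h : CubeFusion P σ) {lam : (P : Subgroup G) →* ℂˣ} (hl : lam.comp σ = lam) :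
    lam = 1 := by
  have hinj : Function.Injective fun x : (P : Subgroup G) => σ x * x⁻¹ := by
    intro x y hxy
    have hxy' : σ x * x⁻¹ = σ y * y⁻¹ := hxy
    have h1 : σ (y⁻¹ * x) = y⁻¹ * x := by
      rw [map_mul, map_inv, h.comm y⁻¹ x]
      calc (σ y)⁻¹ * σ x = (σ y)⁻¹ * (σ x * x⁻¹) * x := by group
        _ = y⁻¹ * x := by rw [hxy']; group
        _ = x * y⁻¹ := h.comm _ _
    exact (inv_mul_eq_one.1 (h.fpf _ h1)).symm
  ext x
  obtain ⟨y, rfl⟩ := Finite.surjective_of_injective hinj x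
  have := DFunLike.congr_fun hl y
  simp only [MonoidHom.comp_apply] at this
  simp [this]

theorem dual_fpf₂ (h : CubeFusion P σ) {lam : (P : Subgroup G) →* ℂˣ}
    (hl : (lam.comp σ).comp σ = lam) : lam = 1 :=
  h.dual_fpf (by rw [← h.comp_cube (lam.comp σ), hl, hl])

theorem comp_ne_one (h : CubeFusion P σ) {lam : (P : Subgroup G) →* ℂˣ} (hl : lam ≠ 1) :
    lam.comp σ ≠ 1 := fun h1 => hl (by rw [← h.comp_cube lam, h1]; rfl)

theorem le_centralizer (h : CubeFusion P σ) (x : (P : Subgroup G)) :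
    (P : Subgroup G) ≤ Subgroup.centralizer ({(x : G)} : Set G) := fun y hy =>
  mem_centralizer_singleton_iff_commute.2 (congrArg Subtype.val (h.comm ⟨y, hy⟩ x))

theorem theta_apply (h : CubeFusion P σ) (hM : IsPModular 2 M) {α : ↥(P : Subgroup G) → ℂ}
    (hα : α 1 = 0) (x : (P : Subgroup G)) :
    theta M (P : Subgroup G) α x = α x + α (σ x) + α (σ (σ x)) := by
  classical
  by_cases hx : x = 1
  · subst hx
    rw [theta_apply_of_not_dvd hM P.isPGroup' hα (by simp)]
    simp [hα]
  have h1 : σ x ≠ x := fun e => hx (h.fpf x e)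
  have h2 : σ (σ x) ≠ x := fun e => hx (h.fpf₂ e)
  have h3 : σ (σ x) ≠ σ x := fun e => h1 (by rw [h.fpf _ e, ← h.cube x, h.fpf _ e]; simp)
  rw [theta_apply_sylow hM P α x.2 (h.le_centralizer x) (h.compl x hx), ← Finset.sum_filter,
    show Finset.univ.filter (fun y : (P : Subgroup G) => IsConj (x : G) (y : G)) =
      {x, σ x, σ (σ x)} from ?_, Finset.sum_insert (by simp [h1.symm, h2.symm]),
    Finset.sum_pair h3.symm, add_assoc]
  ext y
  simp only [Finset.mem_filter, Finset.mem_univ, true_and, Finset.mem_insert, Finset.mem_singleton]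
  refine ⟨h.fusion x y, ?_⟩
  rintro (rfl | rfl | rfl)
  · exact IsConj.refl _
  · exact h.isConj x
  · exact (h.isConj x).trans (h.isConj _)

end CubeFusion

/-- The function `λ - 1`. -/
noncomputable def linSub {A : Type*} [Group A] (lam : A →* ℂˣ) : A → ℂ :=
  (fun x => (lam x : ℂ)) - fun _ => 1

theorem linSub_apply {A : Type*} [Group A] (lam : A →* ℂˣ) (x : A) :
    linSub lam x = (lam x : ℂ) - 1 := rfl

theorem linSub_one {A : Type*} [Group A] (lam : A →* ℂˣ) : linSub lam 1 = 0 := by
  simp [linSub_apply]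

theorem gen_linSub {A : Type*} [Group A] (lam : A →* ℂˣ) :
    IsGeneralizedCharacter A (linSub lam) :=
  gen_sub (gen_of_char (isCharacter_linear lam)) gen_one

theorem classInner_linear_one {A : Type*} [Group A] [Fintype A] {lam : A →* ℂˣ} (h : lam ≠ 1) :
    classInner (fun x => (lam x : ℂ)) (fun _ => 1) = 0 := by
  classical
  have := classInner_linear lam 1
  rw [if_neg h] at this
  exact this

theorem classInner_linSub_one {A : Type*} [Group A] [Fintype A] {lam : A →* ℂˣ} (h : lam ≠ 1) :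
    classInner (linSub lam) (fun _ => 1) = -1 := by
  rw [linSub, classInner_sub_left, classInner_linear_one h, irr_inner_self irr_one, zero_sub]

theorem classInner_linSub {A : Type*} [Group A] [Fintype A] {lam mu : A →* ℂˣ} (h : lam ≠ 1)
    (h' : mu ≠ 1) [Decidable (lam = mu)] :
    classInner (linSub lam) (linSub mu) = 1 + if lam = mu then 1 else 0 := by
  have h1 := classInner_linear lam mu
  rw [show linSub mu = (fun x => (mu x : ℂ)) - fun _ => 1 from rfl, classInner_sub_right,
    classInner_linSub_one h, linSub, classInner_sub_left, h1, ← conj_classInner,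
    classInner_linear_one h']
  split_ifs <;> simp

/-- A function on an abelian group having the same inner product `e` with all `λ - 1`. -/
theorem apply_of_classInner_linSub {A : Type*} [Group A] [Fintype A]
    (hA : ∀ a b : A, a * b = b * a) {f : A → ℂ} (hf : IsGeneralizedCharacter A f) {e : ℤ}
    (h : ∀ lam : A →* ℂˣ, lam ≠ 1 → classInner (linSub lam) f = e) :
    (∃ c : ℤ, f 1 = c * Nat.card A - e) ∧ ∀ x, x ≠ 1 → f x = -e := by
  classical
  have := Fintype.ofFinite (A →* ℂˣ)
  obtain ⟨c, hc⟩ := gen_inner_int hf gen_one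
  have h1 : ∀ lam : A →* ℂˣ, classInner f (fun x => (lam x : ℂ)) =
      c + e - if lam = 1 then e else 0 := by
    intro lam
    split_ifs with hl
    · subst hl
      simpa using hc
    · have h2 := h lam hl
      rw [linSub, classInner_sub_left, gen_inner_comm (gen_of_char (isCharacter_linear lam)) hf,
        gen_inner_comm gen_one hf, hc] at h2
      linear_combination h2
  have h2 : ∀ x, f x = (c + e) * (if x = 1 then (Nat.card A : ℂ) else 0) - e := by
    intro x
    conv_lhs => rw [eq_sum_linear_of_comm hA f]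
    simp only [Finset.sum_apply, Pi.smul_apply, smul_eq_mul, h1, sub_mul, Finset.sum_sub_distrib,
      ← Finset.mul_sum, sum_over_linear_of_comm hA]
    simp
  refine ⟨⟨c + e, ?_⟩, fun x hx => ?_⟩
  · rw [h2, if_pos rfl]; push_cast; ring
  · rw [h2, if_neg hx]; ring

namespace CubeFusion

variable {P : Sylow 2 G} {σ : (P : Subgroup G) →* (P : Subgroup G)}

theorem res_theta (h : CubeFusion P σ) (hM : IsPModular 2 M) (lam : (P : Subgroup G) →* ℂˣ) :
    (fun x : (P : Subgroup G) => theta M (P : Subgroup G) (linSub lam) x) =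
      linSub lam + linSub (lam.comp σ) + linSub ((lam.comp σ).comp σ) := by
  funext x
  rw [h.theta_apply hM (linSub_one lam)]
  rfl

open Classical in
theorem classInner_theta (h : CubeFusion P σ) (hM : IsPModular 2 M)
    {lam mu : (P : Subgroup G) →* ℂˣ} (hl : lam ≠ 1) (hm : mu ≠ 1) :
    classInner (theta M (P : Subgroup G) (linSub lam)) (theta M (P : Subgroup G) (linSub mu)) =
      if mu = lam ∨ mu = lam.comp σ ∨ mu = (lam.comp σ).comp σ then 4 else 3 := by
  have := Fintype.ofFinite (P : Subgroup G)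
  have h1 : lam.comp σ ≠ lam := fun e => hl (h.dual_fpf e)
  have h2 : (lam.comp σ).comp σ ≠ lam := fun e => hl (h.dual_fpf₂ e)
  have h3 : (lam.comp σ).comp σ ≠ lam.comp σ := fun e => h.comp_ne_one hl (h.dual_fpf e)
  rw [classInner_theta_theta, h.res_theta hM, classInner_add_left, classInner_add_left,
    classInner_linSub hl hm, classInner_linSub (h.comp_ne_one hl) hm,
    classInner_linSub (h.comp_ne_one (h.comp_ne_one hl)) hm]
  by_cases e1 : mu = lam
  · subst e1
    simp only [h1, h2, true_or, if_true, if_false]; norm_num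
  by_cases e2 : mu = lam.comp σ
  · subst e2
    simp only [h1.symm, h3, true_or, or_true, if_true, if_false]; norm_num
  by_cases e3 : mu = (lam.comp σ).comp σ
  · subst e3
    simp only [h2.symm, h3.symm, or_true, if_true, if_false]; norm_num
  · simp only [e1, e2, e3, Ne.symm e1, Ne.symm e2, Ne.symm e3, or_self, if_false]; norm_num

theorem theta_eq_iff (h : CubeFusion P σ) (hM : IsPModular 2 M)
    {lam mu : (P : Subgroup G) →* ℂˣ} (hl : lam ≠ 1) (hm : mu ≠ 1) :
    theta M (P : Subgroup G) (linSub lam) = theta M (P : Subgroup G) (linSub mu) ↔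
      mu = lam ∨ mu = lam.comp σ ∨ mu = (lam.comp σ).comp σ := by
  have h1 := h.classInner_theta hM hl hm
  have h2 := h.classInner_theta hM hl hl
  have h3 := h.classInner_theta hM hm hm
  rw [if_pos (Or.inl rfl)] at h2 h3
  constructor
  · intro e
    by_contra hc
    rw [if_neg hc, ← e, h2] at h1
    norm_num at h1
  · intro e
    rw [if_pos e] at h1
    rw [← sub_eq_zero, ← classInner_self_eq_zero, classInner_sub_left, classInner_sub_right,
      classInner_sub_right, h1, h2, h3,
      gen_inner_comm (gen_theta _ (gen_linSub mu)) (gen_theta _ (gen_linSub lam)), h1]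
    norm_num

/-- The common part of the generalized characters `theta (λ - 1)`. -/
theorem exists_common (h : CubeFusion P σ) (hM : IsPModular 2 M)
    (hcard : 16 ≤ Nat.card (P : Subgroup G)) (lam₀ : (P : Subgroup G) →* ℂˣ) (h₀ : lam₀ ≠ 1) :
    ∃ (ε e₁ e₂ : ℤ) (a b μ : G → ℂ), (ε = 1 ∨ ε = -1) ∧ (e₁ = 1 ∨ e₁ = -1) ∧
      (e₂ = 1 ∨ e₂ = -1) ∧ IsIrrCharacter G a ∧ IsIrrCharacter G b ∧
      IsIrrCharacter G μ ∧ a ≠ (fun _ => 1) ∧ b ≠ (fun _ => 1) ∧
      (∀ g, theta M (P : Subgroup G) (linSub lam₀) g = ε * μ g + e₁ * a g + e₂ * b g - 1) ∧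
      (∀ lam, lam ≠ 1 → classInner (theta M (P : Subgroup G) (linSub lam)) a = e₁) ∧
      ∀ lam, lam ≠ 1 → classInner (theta M (P : Subgroup G) (linSub lam)) b = e₂ := by
  classical
  have := hM.2.1
  have := Fintype.ofFinite (P : Subgroup G)
  have := Fintype.ofFinite ((P : Subgroup G) →* ℂˣ)
  let f : ((P : Subgroup G) →* ℂˣ) → G → ℂ := fun lam => theta M (P : Subgroup G) (linSub lam)
  let S : Finset (G → ℂ) := (Finset.univ.erase 1).image f
  have hS : ∀ i : S, ∃ lam, lam ≠ 1 ∧ (i : G → ℂ) = f lam := fun i => by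
    obtain ⟨lam, h1, h2⟩ := Finset.mem_image.1 i.2
    exact ⟨lam, Finset.ne_of_mem_erase h1, h2.symm⟩
  have hmem : ∀ lam, lam ≠ 1 → f lam ∈ S := fun lam hl =>
    Finset.mem_image_of_mem f (Finset.mem_erase.2 ⟨hl, Finset.mem_univ _⟩)
  have hS5 : 5 ≤ Fintype.card S := by
    have h1 := Finset.card_le_mul_card_image (f := f) (Finset.univ.erase 1) 3 (by
      intro i hi
      obtain ⟨lam, hl, rfl⟩ := hS ⟨i, hi⟩
      refine le_trans (Finset.card_le_card (t := {lam, lam.comp σ, (lam.comp σ).comp σ}) ?_)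
        Finset.card_le_three
      intro mu hmu
      obtain ⟨h2, h3⟩ := Finset.mem_filter.1 hmu
      simpa using (h.theta_eq_iff hM hl (Finset.ne_of_mem_erase h2)).1 h3.symm)
    rw [Finset.card_erase_of_mem (Finset.mem_univ _), Finset.card_univ, ← Nat.card_eq_fintype_card,
      card_linear_of_comm h.comm] at h1
    rw [Fintype.card_coe]
    change _ ≤ 3 * S.card at h1
    omega
  obtain ⟨ε, e₁, e₂, a, b, μ, hε, h₁, h₂, ha, hb, hμ, ha1, hb1, hθ, hia, hib⟩ :=
    exists_common_part_of_norm_four hS5 (fun i : S => (i : G → ℂ))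
      (fun i => by obtain ⟨lam, -, e⟩ := hS i; rw [e]; exact gen_theta _ (gen_linSub lam))
      (fun i => by
        obtain ⟨lam, -, e⟩ := hS i
        rw [e]; exact theta_apply_of_not_dvd hM P.isPGroup' (linSub_one lam) (by simp))
      (fun i => by
        obtain ⟨lam, hl, e⟩ := hS i
        rw [e, h.classInner_theta hM hl hl, if_pos (Or.inl rfl)])
      (fun i j hij => by
        obtain ⟨lam, hl, e⟩ := hS i
        obtain ⟨mu, hm, e'⟩ := hS j
        rw [e, e', h.classInner_theta hM hl hm, if_neg]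
        intro hc
        exact hij (Subtype.ext (e.trans (((h.theta_eq_iff hM hl hm).2 hc).trans e'.symm))))
      (fun i => by
        obtain ⟨lam, hl, e⟩ := hS i
        have h1 := classInner_theta_irr (M := M) (P : Subgroup G) (linSub lam) (irrOne G)
        rw [if_pos (irrOne_mem_principalBlock)] at h1
        rw [e]
        exact h1.trans (classInner_linSub_one hl))
  exact ⟨ε, e₁, e₂, a, b, μ ⟨_, hmem lam₀ h₀⟩, hε, h₁, h₂, ha, hb, hμ _, ha1, hb1,
    hθ ⟨_, hmem lam₀ h₀⟩, fun lam hl => hia ⟨_, hmem lam hl⟩, fun lam hl => hib ⟨_, hmem lam hl⟩⟩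

theorem values_of_classInner (h : CubeFusion P σ) {a : G → ℂ} (ha : IsIrrCharacter G a) {e : ℤ}
    (he : e = 1 ∨ e = -1) {lam₀ : (P : Subgroup G) →* ℂˣ} (h₀ : lam₀ ≠ 1)
    (hi : ∀ lam, lam ≠ 1 → classInner (theta M (P : Subgroup G) (linSub lam)) a = e) :
    (∃ x : ℤ, (Nat.card (P : Subgroup G) : ℤ) ∣ x - 1 ∧ e * a 1 = -x) ∧
      ∀ z ∈ (P : Subgroup G), z ≠ 1 → e * a z = -1 := by
  classical
  have := Fintype.ofFinite (P : Subgroup G)
  have he2 : (e : ℂ) * e = 1 := by rcases he with rfl | rfl <;> simp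
  have hB : (⟨a, ha⟩ : IrrCharacter G) ∈ principalBlock M G :=
    mem_principalBlock_of_classInner_theta (P : Subgroup G) (linSub lam₀) (by
      rw [show classInner _ _ = _ from hi lam₀ h₀]
      rcases he with rfl | rfl <;> simp)
  obtain ⟨⟨c, hc⟩, h2⟩ := apply_of_classInner_linSub h.comm
    (gen_restrict (gen_of_irr ha) (P : Subgroup G)) (e := e) (fun lam hl => by
      have h1 := classInner_theta_irr (M := M) (P : Subgroup G) (linSub lam) ⟨a, ha⟩
      rw [if_pos hB] at h1
      exact h1.symm.trans (hi lam hl))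
  refine ⟨⟨1 - e * c * Nat.card (P : Subgroup G), ⟨-(e * c), by ring⟩, ?_⟩, fun z hz hz1 => ?_⟩
  · have hc' : a 1 = _ := hc
    rw [hc']
    push_cast
    linear_combination -he2
  · have h3 : a z = -e := h2 ⟨z, hz⟩ (fun e => hz1 (congrArg Subtype.val e))
    rw [h3]
    linear_combination -he2

/-- If `λ` is trivial on involutions then `theta (λ - 1)` vanishes on elements conjugate to their
inverses. -/
theorem theta_eq_zero_of_isConj_inv (h : CubeFusion P σ) (hM : IsPModular 2 M)
    {lam : (P : Subgroup G) →* ℂˣ} (hl : ∀ x, x * x = 1 → lam x = 1) {g : G}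
    (hg : IsConj g g⁻¹) : theta M (P : Subgroup G) (linSub lam) g = 0 := by
  obtain ⟨z, hz⟩ := exists_isPPart (p := 2) g
  obtain ⟨k, hk⟩ := ppart_orderOf hz
  have h1 : IsPGroup 2 (Subgroup.zpowers z) := IsPGroup.of_card (by rw [Nat.card_zpowers, hk])
  obtain ⟨Q, hQ⟩ := h1.exists_le_sylow
  obtain ⟨c, rfl⟩ := MulAction.exists_smul_eq G Q P
  have hx : c * z * c⁻¹ ∈ ((c • Q : Sylow 2 G) : Subgroup G) :=
    (Subgroup.smul_mem_pointwise_smul_iff (a := MulAut.conj c)).2 (hQ (Subgroup.mem_zpowers z))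
  set x : ((c • Q : Sylow 2 G) : Subgroup G) := ⟨_, hx⟩ with hxdef
  have hz' : IsPPart 2 (c * g * c⁻¹) x := ppart_conj hz c
  rw [← isClassFunction_theta _ _ g c]
  by_cases hx1 : x = 1
  · rw [hx1] at hz'
    exact theta_apply_of_not_dvd hM (c • Q).isPGroup' (linSub_one lam) (isPPart_one_iff.1 hz')
  have hgc : IsConj g (c * g * c⁻¹) := isConj_iff.2 ⟨c, rfl⟩
  have hinv : IsConj (x : G) ((x⁻¹ : ((c • Q : Sylow 2 G) : Subgroup G)) : G) :=
    ppart_isConj (hgc.symm.trans (hg.trans (isConj_iff.2 ⟨c, by group⟩))) hz' (ppart_inv hz')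
  have hx2 : x * x = 1 := by
    rcases h.fusion _ _ hinv with e | e | e
    · exact mul_eq_one_iff_eq_inv.2 e.symm
    · exact absurd (h.fpf₂ (by rw [← e, map_inv, ← e, inv_inv])) hx1
    · refine absurd (h.fpf x ?_) hx1
      have e' : σ (σ (σ (σ x))) = x := by rw [← e, map_inv, map_inv, ← e, inv_inv]
      rwa [h.cube] at e'
  have hs : ∀ y : ((c • Q : Sylow 2 G) : Subgroup G), y * y = 1 → σ y * σ y = 1 := fun y hy => by
    rw [← map_mul, hy, map_one]
  rw [theta_apply_of_isPPart hM _ _ hz' (h.compl x hx1), h.theta_apply hM (linSub_one lam)]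
  simp [linSub_apply, hl x hx2, hl _ (hs _ hx2), hl _ (hs _ (hs _ hx2))]

/-- **Brauer.**  If `16` divides `|P|` and `P` is not elementary abelian, a nonprincipal linear
character has `P` in its kernel. -/
theorem exists_irr_trivial (h : CubeFusion P σ) (hcard : 16 ∣ Nat.card (P : Subgroup G))
    {u : (P : Subgroup G)} (hu : u * u ≠ 1) :
    ∃ a : G → ℂ, IsIrrCharacter G a ∧ a ≠ (fun _ => 1) ∧ a 1 = 1 ∧
      ∀ z ∈ (P : Subgroup G), a z = 1 := by
  obtain ⟨M, hM⟩ := exists_isPModular Nat.prime_two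
  obtain ⟨mu, hmu⟩ := exists_linear_apply_ne_one_of_comm h.comm hu
  have h₀ : mu * mu ≠ 1 := fun e => hmu (by rw [map_mul]; exact DFunLike.congr_fun e u)
  have hl : ∀ x, x * x = 1 → (mu * mu) x = 1 := fun x hx => by
    rw [MonoidHom.mul_apply, ← map_mul, hx, map_one]
  obtain ⟨t, ht⟩ := exists_prime_orderOf_dvd_card' (G := (P : Subgroup G)) 2
    (dvd_trans (by norm_num) hcard)
  have ht2 : (t : G) * t = 1 := by
    have := pow_orderOf_eq_one t
    rw [ht, pow_two] at this
    exact congrArg Subtype.val this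
  have ht1 : (t : G) ≠ 1 := fun e => by
    rw [show t = 1 from Subtype.ext e, orderOf_one] at ht
    omega
  have hti : (t : G)⁻¹ = t := inv_eq_of_mul_eq_one_right ht2
  obtain ⟨ε, e₁, e₂, a, b, μ, hε, h₁, h₂, ha, hb, hμ, ha1, -, hθ, hia, hib⟩ :=
    h.exists_common hM (Nat.le_of_dvd Nat.card_pos hcard) _ h₀
  obtain ⟨⟨x, hx, hx'⟩, hav⟩ := h.values_of_classInner ha h₁ h₀ hia
  obtain ⟨⟨y, hy, hy'⟩, hbv⟩ := h.values_of_classInner hb h₂ h₀ hib
  have hc16 : (16 : ℤ) ∣ (Nat.card (P : Subgroup G) : ℤ) := by exact_mod_cast hcard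
  have v1 := hθ 1
  have vt := hθ t
  rw [h.theta_eq_zero_of_isConj_inv hM hl (by simp), hx', hy'] at v1
  rw [h.theta_eq_zero_of_isConj_inv hM hl (by rw [hti]), hav t t.2 ht1, hbv t t.2 ht1] at vt
  have hsum : ∑ w : G, theta M (P : Subgroup G) (linSub (mu * mu)) (t * (w * t * w⁻¹)) = 0 := by
    refine Finset.sum_eq_zero fun w _ => h.theta_eq_zero_of_isConj_inv hM hl ?_
    refine isConj_iff.2 ⟨t, ?_⟩
    rw [← mul_assoc (t : G) t, ht2, one_mul, mul_inv_rev, mul_inv_rev, mul_inv_rev,
      inv_inv, hti, mul_assoc w]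
  simp only [hθ, Finset.sum_sub_distrib, Finset.sum_add_distrib, ← Finset.mul_sum,
    sum_mul_conj_irr_comb ha, sum_mul_conj_irr_comb hb, sum_mul_conj_irr_comb hμ, Finset.sum_const,
    Finset.card_univ, nsmul_eq_mul, mul_one, ← Nat.card_eq_fintype_card] at hsum
  have hε2 : (ε : ℂ) * ε = 1 := by rcases hε with rfl | rfl <;> simp
  have he1 : (e₁ : ℂ) * e₁ = 1 := by rcases h₁ with rfl | rfl <;> simp
  have he2 : (e₂ : ℂ) * e₂ = 1 := by rcases h₂ with rfl | rfl <;> simp
  have hμ1 : μ 1 = ε * (1 + x + y) := by linear_combination (-ε) * v1 - μ 1 * hε2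
  have hμt : μ t = ε * 3 := by linear_combination (-ε) * vt - μ t * hε2
  have ha1' : a 1 = -e₁ * x := by linear_combination e₁ * hx' - a 1 * he1
  have hb1' : b 1 = -e₂ * y := by linear_combination e₂ * hy' - b 1 * he2
  have hat : a t = -e₁ := by linear_combination e₁ * hav t t.2 ht1 - a t * he1
  have hbt : b t = -e₂ := by linear_combination e₂ * hbv t t.2 ht1 - b t * he2
  have n0 := irr_apply_one_ne_zero hμ
  have n1 := irr_apply_one_ne_zero ha
  have n2 := irr_apply_one_ne_zero hb
  have nG := natCard_cast_ne_zero G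
  have hx1 : x = 1 := by
    refine eq_one_of_class_equation (hc16.trans hx) (hc16.trans hy) ?_
    rw [hμ1] at n0
    rw [ha1'] at n1
    rw [hb1'] at n2
    rw [hμ1, hμt, ha1', hb1', hat, hbt] at hsum
    have m0 : (1 + x + y : ℂ) ≠ 0 := right_ne_zero_of_mul n0
    have m1 : (x : ℂ) ≠ 0 := right_ne_zero_of_mul n1
    have m2 : (y : ℂ) ≠ 0 := right_ne_zero_of_mul n2
    have key : (9 * x * y : ℂ) = (1 + x + y) * (x * y + x + y) := by
      apply mul_left_cancel₀ nG
      rcases hε with rfl | rfl <;> rcases h₁ with rfl | rfl <;> rcases h₂ with rfl | rfl <;>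
        (push_cast at hsum; field_simp at hsum; linear_combination hsum)
    exact_mod_cast key
  obtain ⟨n, hn0, hn⟩ := irr_apply_one ha
  have he : e₁ = -1 := by
    rcases h₁ with rfl | rfl
    · rw [hn, hx1] at hx'
      have : (n : ℤ) = -1 := by exact_mod_cast (by simpa using hx' : (n : ℂ) = -1)
      omega
    · rfl
  have ha11 : a 1 = 1 := by rw [ha1', he, hx1]; simp
  refine ⟨a, ha, ha1, ha11, fun z hz => ?_⟩
  by_cases hz1 : z = 1
  · rw [hz1, ha11]
  · have := hav z hz hz1
    rw [he] at this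
    simpa using this

end CubeFusion

end CL.Blocks
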