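import Cfsg.Agent.Blocks.Sharp
import Cfsg.Agent.Blocks.PPart
import Cfsg.Agent.Char.Values
import Cfsg.Agent.PLocal.Cores

/-!
# Kernels of blocks; the principal block of a group with a normal `p`-complement
-/

set_option linter.unusedSectionVars false

namespace CL.Blocks

open Cfsg CL.Char
open scoped MonoidAlgebra ComplexConjugate

variable {G : Type*} [Group G] [Finite G] {p : ℕ} {M : Ideal AlgInt}

theorem natCard_ne_zero_complex (K : Type*) [Group K] [Finite K] : (Nat.card K : ℂ) ≠ 0 :=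
  Nat.cast_ne_zero.2 Nat.card_pos.ne'

/-- The idempotent `e_N = |N|⁻¹ ∑_{n ∈ N} n`. -/
noncomputable def avgIdem (N : Subgroup G) : ℂ[G] := (Nat.card N : ℂ)⁻¹ • setSum ℂ (N : Set G)

theorem coeff_avgIdem (N : Subgroup G) (g : G) [Decidable (g ∈ N)] :
    (avgIdem N).coeff g = if g ∈ N then (Nat.card N : ℂ)⁻¹ else 0 := by
  rw [avgIdem, coeff_smul_apply']
  split_ifs with h
  · rw [coeff_setSum_of_mem (X := (N : Set G)) h, mul_one]
  · rw [coeff_setSum_of_notMem (X := (N : Set G)) h, mul_zero]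

theorem isCen_avgIdem (N : Subgroup G) [hN : N.Normal] : IsCen (avgIdem N) := by
  refine (isCen_setSum fun g h => ⟨fun h1 => ?_, fun h1 => hN.conj_mem g h1 h⟩).smul _
  have := hN.conj_mem _ h1 h⁻¹
  simpa [mul_assoc] using this

theorem avgIdem_mul_single (N : Subgroup G) {n : G} (hn : n ∈ N) :
    avgIdem N * MonoidAlgebra.single n 1 = avgIdem N := by
  classical
  refine alg_ext fun g => ?_
  rw [coeff_mul_single', mul_one, coeff_avgIdem, coeff_avgIdem]
  exact if_congr (N.mul_mem_cancel_right (N.inv_mem hn)) rfl rfl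

theorem single_mul_avgIdem (N : Subgroup G) {n : G} (hn : n ∈ N) :
    MonoidAlgebra.single n 1 * avgIdem N = avgIdem N := by
  classical
  refine alg_ext fun g => ?_
  rw [coeff_single_mul', one_mul, coeff_avgIdem, coeff_avgIdem]
  exact if_congr (N.mul_mem_cancel_left (N.inv_mem hn)) rfl rfl

theorem intCoeff_avgIdem (hM : IsPModular p M) {N : Subgroup G} (hN : ¬ p ∣ Nat.card N) :
    IntCoeff M (avgIdem N) := by
  have := hM.2.1
  exact IntCoeff.smul (memLocalRing_inv_natCast hM hN) (intCoeff_setSum _)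

theorem om_avgIdem_of_forall {N : Subgroup G} {χ : G → ℂ} (h1 : χ 1 ≠ 0)
    (h : ∀ n ∈ N, χ n = χ 1) : om χ (avgIdem N) = 1 := by
  rw [avgIdem, om_smul, om_setSum, finsum_mem_congr rfl (g := fun _ => (1 : ℂ))
    (fun x hx => by rw [h x hx, div_self h1]),
    finsum_mem_eq_finite_toFinset_sum _ (Set.toFinite _), Finset.sum_const, nsmul_eq_mul,
    mul_one, ← Set.ncard_eq_toFinset_card, ← Nat.card_coe_set_eq]
  exact inv_mul_cancel₀ (natCard_ne_zero_complex N)

theorem apply_eq_of_om_avgIdem_ne_zero {N : Subgroup G} [N.Normal] {χ : IrrCharacter G}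
    (h : om (χ : G → ℂ) (avgIdem N) ≠ 0) {n : G} (hn : n ∈ N) :
    (χ : G → ℂ) n = (χ : G → ℂ) 1 := by
  have h1 := ev_mul_of_isCen χ (isCen_avgIdem N) (MonoidAlgebra.single n 1)
  rw [avgIdem_mul_single N hn, ev_single, one_mul, ev_eq_om_mul] at h1
  exact (mul_left_cancel₀ h h1).symm

/-- `e_N` is the sum of the central idempotents of the characters with `N` in their kernel. -/
theorem avgIdem_eq_idem (N : Subgroup G) [N.Normal] :
    avgIdem N = idem {χ : IrrCharacter G | ∀ n ∈ N, (χ : G → ℂ) n = (χ : G → ℂ) 1} := by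
  refine eq_idem_of_om (isCen_avgIdem N)
    (fun χ hχ => om_avgIdem_of_forall (irr_apply_one_ne_zero χ.2) hχ) fun χ hχ => ?_
  by_contra h
  exact hχ fun n hn => apply_eq_of_om_avgIdem_ne_zero h hn

/-- A normal `p'`-subgroup in the kernel of `χ` is in the kernel of every member of its block. -/
theorem apply_eq_of_sameBlock (hM : IsPModular p M) {N : Subgroup G} [N.Normal]
    (hN : ¬ p ∣ Nat.card N) {χ ψ : IrrCharacter G} (h : SameBlock M (χ : G → ℂ) (ψ : G → ℂ))
    (hχ : ∀ n ∈ N, (χ : G → ℂ) n = (χ : G → ℂ) 1) {n : G} (hn : n ∈ N) :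
    (ψ : G → ℂ) n = (ψ : G → ℂ) 1 := by
  have := hM.2.1
  have h1 := intCoeff_avgIdem hM hN
  rw [avgIdem_eq_idem] at h1
  exact blockOf_subset_of_intCoeff h1 (χ := χ) hχ h n hn

theorem apply_eq_of_mem_principalBlock (hM : IsPModular p M) {N : Subgroup G} [N.Normal]
    (hN : ¬ p ∣ Nat.card N) {ψ : IrrCharacter G} (h : ψ ∈ principalBlock M G) {n : G}
    (hn : n ∈ N) : (ψ : G → ℂ) n = (ψ : G → ℂ) 1 :=
  apply_eq_of_sameBlock hM hN (χ := irrOne G) h (fun _ _ => rfl) hn

theorem not_dvd_card_pPrimeCore' (hp : p.Prime) : ¬ p ∣ Nat.card (pPrimeCore p G) :=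
  (Nat.Prime.coprime_iff_not_dvd hp).1 (CL.PL.pPrimeCore_coprime p G).symm

theorem apply_eq_of_mem_pPrimeCore (hM : IsPModular p M) {ψ : IrrCharacter G}
    (h : ψ ∈ principalBlock M G) {n : G} (hn : n ∈ pPrimeCore p G) :
    (ψ : G → ℂ) n = (ψ : G → ℂ) 1 := by
  have := CL.PL.pPrimeCore_characteristic p G
  exact apply_eq_of_mem_principalBlock hM (not_dvd_card_pPrimeCore' hM.1) h hn

/-- The kernel of a set of irreducible characters, as a subgroup. -/
def blockKerSub (B : Set (IrrCharacter G)) : Subgroup G := ⨅ χ ∈ B, charKer (χ : G → ℂ)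

theorem mem_blockKerSub {B : Set (IrrCharacter G)} {g : G} :
    g ∈ blockKerSub B ↔ ∀ χ ∈ B, (χ : G → ℂ) g = (χ : G → ℂ) 1 := by
  simp only [blockKerSub, Subgroup.mem_iInf, char_mem_charKer_iff (irr_isCharacter (Subtype.prop _))]

theorem coe_blockKerSub (B : Set (IrrCharacter G)) : (blockKerSub B : Set G) = blockKer B :=
  Set.ext fun _ => mem_blockKerSub

theorem blockKerSub_normal (B : Set (IrrCharacter G)) : (blockKerSub B).Normal :=
  ⟨fun g hg h => mem_blockKerSub.2 fun χ hχ =>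
    (irr_isClassFunction χ.2 g h).trans (mem_blockKerSub.1 hg χ hχ)⟩

theorem card_mul_blockCoeff_one (A : Set (IrrCharacter G)) :
    (Nat.card G : ℂ) * blockCoeff A 1 =
      ((∑ᶠ χ ∈ A, charDegree (χ : G → ℂ) ^ 2 : ℕ) : ℂ) := by
  classical
  rw [blockCoeff_eq_sum, ← mul_assoc, mul_inv_cancel₀ (natCard_ne_zero_complex G), one_mul,
    finsum_mem_irr_eq_sum]
  push_cast
  refine Finset.sum_congr rfl fun χ _ => ?_
  rw [inv_one, cast_charDegree, sq]

theorem blockCoeff_one_ne_zero {A : Set (IrrCharacter G)} (hA : A.Nonempty) :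
    blockCoeff A 1 ≠ 0 := by
  classical
  intro h
  have h1 := card_mul_blockCoeff_one A
  rw [h, mul_zero, eq_comm, Nat.cast_eq_zero, finsum_mem_irr_eq_sum, Finset.sum_eq_zero_iff] at h1
  obtain ⟨χ, hχ⟩ := hA
  have h2 := h1 χ (Finset.mem_univ χ)
  rw [if_pos hχ] at h2
  exact (pow_pos (charDegree_pos χ) 2).ne' h2

theorem blockCoeff_eq_of_mem_blockKerSub {A : Set (IrrCharacter G)} {g : G}
    (hg : g ∈ blockKerSub A) : blockCoeff A g = blockCoeff A 1 := by
  unfold blockCoeff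
  congr 1
  exact finsum_mem_congr rfl fun χ hχ => by rw [mem_blockKerSub.1 hg χ hχ]

/-- The kernel of a block is a `p'`-group. -/
theorem not_dvd_card_blockKerSub (hM : IsPModular p M) {B : Set (IrrCharacter G)}
    (hB : IsPBlock M B) : ¬ p ∣ Nat.card (blockKerSub B) := by
  have := hM.2.1
  have : Fact p.Prime := ⟨hM.1⟩
  intro h
  obtain ⟨y, hy⟩ := exists_prime_orderOf_dvd_card' p h
  have h1 := blockCoeff_eq_zero_of_dvd hM (memLocalRing_blockCoeff hB) (y := (y : G))
    (by rw [Subgroup.orderOf_coe, hy])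
  rw [blockCoeff_eq_of_mem_blockKerSub y.2] at h1
  exact blockCoeff_one_ne_zero (block_nonempty hB) h1

theorem le_blockKerSub (hM : IsPModular p M) {B : Set (IrrCharacter G)} (hB : IsPBlock M B)
    {χ : IrrCharacter G} (hχ : χ ∈ B) {N : Subgroup G} [N.Normal] (hN : ¬ p ∣ Nat.card N)
    (h : ∀ n ∈ N, (χ : G → ℂ) n = (χ : G → ℂ) 1) : N ≤ blockKerSub B := by
  have := hM.2.1
  exact fun n hn => mem_blockKerSub.2 fun ψ hψ =>
    apply_eq_of_sameBlock hM hN (sameBlock_of_mem hB hχ hψ) h hn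

/-- The kernel of the principal block is `O_{p'}(G)`. -/
theorem blockKerSub_principalBlock (hM : IsPModular p M) :
    blockKerSub (principalBlock M G) = pPrimeCore p G := by
  have := hM.2.1
  refine le_antisymm (CL.PL.le_pPrimeCore (blockKerSub_normal _) ?_) fun n hn =>
    mem_blockKerSub.2 fun χ hχ => apply_eq_of_mem_pPrimeCore hM hχ hn
  exact ((Nat.Prime.coprime_iff_not_dvd hM.1).2
    (not_dvd_card_blockKerSub hM isPBlock_principalBlock)).symm

/-- With a normal `p`-complement `N`, the `p`-regular elements are the elements of `N`. -/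
theorem not_dvd_orderOf_iff_mem [Fact p.Prime] {N : Subgroup G} [N.Normal]
    (hN : ¬ p ∣ Nat.card N) (hidx : ∃ k : ℕ, N.index = p ^ k) {x : G} :
    ¬ p ∣ orderOf x ↔ x ∈ N := by
  constructor
  · intro hx
    obtain ⟨k, hk⟩ := hidx
    have h1 : orderOf (QuotientGroup.mk' N x) ∣ p ^ k := hk ▸ orderOf_dvd_natCard _
    obtain ⟨j, -, hj⟩ := (Nat.dvd_prime_pow Fact.out).1 h1
    exact (QuotientGroup.eq_one_iff x).1 (eq_one_of_orderOf_pow_of_not_dvd ⟨j, hj⟩
      (not_dvd_orderOf_map (QuotientGroup.mk' N) hx))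
  · intro hx h
    exact hN (h.trans (N.orderOf_dvd_natCard hx))

/-- The principal block of a group with a normal `p`-complement `N` is `Irr(G/N)`. -/
theorem principalBlock_eq_of_normal_compl (hM : IsPModular p M) {N : Subgroup G} [N.Normal]
    (hN : ¬ p ∣ Nat.card N) (hidx : ∃ k : ℕ, N.index = p ^ k) :
    principalBlock M G = {χ : IrrCharacter G | ∀ n ∈ N, (χ : G → ℂ) n = (χ : G → ℂ) 1} := by
  have : Fact p.Prime := ⟨hM.1⟩
  ext χ
  refine ⟨fun h n hn => apply_eq_of_mem_principalBlock hM hN h hn, fun h => ?_⟩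
  rw [mem_principalBlock_iff hM]
  have h1 : {x : G | ¬ p ∣ orderOf x} = (N : Set G) :=
    Set.ext fun x => not_dvd_orderOf_iff_mem hN hidx
  have h2 := om_avgIdem_of_forall (irr_apply_one_ne_zero χ.2) h
  rw [h1, ← ev_setSum]
  intro h3
  rw [avgIdem, om_smul, om, h3, zero_div, mul_zero] at h2
  exact zero_ne_one h2

theorem idem_principalBlock_of_normal_compl (hM : IsPModular p M) {N : Subgroup G} [N.Normal]
    (hN : ¬ p ∣ Nat.card N) (hidx : ∃ k : ℕ, N.index = p ^ k) :
    idem (principalBlock M G) = avgIdem N := by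
  rw [principalBlock_eq_of_normal_compl hM hN hidx, avgIdem_eq_idem]

/-- `∑ χ(1)²` over the characters with `N` in their kernel is `|G : N|`. -/
theorem finsum_charDegree_sq_of_normal (N : Subgroup G) [N.Normal] :
    ∑ᶠ χ ∈ {χ : IrrCharacter G | ∀ n ∈ N, (χ : G → ℂ) n = (χ : G → ℂ) 1},
      charDegree (χ : G → ℂ) ^ 2 = N.index := by
  classical
  have h := card_mul_blockCoeff_one
    {χ : IrrCharacter G | ∀ n ∈ N, (χ : G → ℂ) n = (χ : G → ℂ) 1}
  rw [← coeff_idem, ← avgIdem_eq_idem, coeff_avgIdem, if_pos N.one_mem, ← N.index_mul_card,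
    Nat.cast_mul, mul_assoc, mul_inv_cancel₀ (natCard_ne_zero_complex N), mul_one] at h
  exact_mod_cast h.symm

end CL.Blocks
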