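import Cfsg.Agent.Base
import Cfsg.Agent.Solv.PiCore
import Cfsg.Agent.Transfer.PCompl
import Cfsg.Agent.Invol.Dihedral
import Cfsg.Agent.Char.Values
import Cfsg.Agent.Char.Orth

/-!
# Group-theoretic reductions for the Z*-theorem
-/

set_option autoImplicit false

open Cfsg Subgroup

namespace CL.ZStar

open CL.Invol

variable {G : Type*} [Group G]

/-- `u` is an involution or the identity and every product `u * u ^ g` has odd order. -/
def OddIso (u : G) : Prop := u * u = 1 ∧ ∀ g : G, Odd (orderOf (u * (g * u * g⁻¹)))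

theorem eq_one_of_odd_of_mul_self {c : G} (h : Odd (orderOf c)) (h2 : c * c = 1) : c = 1 := by
  have h3 : orderOf c ∣ 2 := orderOf_dvd_of_pow_eq_one (by rw [pow_two, h2])
  rcases (Nat.dvd_prime Nat.prime_two).mp h3 with h4 | h4
  · exact orderOf_eq_one_iff.mp h4
  · rw [h4] at h; exact absurd h (by decide)

theorem OddIso.map {H : Type*} [Group H] [Finite G] {u : G} (h : OddIso u) (f : G →* H)
    (hf : Function.Surjective f) : OddIso (f u) := by
  refine ⟨by rw [← map_mul, h.1, map_one], fun g => ?_⟩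
  obtain ⟨g, rfl⟩ := hf g
  rw [← map_inv, ← map_mul, ← map_mul, ← map_mul]
  exact (h.2 g).of_dvd_nat (orderOf_map_dvd f _)

theorem OddIso.subgroup {u : G} (h : OddIso u) (H : Subgroup G) (hu : u ∈ H) :
    OddIso (⟨u, hu⟩ : H) := by
  refine ⟨Subtype.ext h.1, fun g => ?_⟩
  rw [← Subgroup.orderOf_coe]
  exact h.2 g

theorem OddIso.conj {u : G} (h : OddIso u) (a : G) : OddIso (a * u * a⁻¹) := by
  refine ⟨by rw [conj_mul, h.1]; group, fun g => ?_⟩
  have : a * u * a⁻¹ * (g * (a * u * a⁻¹) * g⁻¹) =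
      a * (u * ((a⁻¹ * g * a) * u * (a⁻¹ * g * a)⁻¹)) * a⁻¹ := by group
  rw [this, orderOf_conj]
  exact h.2 _

/-- a conjugate of `u` commuting with `u` is `u`. -/
theorem OddIso.eq_of_commute {u : G} (h : OddIso u) {y : G} (hy : IsConj u y) (hc : Commute u y) :
    y = u := by
  obtain ⟨g, rfl⟩ := isConj_iff.mp hy
  have h1 : (g * u * g⁻¹) * (g * u * g⁻¹) = 1 := (h.conj g).1
  have h2 : u * (g * u * g⁻¹) = 1 := by
    apply eq_one_of_odd_of_mul_self (h.2 g)
    calc u * (g * u * g⁻¹) * (u * (g * u * g⁻¹))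
        = u * ((g * u * g⁻¹) * u) * (g * u * g⁻¹) := by group
      _ = u * (u * (g * u * g⁻¹)) * (g * u * g⁻¹) := by rw [hc.eq]
      _ = (u * u) * ((g * u * g⁻¹) * (g * u * g⁻¹)) := by group
      _ = 1 := by rw [h.1, h1, one_mul]
  calc g * u * g⁻¹ = u * (u * (g * u * g⁻¹)) := by rw [← mul_assoc, h.1, one_mul]
    _ = u := by rw [h2, mul_one]

/-- An isolated involution has `u * u ^ g` of odd order for all `g`. -/
theorem oddIso_of_isolated [Finite G] {u : G} (hu : u * u = 1)
    (h : ∀ g : G, Commute u (g * u * g⁻¹) → g * u * g⁻¹ = u) : OddIso u := by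
  refine ⟨hu, fun g => ?_⟩
  by_contra hodd
  rw [Nat.not_odd_iff_even] at hodd
  set y := g * u * g⁻¹ with hy
  have hy2 : y * y = 1 := by rw [hy, conj_mul, hu]; group
  obtain ⟨hw2, hwu, hwy⟩ := central_involution_of_even hu hy2 hodd
  set c := u * y with hc
  set k := orderOf c / 2 with hk
  have hinv : u * c * u⁻¹ = c⁻¹ := left_conj_mul hu hy2
  have huc : u * c = y := by rw [hc, ← mul_assoc, hu, one_mul]
  have hne : u * c ^ k ≠ u := fun h1 => ne_one_of_orderOf_two hw2 (mul_eq_left.mp h1)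
  have hcomm : Commute u (u * c ^ k) := (Commute.refl u).mul_right hwu.symm
  have key : ∀ l : ℕ, (c ^ l)⁻¹ * u * c ^ l = u * c ^ (2 * l) := by
    intro l
    have h1 : u * c ^ l * u⁻¹ = (c ^ l)⁻¹ := conj_pow_of_inverts hinv l
    rw [← h1, two_mul, pow_add]; group
  apply hne
  rcases Nat.even_or_odd' k with ⟨l, hl | hl⟩
  · have h2 : u * c ^ k = (c ^ l)⁻¹ * u * ((c ^ l)⁻¹)⁻¹ := by rw [inv_inv, key l, hl]
    rw [h2] at hcomm ⊢
    exact h _ hcomm
  · have h1 : y * c ^ l * y⁻¹ = (c ^ l)⁻¹ := conj_pow_of_inverts (right_conj_mul hu hy2) l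
    have h2 : u * c ^ k = ((c ^ l)⁻¹ * g) * u * ((c ^ l)⁻¹ * g)⁻¹ := by
      calc u * c ^ k = (u * c) * c ^ l * c ^ l := by rw [hl]; group
        _ = (y * c ^ l * y⁻¹) * y * c ^ l := by rw [huc]; group
        _ = ((c ^ l)⁻¹ * g) * u * ((c ^ l)⁻¹ * g)⁻¹ := by rw [h1, hy]; group
    rw [h2] at hcomm ⊢
    exact h _ hcomm

/-- A group of order twice an odd number has a normal `2`-complement. -/
theorem hasNormalPComplement_two_of_card [Finite G] {m : ℕ} (hm : Odd m)
    (h : Nat.card G = 2 * m) : HasNormalPComplement 2 G := by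
  obtain ⟨P⟩ : Nonempty (Sylow 2 G) := inferInstance
  have hmin : (Nat.card G).minFac = 2 := by
    rw [h]; exact Nat.minFac_eq_two_iff _ |>.mpr ⟨m, rfl⟩
  have hP : Nat.card P = 2 := by
    rw [P.card_eq_multiplicity, h, Nat.factorization_mul two_ne_zero hm.pos.ne']
    have : m.factorization 2 = 0 := Nat.factorization_eq_zero_of_not_dvd hm.not_two_dvd_nat
    simp [this, Nat.Prime.factorization_self Nat.prime_two]
  have hc : IsCyclic P := isCyclic_of_prime_card hP
  exact ⟨P, _, inferInstance, IsCyclic.isComplement' hmin hc⟩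

/-- If `w` is a central involution, an element of odd order whose image lies in the odd core of
`G / ⟨w⟩` lies in the odd core of `G`. -/
theorem mem_pPrimeCore_of_quotient_central [Finite G] {w : G} (hw : orderOf w = 2)
    [(zpowers w).Normal] {c : G} (hc : Odd (orderOf c))
    (h : (QuotientGroup.mk c : G ⧸ zpowers w) ∈ pPrimeCore 2 (G ⧸ zpowers w)) :
    c ∈ pPrimeCore 2 G := by
  set N := (pPrimeCore 2 (G ⧸ zpowers w)).comap (QuotientGroup.mk' (zpowers w)) with hN
  have hcard : Nat.card N = 2 * Nat.card (pPrimeCore 2 (G ⧸ zpowers w)) := by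
    rw [hN, card_comap_of_surjective (QuotientGroup.mk'_surjective _), QuotientGroup.ker_mk',
      Nat.card_zpowers, hw]
  have hodd : Odd (Nat.card (pPrimeCore 2 (G ⧸ zpowers w))) :=
    Nat.coprime_two_right.mp (pPrimeCore_coprime 2 _)
  have hn := hasNormalPComplement_two_of_card hodd hcard
  have hcN : c ∈ N := h
  have h1 : (⟨c, hcN⟩ : N) ∈ pPrimeCore 2 N := by
    rw [← CL.Transfer.pResidual_eq_pPrimeCore hn]
    apply CL.Transfer.mem_pResidual_of_coprime
    rw [← Subgroup.orderOf_coe]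
    exact Nat.coprime_two_right.mpr hc
  exact map_subtype_pPrimeCore_le N ⟨_, h1, rfl⟩

/-- If there is a Klein four-subgroup, some involution other than `u` commutes with `u`. -/
theorem exists_commuting_involution [Finite G] {u : G} (h : OddIso u) (hu1 : u ≠ 1)
    (E : Subgroup G) (hE : IsKleinFour E) : ∃ v : G, orderOf v = 2 ∧ v ≠ u ∧ Commute u v := by
  have hu : orderOf u = 2 := orderOf_two_of_mul_self hu1 h.1
  have key : ∀ a : G, orderOf a = 2 → ¬ IsConj u a →
      ∃ v : G, orderOf v = 2 ∧ v ≠ u ∧ Commute u v := by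
    intro a ha hna
    rcases conj_or_exists_central h.1 (mul_self_of_orderOf_two ha) with ⟨k, hk⟩ | ⟨z, hz, hz2, hzu, -⟩
    · exact absurd (isConj_iff.mpr ⟨_, hk⟩) hna
    · refine ⟨z, hz2, ?_, hzu.symm⟩
      rintro rfl
      exact left_notMem_zpowers hu ha hz
  have h3 : 2 < Nat.card E := by rw [hE.card_four]; norm_num
  have := Fintype.ofFinite E
  rw [Nat.card_eq_fintype_card, Fintype.two_lt_card_iff] at h3
  obtain ⟨a, b, hab, ha1, hb1⟩ : ∃ a b : E, a ≠ b ∧ a ≠ 1 ∧ b ≠ 1 := by
    obtain ⟨a, b, c, hab, hac, hbc⟩ := h3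
    by_cases ha : a = 1
    · exact ⟨b, c, hbc, fun h => hab (ha.trans h.symm), fun h => hac (ha.trans h.symm)⟩
    · by_cases hb : b = 1
      · exact ⟨a, c, hac, ha, fun h => hbc (hb.trans h.symm)⟩
      · exact ⟨a, b, hab, ha, hb⟩
  have hsq : ∀ x : E, x ≠ 1 → orderOf (x : G) = 2 := fun x hx =>
    orderOf_two_of_mul_self (fun h => hx (Subtype.ext h))
      (congrArg Subtype.val (IsKleinFour.mul_self x))
  by_cases hua : IsConj u a
  · by_cases hub : IsConj u b
    · exfalso
      obtain ⟨g, hg⟩ := isConj_iff.mp hua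
      have h1 := (h.conj g).eq_of_commute (y := b) (by rw [hg]; exact hua.symm.trans hub) (by
        rw [hg]
        have h2 : a * b = b * a := by
          have h4 := IsKleinFour.mul_self (a * b)
          have h5 := IsKleinFour.mul_self a
          have h6 := IsKleinFour.mul_self b
          calc a * b = a * ((a * b) * (a * b)) * b := by rw [h4, mul_one]
            _ = (a * a) * (b * a) * (b * b) := by group
            _ = b * a := by rw [h5, h6]; group
        exact congrArg Subtype.val h2)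
      rw [hg] at h1
      exact hab (Subtype.ext h1.symm)
    · exact key b (hsq b hb1) hub
  · exact key a (hsq a ha1) hua

/-- The `2`-part of `u * y` for `y` conjugate to `v` is conjugate to `u * v`. -/
theorem exists_two_part [Finite G] {u v : G} (h : OddIso u) (hv : orderOf v = 2) (hvu : v ≠ u)
    (hc : Commute u v) {y : G} (hy : IsConj v y) :
    ∃ (w : G) (l : ℕ), orderOf w = 2 ∧ Commute w u ∧ Commute w y ∧ IsConj (u * v) w ∧
      u * y = w * ((u * (y * u * y⁻¹)) ^ l)⁻¹ := by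
  have hu := h.1
  have hy2 : y * y = 1 := mul_self_of_orderOf_two (by rw [← IsConj.orderOf_eq' hy, hv])
  have hnc : ¬ IsConj u y := fun h1 => hvu (h.eq_of_commute (h1.trans hy.symm) hc)
  have heven := even_orderOf_mul_of_not_isConj hu hy2 hnc
  obtain ⟨hw2, hwu, hwy⟩ := central_involution_of_even hu hy2 heven
  set c := u * y with hc'
  have hcc : u * (y * u * y⁻¹) = c ^ 2 := by
    rw [pow_two, hc', inv_eq_of_mul_eq_one_right hy2]; group
  have hodd := h.2 y
  rw [hcc] at hodd ⊢
  have hord : orderOf (c ^ 2) = orderOf c / 2 :=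
    orderOf_pow_of_dvd two_ne_zero (even_iff_two_dvd.mp heven)
  rw [hord] at hodd
  obtain ⟨l, hl⟩ := hodd
  rw [hl] at hw2 hwu hwy
  refine ⟨c ^ (2 * l + 1), l, hw2, hwu, hwy, ?_, by rw [← pow_mul]; group⟩
  have huc : u * c = y := by rw [hc', ← mul_assoc, hu, one_mul]
  have h1 : y * c ^ l * y⁻¹ = (c ^ l)⁻¹ := conj_pow_of_inverts (right_conj_mul hu hy2) l
  obtain ⟨g, hg⟩ := isConj_iff.mp hy
  set a := (c ^ l)⁻¹ * g with ha
  have h2 : u * c ^ (2 * l + 1) = a * v * a⁻¹ := by
    calc u * c ^ (2 * l + 1) = (u * c) * c ^ l * c ^ l := by group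
      _ = (y * c ^ l * y⁻¹) * y * c ^ l := by rw [huc]; group
      _ = a * v * a⁻¹ := by rw [h1, ← hg, ha]; group
  set u' := a⁻¹ * u * a⁻¹⁻¹ with hu'
  have hu'2 : u' * u' = 1 := (h.conj a⁻¹).1
  have hu'v : Commute u' v := by
    have h3 : Commute u (a * v * a⁻¹) := by
      rw [← h2]; exact (Commute.refl u).mul_right hwu.symm
    have h4 : u * (a * v * a⁻¹) = (a * v * a⁻¹) * u := h3
    change u' * v = v * u'
    calc u' * v = a⁻¹ * (u * (a * v * a⁻¹)) * a := by rw [hu']; group
      _ = v * u' := by rw [h4, hu']; group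
  obtain ⟨k, hk⟩ := exists_pow_conj_of_odd hu hu'2 (h.2 a⁻¹)
  set d := (u * u') ^ k with hd
  have hdv : Commute d v := (hc.mul_left hu'v).pow_left k
  refine isConj_iff.mpr ⟨a * d, ?_⟩
  calc a * d * (u * v) * (a * d)⁻¹ = a * ((d * u * d⁻¹) * (d * v * d⁻¹)) * a⁻¹ := by group
    _ = a * (u' * v) * a⁻¹ := by rw [hk, hdv.eq]; group
    _ = u * (a * v * a⁻¹) := by rw [hu']; group
    _ = c ^ (2 * l + 1) := by rw [← h2, ← mul_assoc, hu, one_mul]

/-- An irreducible character with kernel the whole group is principal. -/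
theorem irr_eq_one_of_charKer_eq_top [Finite G] {χ : G → ℂ} (hχ : IsIrrCharacter G χ)
    (h : CL.Char.charKer χ = ⊤) : χ = fun _ => 1 := by
  have := Fintype.ofFinite G
  by_contra hne
  have h1 := CL.Char.irr_sum_eq_zero hχ hne
  have h2 : ∀ g, χ g = χ 1 := fun g =>
    CL.Char.apply_eq_of_mem_charKer (by rw [h]; exact mem_top g)
  rw [Finset.sum_congr rfl fun g _ => h2 g, Finset.sum_const, nsmul_eq_mul, Finset.card_univ,
    ← Nat.card_eq_fintype_card] at h1
  exact mul_ne_zero CL.Char.card_ne_zero (CL.Char.irr_apply_one_ne_zero hχ) h1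

end CL.ZStar
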