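import Cfsg.Agent.Base
import Cfsg.Agent.Blocks.Principal
import Cfsg.Agent.Blocks.ZStarAux
import Cfsg.Agent.Char.Galois

/-!
# Principal 2-blocks: columns of elements with centralizer of order four times odd, and the
principal block for a Klein four Sylow subgroup
-/

set_option autoImplicit false

open Cfsg Subgroup
open scoped ComplexConjugate

namespace CL.Q8B

open CL.Invol CL.Blocks CL.Char CL.ZStar

variable {G : Type*} [Group G] [Finite G] {M : Ideal AlgInt}

/-- The principal block as a finite set. -/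
noncomputable def pb (M : Ideal AlgInt) (G : Type*) [Group G] [Finite G] :
    Finset (IrrCharacter G) :=
  (Set.toFinite (principalBlock M G)).toFinset

theorem mem_pb {χ : IrrCharacter G} : χ ∈ pb M G ↔ χ ∈ principalBlock M G :=
  Set.Finite.mem_toFinset _

theorem finsum_pb {α : Type*} [AddCommMonoid α] (f : IrrCharacter G → α) :
    ∑ᶠ χ ∈ principalBlock M G, f χ = ∑ χ ∈ pb M G, f χ :=
  finsum_mem_eq_finite_toFinset_sum f _

theorem one_mem_pb [M.IsMaximal] : irrOne G ∈ pb M G := mem_pb.mpr irrOne_mem_principalBlock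

theorem natCard_principalBlock : Nat.card (principalBlock M G) = (pb M G).card := by
  rw [Nat.card_coe_set_eq, Set.ncard_eq_toFinset_card _ (Set.toFinite _)]; rfl

/-- Block orthogonality for the principal block. -/
theorem pb_orth {p : ℕ} (hM : IsPModular p M) {g h x y : G} (hx : IsPPart p g x)
    (hy : IsPPart p h y) (hxy : ¬ IsConj x y) :
    ∑ χ ∈ pb M G, (χ : G → ℂ) g * conj ((χ : G → ℂ) h) = 0 := by
  have : M.IsMaximal := hM.2.1
  have h1 := sum_mul_inv_eq_zero_of_pPart hM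
    (memLocalRing_blockCoeff (M := M) (isPBlock_principalBlock (G := G))) hx hy hxy
  rw [finsum_pb] at h1
  simpa only [conj_irr_apply] using h1

omit [Finite G] in
/-- A character of the principal block does not vanish on `p`-central elements. -/
theorem apply_ne_zero_of_index {p : ℕ} (hM : IsPModular p M) {χ : IrrCharacter G}
    (hχ : χ ∈ principalBlock M G) {z : G} (hz : ¬ p ∣ (centralizer ({z} : Set G)).index) :
    (χ : G → ℂ) z ≠ 0 := by
  have : M.IsMaximal := hM.2.1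
  intro h0
  have h1 := hχ z
  simp only [centralChar, h0, mul_zero, zero_div, sub_zero, mul_one, div_one] at h1
  exact not_memLocalIdeal_natCast hM hz h1

/-- A group of order four times an odd number with a central involution has a normal
`2`-complement. -/
theorem mem_pPrimeCore_of_card_four {w : G} (hw : orderOf w = 2) (hwZ : w ∈ center G) {m : ℕ}
    (hm : Odd m) (hG : Nat.card G = 4 * m) {c : G} (hc : Odd (orderOf c)) :
    c ∈ pPrimeCore 2 G := by
  have : (zpowers w).Normal := normal_of_le_center (zpowers_le.mpr hwZ)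
  refine mem_pPrimeCore_of_quotient_central hw hc ?_
  have h1 : Nat.card (G ⧸ zpowers w) = 2 * m := by
    have h2 := card_eq_card_quotient_mul_card_subgroup (zpowers w)
    rw [Nat.card_zpowers, hw, hG] at h2
    omega
  rw [← CL.Transfer.pResidual_eq_pPrimeCore (hasNormalPComplement_two_of_card hm h1)]
  apply CL.Transfer.mem_pResidual_of_coprime
  exact CL.Transfer.coprime_orderOf_map (QuotientGroup.mk' _) (Nat.coprime_two_right.mpr hc)

theorem index_pPrimeCore_of_card_four {w : G} (hw : orderOf w = 2) (hwZ : w ∈ center G) {m : ℕ}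
    (hm : Odd m) (hG : Nat.card G = 4 * m) : (pPrimeCore 2 G).index = 4 := by
  have h1 : pResidual 2 G ≤ pPrimeCore 2 G := CL.Transfer.pResidual_le_iff.mpr fun g hg =>
    mem_pPrimeCore_of_card_four hw hwZ hm hG (Nat.coprime_two_right.mp hg)
  rw [index_eq_pow_factorization Nat.prime_two (not_dvd_card_pPrimeCore' Nat.prime_two)
    (CL.Transfer.exists_index_eq_pow_of_pResidual_le h1), hG,
    Nat.factorization_mul (by norm_num) hm.pos.ne']
  have h2 : m.factorization 2 = 0 := Nat.factorization_eq_zero_of_not_dvd hm.not_two_dvd_nat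
  have h3 : (4 : ℕ).factorization 2 = 2 := by
    rw [show (4 : ℕ) = 2 ^ 2 by norm_num, Nat.Prime.factorization_pow Nat.prime_two]; simp
  simp [h2, h3]

/-- The column of a `2`-element whose centralizer has order four times an odd number and has a
central involution. -/
theorem col_four (hM : IsPModular 2 M) {u w : G} (hu : ∃ k : ℕ, orderOf u = 2 ^ k)
    (hw : orderOf w = 2) (hwu : Commute w u) (hwc : ∀ c, Commute c u → Commute c w) {m : ℕ}
    (hm : Odd m) (hC : Nat.card (centralizer ({u} : Set G)) = 4 * m) :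
    (∀ χ ∈ principalBlock M G, ∀ y : G, Commute u y → Odd (orderOf y) →
      (χ : G → ℂ) (u * y) = (χ : G → ℂ) u) ∧
    ∑ χ ∈ pb M G, (χ : G → ℂ) u * conj ((χ : G → ℂ) u) = 4 := by
  have : Fact (Nat.Prime 2) := ⟨Nat.prime_two⟩
  set w' : centralizer ({u} : Set G) := ⟨w, mem_centralizer_singleton_iff_commute.mpr hwu⟩
  have hw' : orderOf w' = 2 := by rw [← Subgroup.orderOf_coe]; exact hw
  have hwZ : w' ∈ center (centralizer ({u} : Set G)) := by
    rw [Subgroup.mem_center_iff]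
    intro g
    exact Subtype.ext (hwc g (mem_centralizer_singleton_iff_commute.mp g.2)).eq
  constructor
  · intro χ hχ y hy hyo
    refine principal_apply_mul_of_mem_centralizerPPrimeCore hM hu ?_ hχ
    refine ⟨⟨y, mem_centralizer_singleton_iff_commute.mpr hy.symm⟩, ?_, rfl⟩
    refine mem_pPrimeCore_of_card_four hw' hwZ hm hC ?_
    rw [← Subgroup.orderOf_coe]; exact hyo
  · have h1 := principal_sum_mul_conj hM hu (y := 1) (y' := 1) (by simp) (by simp)
    have h2 := index_pPrimeCore_of_card_four hw' hwZ hm hC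
    rw [principal_sum_mul_conj_of_normal_compl hM (not_dvd_card_pPrimeCore' Nat.prime_two)
      ⟨2, h2⟩ (by simp) (by simp), h2, finsum_pb] at h1
    simpa using h1

theorem card_eq_of_sylow_le (P : Sylow 2 G) {k : ℕ} (hP : Nat.card P = k) {H : Subgroup G}
    (hPH : (P : Subgroup G) ≤ H) : ∃ m, Odd m ∧ Nat.card H = k * m := by
  have : Fact (Nat.Prime 2) := ⟨Nat.prime_two⟩
  refine ⟨(P : Subgroup G).relIndex H, ?_, ?_⟩
  · have h1 := relIndex_mul_index hPH
    have h2 : ¬ 2 ∣ (P : Subgroup G).index := P.not_dvd_index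
    rw [← Nat.not_even_iff_odd, even_iff_two_dvd]
    exact fun h3 => h2 (h1 ▸ Dvd.dvd.mul_right h3 _)
  · rw [← hP, relIndex, ← card_mul_index ((P : Subgroup G).subgroupOf H),
      Nat.card_congr (subgroupOfEquivOfLe hPH).toEquiv]

theorem not_two_dvd_index_of_sylow_le (P : Sylow 2 G) {H : Subgroup G}
    (hPH : (P : Subgroup G) ≤ H) : ¬ 2 ∣ H.index := by
  have : Fact (Nat.Prime 2) := ⟨Nat.prime_two⟩
  exact fun h => P.not_dvd_index (h.trans (index_dvd_of_le hPH))

theorem exists_conj_mem_sylow_of_orderOf (P : Sylow 2 G) {u : G} (hu : ∃ k : ℕ, orderOf u = 2 ^ k) :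
    ∃ c : G, c * u * c⁻¹ ∈ (P : Subgroup G) := by
  have : Fact (Nat.Prime 2) := ⟨Nat.prime_two⟩
  obtain ⟨k, hk⟩ := hu
  have h1 : IsPGroup 2 (zpowers u) := IsPGroup.of_card (by rw [Nat.card_zpowers, hk])
  obtain ⟨Q, hQ⟩ := h1.exists_le_sylow
  obtain ⟨c, hc⟩ := MulAction.exists_smul_eq G Q P
  refine ⟨c, ?_⟩
  rw [← hc, Sylow.coe_subgroup_smul]
  exact ⟨u, hQ (mem_zpowers u), rfl⟩

/-- The structure of the principal block when the Sylow `2`-subgroups are Klein four-groups and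
all involutions are conjugate. -/
theorem kleinFour_block (hM : IsPModular 2 M) (P : Sylow 2 G) (hP4 : Nat.card P = 4)
    (hP2 : ∀ a ∈ (P : Subgroup G), a * a = 1)
    (hone : ∀ s t : G, orderOf s = 2 → orderOf t = 2 → IsConj s t) :
    ∃ δ : IrrCharacter G → ℤ, (pb M G).card = 4 ∧ (∀ χ ∈ pb M G, δ χ * δ χ = 1) ∧
      (∀ χ ∈ pb M G, ∀ g : G, 2 ∣ orderOf g → (χ : G → ℂ) g = δ χ) ∧
      (∀ χ ∈ pb M G, (4 : ℤ) ∣ (charDegree (χ : G → ℂ) : ℤ) - δ χ) ∧
      ∀ y : G, Odd (orderOf y) → ∑ χ ∈ pb M G, (δ χ : ℂ) * (χ : G → ℂ) y = 0 := by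
  classical
  have : Fact (Nat.Prime 2) := ⟨Nat.prime_two⟩
  have hcomm : ∀ a ∈ (P : Subgroup G), ∀ b ∈ (P : Subgroup G), a * b = b * a := by
    intro a ha b hb
    have h1 := hP2 _ (mul_mem ha hb)
    calc a * b = a * ((a * b) * (a * b)) * b := by rw [h1, mul_one]
      _ = (a * a) * (b * a) * (b * b) := by group
      _ = b * a := by rw [hP2 a ha, hP2 b hb, one_mul, mul_one]
  obtain ⟨z, hzP, hz1⟩ : ∃ z ∈ (P : Subgroup G), z ≠ 1 := by
    by_contra hcon
    push Not at hcon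
    have : (P : Subgroup G) = ⊥ := (eq_bot_iff_forall _).mpr hcon
    rw [this, card_bot] at hP4
    omega
  have hz : orderOf z = 2 := orderOf_two_of_mul_self hz1 (hP2 z hzP)
  have hPC : (P : Subgroup G) ≤ centralizer ({z} : Set G) := fun a ha =>
    mem_centralizer_singleton_iff_commute.mpr (hcomm a ha z hzP)
  obtain ⟨m, hm, hC⟩ := card_eq_of_sylow_le P hP4 hPC
  obtain ⟨c1, c2⟩ := col_four hM (u := z) (w := z) ⟨1, by rw [hz, pow_one]⟩ hz (Commute.refl z)
    (fun _ h => h) hm hC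
  have hint : ∀ χ : IrrCharacter G, ∃ n : ℤ, (χ : G → ℂ) z = n := fun χ =>
    gen_exists_int_of_sq_eq_one (gen_of_irr χ.2) (sq_of_orderOf_two hz)
  choose δ hδ using hint
  have hne : ∀ χ ∈ pb M G, δ χ ≠ 0 := by
    intro χ hχ h0
    refine apply_ne_zero_of_index hM (mem_pb.mp hχ) (not_two_dvd_index_of_sylow_le P hPC) ?_
    rw [hδ, h0, Int.cast_zero]
  have hval : ∀ χ ∈ pb M G, ∀ g : G, 2 ∣ orderOf g → (χ : G → ℂ) g = δ χ := by
    intro χ hχ g hg
    obtain ⟨c, hc⟩ := exists_conj_mem_sylow_of_orderOf P (orderOf_pPart (p := 2) g)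
    have h1 : pPart 2 g ≠ 1 := fun h => (pPart_eq_one_iff.mp h) hg
    have h2 : orderOf (pPart 2 g) = 2 := by
      rw [← orderOf_conj c]
      refine orderOf_two_of_mul_self (fun h => h1 ?_) (hP2 _ hc)
      simpa using h
    obtain ⟨d, hd⟩ := isConj_iff.mp (hone _ z h2 hz)
    have h3 : d * g * d⁻¹ = z * (d * pReg 2 g * d⁻¹) := by
      rw [← hd, conj_mul, pPart_mul_pReg]
    rw [← irr_isClassFunction χ.2 g d, h3, c1 χ (mem_pb.mp hχ), hδ]
    · rw [← hd]
      exact (commute_pPart_pReg (p := 2) g).conj d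
    · rw [orderOf_conj]
      exact Nat.odd_iff.mpr (Nat.two_dvd_ne_zero.mp (not_dvd_orderOf_pReg g))
  have horth : ∀ y : G, Odd (orderOf y) → ∑ χ ∈ pb M G, (δ χ : ℂ) * (χ : G → ℂ) y = 0 := by
    intro y hy
    have h1 := pb_orth hM (isPPart_one_of_not_dvd (g := y) hy.not_two_dvd_nat)
      (isPPart_self (p := 2) (x := z) ⟨1, by rw [hz, pow_one]⟩)
      (fun h => hz1 (isConj_one_right.mp h))
    rw [← h1]
    refine Finset.sum_congr rfl fun χ _ => ?_
    rw [hδ, map_intCast, mul_comm]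
  have hsq : ∑ χ ∈ pb M G, δ χ ^ 2 = 4 := by
    have h1 : ((∑ χ ∈ pb M G, δ χ ^ 2 : ℤ) : ℂ) = 4 := by
      rw [← c2, Int.cast_sum]
      refine Finset.sum_congr rfl fun χ _ => ?_
      rw [hδ, map_intCast]; push_cast; ring
    exact_mod_cast h1
  have : M.IsMaximal := hM.2.1
  have hδ1 : δ (irrOne G) = 1 := by
    have := hδ (irrOne G)
    rw [irrOne_apply] at this
    exact_mod_cast this.symm
  have hpm : ∀ χ ∈ pb M G, δ χ * δ χ = 1 := by
    intro χ hχ
    by_cases h1 : χ = irrOne G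
    · rw [h1, hδ1]; rfl
    have h2 : ∑ j ∈ ({irrOne G, χ} : Finset _), δ j ^ 2 ≤ ∑ j ∈ pb M G, δ j ^ 2 :=
      Finset.sum_le_sum_of_subset_of_nonneg (by
        intro j hj
        simp only [Finset.mem_insert, Finset.mem_singleton] at hj
        rcases hj with rfl | rfl
        · exact one_mem_pb
        · exact hχ) (fun j _ _ => sq_nonneg _)
    rw [Finset.sum_pair (Ne.symm h1), hδ1, hsq] at h2
    have h3 := hne χ hχ
    have h4 : δ χ ≤ 1 := by nlinarith
    have h5 : -1 ≤ δ χ := by nlinarith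
    have h6 : δ χ = 1 ∨ δ χ = -1 := by omega
    rcases h6 with h6 | h6 <;> rw [h6] <;> rfl
  refine ⟨δ, ?_, hpm, hval, ?_, horth⟩
  · have h1 : ∑ χ ∈ pb M G, δ χ ^ 2 = ∑ χ ∈ pb M G, (1 : ℤ) :=
      Finset.sum_congr rfl fun χ hχ => by rw [sq, hpm χ hχ]
    rw [hsq] at h1
    simp only [Finset.sum_const, nsmul_eq_mul, mul_one] at h1
    exact_mod_cast h1.symm
  · intro χ hχ
    have := Fintype.ofFinite (P : Subgroup G)
    obtain ⟨n, hn⟩ := gen_inner_int (gen_restrict (gen_of_irr χ.2) (P : Subgroup G)) gen_one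
    rw [classInner_one_right, hP4, ← Finset.add_sum_erase _ _ (Finset.mem_univ 1),
      Finset.sum_congr rfl (g := fun _ => (δ χ : ℂ)), Finset.sum_const,
      Finset.card_erase_of_mem (Finset.mem_univ _), Finset.card_univ, ← Nat.card_eq_fintype_card,
      hP4] at hn
    · refine ⟨n - δ χ, ?_⟩
      have h2 : (((charDegree (χ : G → ℂ) : ℤ) - δ χ : ℤ) : ℂ) = ((4 * (n - δ χ) : ℤ) : ℂ) := by
        push_cast
        rw [cast_charDegree, ← hn]
        simp only [OneMemClass.coe_one, nsmul_eq_mul]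
        push_cast
        ring
      exact_mod_cast h2
    · intro a ha
      refine hval χ hχ a ?_
      rw [orderOf_two_of_mul_self (fun h => (Finset.mem_erase.mp ha).1 (Subtype.ext h))
        (hP2 a a.2)]

/-- The same with the four characters named. -/
theorem kleinFour_block' (hM : IsPModular 2 M) (P : Sylow 2 G) (hP4 : Nat.card P = 4)
    (hP2 : ∀ a ∈ (P : Subgroup G), a * a = 1)
    (hone : ∀ s t : G, orderOf s = 2 → orderOf t = 2 → IsConj s t) :
    ∃ (ζ₁ ζ₂ ζ₃ : IrrCharacter G) (δ : IrrCharacter G → ℤ), ζ₁ ≠ irrOne G ∧ ζ₂ ≠ irrOne G ∧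
      ζ₃ ≠ irrOne G ∧ ζ₁ ≠ ζ₂ ∧ ζ₁ ≠ ζ₃ ∧ ζ₂ ≠ ζ₃ ∧
      (∀ χ, χ ∈ pb M G ↔ χ = irrOne G ∨ χ = ζ₁ ∨ χ = ζ₂ ∨ χ = ζ₃) ∧
      (∀ f : IrrCharacter G → ℂ, ∑ χ ∈ pb M G, f χ = f (irrOne G) + f ζ₁ + f ζ₂ + f ζ₃) ∧
      δ (irrOne G) = 1 ∧ (∀ χ ∈ pb M G, δ χ * δ χ = 1) ∧
      (∀ χ ∈ pb M G, ∀ g : G, 2 ∣ orderOf g → (χ : G → ℂ) g = δ χ) ∧
      (∀ χ ∈ pb M G, (4 : ℤ) ∣ (charDegree (χ : G → ℂ) : ℤ) - δ χ) ∧
      ∀ y : G, Odd (orderOf y) → 1 + (δ ζ₁ : ℂ) * (ζ₁ : G → ℂ) y + (δ ζ₂ : ℂ) * (ζ₂ : G → ℂ) y +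
        (δ ζ₃ : ℂ) * (ζ₃ : G → ℂ) y = 0 := by
  classical
  have : M.IsMaximal := hM.2.1
  obtain ⟨δ, h1, h2, h3, h4, h5⟩ := kleinFour_block hM P hP4 hP2 hone
  have h6 : ((pb M G).erase (irrOne G)).card = 3 := by
    rw [Finset.card_erase_of_mem one_mem_pb, h1]
  obtain ⟨a, b, c, hab, hac, hbc, hT⟩ := Finset.card_eq_three.mp h6
  have ha : a ∈ (pb M G).erase (irrOne G) := by rw [hT]; simp
  have hb : b ∈ (pb M G).erase (irrOne G) := by rw [hT]; simp
  have hc : c ∈ (pb M G).erase (irrOne G) := by rw [hT]; simp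
  have hsum : ∀ f : IrrCharacter G → ℂ, ∑ χ ∈ pb M G, f χ = f (irrOne G) + f a + f b + f c := by
    intro f
    rw [← Finset.add_sum_erase _ _ one_mem_pb, hT, Finset.sum_insert (by simp [hab, hac]),
      Finset.sum_pair hbc]
    ring
  have hδ1 : δ (irrOne G) = 1 := by
    have h7 := h4 _ one_mem_pb
    have h8 := h2 _ one_mem_pb
    have h9 : (charDegree (irrOne G : G → ℂ) : ℤ) = 1 := by
      have := cast_charDegree (irrOne G)
      rw [irrOne_apply] at this
      exact_mod_cast this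
    rw [h9] at h7
    rcases Int.eq_one_or_neg_one_of_mul_eq_one h8 with h | h
    · exact h
    · rw [h] at h7; omega
  refine ⟨a, b, c, δ, (Finset.mem_erase.mp ha).1, (Finset.mem_erase.mp hb).1,
    (Finset.mem_erase.mp hc).1, hab, hac, hbc, ?_, hsum, hδ1, h2, h3, h4, ?_⟩
  · intro χ
    rw [← Finset.insert_erase (one_mem_pb (M := M) (G := G)), hT]
    simp
  · intro y hy
    have := h5 y hy
    rw [hsum, hδ1, irrOne_apply] at this
    simpa using this

end CL.Q8B
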