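import Cfsg.Agent.Blocks.Omega
import Cfsg.Agent.Char.Orth

/-!
# Central characters and constituents of restrictions; conjugate characters of a normal subgroup
-/

set_option linter.unusedSectionVars false

namespace CL.Blocks

open Cfsg CL.Char
open scoped MonoidAlgebra ComplexConjugate

variable {G : Type*} [Group G]

/-- The value of a function on the primitive central idempotent of `θ`. -/
theorem ev_idem_singleton [Fintype G] (φ : G → ℂ) (θ : IrrCharacter G) :
    ev φ (idem {θ}) = classInner φ θ * (θ : G → ℂ) 1 := by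
  rw [idem, ev_mk, classInner_char_right _ (irr_isCharacter θ.2)]
  simp only [blockCoeff_singleton, Finset.mul_sum, Finset.sum_mul]
  refine Finset.sum_congr rfl fun g _ => ?_
  ring

theorem ev_idem_eq_sum [Fintype G] (φ : G → ℂ) (A : Set (IrrCharacter G))
    [DecidablePred (· ∈ A)] :
    ev φ (idem A) = ∑ θ : IrrCharacter G with θ ∈ A, classInner φ θ * (θ : G → ℂ) 1 := by
  rw [idem_eq_sum, map_sum]
  simp only [ev_idem_singleton]

theorem exists_inner_ne_zero_of_ev_idem [Fintype G] {φ : G → ℂ} {A : Set (IrrCharacter G)}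
    (h : ev φ (idem A) ≠ 0) : ∃ θ ∈ A, classInner φ θ ≠ 0 := by
  classical
  rw [ev_idem_eq_sum] at h
  obtain ⟨θ, hθ, h1⟩ := Finset.exists_ne_zero_of_sum_ne_zero h
  exact ⟨θ, (Finset.mem_filter.1 hθ).2, left_ne_zero_of_mul h1⟩

theorem incl_trunc_of_support {R : Type*} [CommRing R] (H : Subgroup G) {a : R[G]}
    (ha : ∀ g ∉ H, a.coeff g = 0) : incl H (trunc H a) = a := by
  refine alg_ext fun g => ?_
  by_cases hg : g ∈ H
  · rw [coeff_incl_of_mem H _ hg, coeff_trunc]
  · rw [coeff_incl_of_notMem H _ hg, ha g hg]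

theorem IsCen.of_incl {R : Type*} [CommRing R] {H : Subgroup G} {a : R[H]}
    (ha : IsCen (incl H a)) : IsCen a := by
  have := ha.trunc H
  rwa [trunc_incl] at this

/-- If `θ` is a constituent of `χ_H` then `ω_χ` and `ω_θ` agree on central elements of `ℂ G`
lying in `ℂ H`. -/
theorem om_incl_of_inner [Finite G] {H : Subgroup G} [Fintype H] (χ : IrrCharacter G)
    (θ : IrrCharacter H) (h : classInner (fun n : H => (χ : G → ℂ) n) θ ≠ 0) {a : ℂ[H]}
    (ha : IsCen (incl H a)) : om (χ : G → ℂ) (incl H a) = om (θ : H → ℂ) a := by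
  have h1 := ev_mul_of_isCen χ ha (incl H (idem {θ}))
  rw [← map_mul, ha.of_incl.mul_idem_singleton, map_smul, map_smul, ev_incl, ev_idem_singleton,
    smul_eq_mul] at h1
  exact (mul_right_cancel₀ (mul_ne_zero h (irr_apply_one_ne_zero θ.2)) h1).symm

theorem om_eq_om_trunc_of_inner [Finite G] {H : Subgroup G} [Fintype H] (χ : IrrCharacter G)
    (θ : IrrCharacter H) (h : classInner (fun n : H => (χ : G → ℂ) n) θ ≠ 0) {a : ℂ[G]}
    (ha : IsCen a) (hs : ∀ g ∉ H, a.coeff g = 0) :
    om (χ : G → ℂ) a = om (θ : H → ℂ) (trunc H a) := by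
  have h1 := incl_trunc_of_support H hs
  rw [← om_incl_of_inner χ θ h (by rwa [h1]), h1]

theorem exists_constituent [Finite G] (H : Subgroup G) [Fintype H] (χ : IrrCharacter G) :
    ∃ θ : IrrCharacter H, classInner (fun n : H => (χ : G → ℂ) n) θ ≠ 0 := by
  obtain ⟨θ, hθ, h⟩ := char_exists_irr_constituent (char_restrict (irr_isCharacter χ.2) H)
    (fun h => irr_apply_one_ne_zero χ.2 (congrFun h 1))
  exact ⟨⟨θ, hθ⟩, h⟩

/-- Every irreducible character of a subgroup lies under an irreducible character. -/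
theorem exists_over [Finite G] (H : Subgroup G) [Fintype H] (θ : IrrCharacter H) :
    ∃ χ : IrrCharacter G, classInner (fun n : H => (χ : G → ℂ) n) θ ≠ 0 := by
  by_contra hcon
  push Not at hcon
  have h1 := coeff_one_eq_sum (incl H (idem {θ}))
  simp only [ev_incl, ev_idem_singleton, hcon, zero_mul, mul_zero, Finset.sum_const_zero] at h1
  rw [← OneMemClass.coe_one H, coeff_incl_coe, coeff_idem, blockCoeff_singleton, inv_one] at h1
  exact mul_ne_zero (inv_ne_zero card_ne_zero)
    (mul_ne_zero (irr_apply_one_ne_zero θ.2) (irr_apply_one_ne_zero θ.2)) h1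

section Normal

variable {N : Subgroup G} [hN : N.Normal]

theorem mem_of_isConj_of_mem {n x : G} (hn : n ∈ N) (h : IsConj n x) : x ∈ N := by
  obtain ⟨c, rfl⟩ := isConj_iff.1 h
  exact hN.conj_mem n hn c

theorem coeff_classSum_of_notMem {R : Type*} [CommRing R] [Finite G] {n : G} (hn : n ∈ N) {g : G}
    (hg : g ∉ N) : (classSum R n).coeff g = 0 := by
  classical
  rw [coeff_classSum, if_neg fun h => hg (mem_of_isConj_of_mem hn h)]

theorem trunc_classSum_of_notMem {R : Type*} [CommRing R] [Finite G] {g : G} (hg : g ∉ N) :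
    trunc N (classSum R g) = 0 := by
  classical
  refine alg_ext fun n => ?_
  rw [coeff_trunc, coeff_classSum, if_neg fun h => hg (mem_of_isConj_of_mem n.2 h.symm)]
  rfl

theorem inducedCentralChar_of_notMem [Finite G] (θ : N → ℂ) {g : G} (hg : g ∉ N) :
    inducedCentralChar N θ g = 0 := by
  rw [← om_trunc_classSum, trunc_classSum_of_notMem hg, om_zero]

theorem centralChar_eq_induced_of_inner [Finite G] [Fintype N] (χ : IrrCharacter G)
    (θ : IrrCharacter N) (h : classInner (fun n : N => (χ : G → ℂ) n) θ ≠ 0) {n : G}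
    (hn : n ∈ N) : centralChar (χ : G → ℂ) n = inducedCentralChar N (θ : N → ℂ) n := by
  rw [← om_classSum_irr, ← om_trunc_classSum]
  exact om_eq_om_trunc_of_inner χ θ h (isCen_classSum n) fun g hg => coeff_classSum_of_notMem hn hg

variable [Finite G]

/-- The conjugate `n ↦ θ (g n g⁻¹)` of an irreducible character of a normal subgroup. -/
noncomputable def cIrr (g : G) (θ : IrrCharacter N) : IrrCharacter N :=
  irrCompEquiv (MulAut.conjNormal g) θ

theorem cIrr_apply (g : G) (θ : IrrCharacter N) (n : N) :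
    (cIrr g θ : N → ℂ) n = (θ : N → ℂ) ⟨g * n * g⁻¹, hN.conj_mem n n.2 g⟩ := rfl

theorem cIrr_apply' (g : G) (θ : IrrCharacter N) (n : N) :
    (cIrr g θ : N → ℂ) n = (θ : N → ℂ) (MulAut.conjNormal g n) := rfl

theorem eq_cIrr_iff {g : G} {θ θ' : IrrCharacter N} : θ' = cIrr g θ ↔
    ∀ n : N, (θ' : N → ℂ) n = (θ : N → ℂ) ⟨g * n * g⁻¹, hN.conj_mem n n.2 g⟩ :=
  ⟨fun h n => by rw [h]; rfl, fun h => Subtype.ext (funext h)⟩

theorem cIrr_one (θ : IrrCharacter N) : cIrr (1 : G) θ = θ := by
  refine Subtype.ext (funext fun n => ?_)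
  rw [cIrr_apply]
  exact congrArg _ (Subtype.ext (by simp))

theorem cIrr_cIrr (g h : G) (θ : IrrCharacter N) : cIrr g (cIrr h θ) = cIrr (h * g) θ := by
  refine Subtype.ext (funext fun n => ?_)
  rw [cIrr_apply, cIrr_apply, cIrr_apply]
  exact congrArg _ (Subtype.ext (by simp [mul_assoc]))

theorem cIrr_inv_cIrr (g : G) (θ : IrrCharacter N) : cIrr g⁻¹ (cIrr g θ) = θ := by
  rw [cIrr_cIrr, mul_inv_cancel, cIrr_one]

theorem cIrr_cIrr_inv (g : G) (θ : IrrCharacter N) : cIrr g (cIrr g⁻¹ θ) = θ := by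
  rw [cIrr_cIrr, inv_mul_cancel, cIrr_one]

theorem cIrr_injective (g : G) : Function.Injective (cIrr (N := N) g) :=
  Function.LeftInverse.injective (cIrr_inv_cIrr g)

theorem cIrr_apply_one (g : G) (θ : IrrCharacter N) :
    (cIrr g θ : N → ℂ) 1 = (θ : N → ℂ) 1 := by
  rw [cIrr_apply', map_one]

theorem cIrr_of_mem {g : G} (hg : g ∈ N) (θ : IrrCharacter N) : cIrr g θ = θ := by
  refine Subtype.ext (funext fun n => ?_)
  rw [cIrr_apply]
  exact irr_isClassFunction θ.2 n ⟨g, hg⟩

theorem cIrr_of_mem_centralizer {g : G} (hg : g ∈ Subgroup.centralizer (N : Set G))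
    (θ : IrrCharacter N) : cIrr g θ = θ := by
  refine Subtype.ext (funext fun n => ?_)
  rw [cIrr_apply]
  refine congrArg _ (Subtype.ext ?_)
  simp only
  rw [← hg n n.2, mul_inv_cancel_right]

/-- `cIrr g` as a permutation. -/
noncomputable def cIrrEquiv (N : Subgroup G) [N.Normal] (g : G) :
    IrrCharacter N ≃ IrrCharacter N := irrCompEquiv (MulAut.conjNormal g)

theorem cIrrEquiv_apply (g : G) (θ : IrrCharacter N) : cIrrEquiv N g θ = cIrr g θ := rfl

theorem classInner_res_cIrr [Fintype N] {φ : G → ℂ} (hφ : IsClassFunction G φ) (g : G)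
    (θ : IrrCharacter N) :
    classInner (fun n : N => φ n) (cIrr g θ) = classInner (fun n : N => φ n) θ := by
  rw [← classInner_comp_mulEquiv (MulAut.conjNormal g) (fun n : N => φ n) θ]
  congr 1
  funext n
  exact (hφ n g).symm

theorem blockCoeff_conj (g : G) (A : Set (IrrCharacter N)) (n : N) :
    blockCoeff A ⟨g * n * g⁻¹, hN.conj_mem n n.2 g⟩ = blockCoeff (cIrr g '' A) n := by
  rw [blockCoeff, blockCoeff, finsum_mem_image (cIrr_injective g).injOn]
  congr 1
  refine finsum_mem_congr rfl fun θ _ => ?_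
  rw [cIrr_apply_one, cIrr_apply]

theorem image_cIrr_eq_of_invariant {A : Set (IrrCharacter N)}
    (hA : ∀ g : G, ∀ θ ∈ A, cIrr g θ ∈ A) (g : G) : cIrr g '' A = A := by
  ext θ
  constructor
  · rintro ⟨θ', h, rfl⟩
    exact hA g θ' h
  · intro h
    exact ⟨cIrr g⁻¹ θ, hA _ _ h, cIrr_cIrr_inv g θ⟩

theorem isCen_incl_iff {R : Type*} [CommRing R] {a : R[N]} : IsCen (incl N a) ↔
    ∀ (g : G) (n : N), a.coeff ⟨g * n * g⁻¹, hN.conj_mem n n.2 g⟩ = a.coeff n := by
  constructor
  · intro h g n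
    rw [← coeff_incl_coe, ← coeff_incl_coe]
    exact h n g
  · intro h x g
    by_cases hx : x ∈ N
    · rw [coeff_incl_of_mem N a hx, coeff_incl_of_mem N a (hN.conj_mem x hx g)]
      exact h g ⟨x, hx⟩
    · rw [coeff_incl_of_notMem N a hx, coeff_incl_of_notMem N a]
      intro h1
      exact hx (by simpa [mul_assoc] using hN.conj_mem _ h1 g⁻¹)

/-- The idempotent of a `G`-invariant set of characters of `N` is central in `ℂ G`. -/
theorem isCen_incl_idem {A : Set (IrrCharacter N)} (hA : ∀ g : G, ∀ θ ∈ A, cIrr g θ ∈ A) :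
    IsCen (incl N (idem A)) := by
  refine isCen_incl_iff.2 fun g n => ?_
  rw [coeff_idem, coeff_idem, blockCoeff_conj, image_cIrr_eq_of_invariant hA]

/-- The union of the `G`-conjugates of a set of characters of `N`. -/
def conjClosure (G : Type*) [Group G] [Finite G] {N : Subgroup G} [N.Normal]
    (A : Set (IrrCharacter N)) : Set (IrrCharacter N) := {θ | ∃ g : G, ∃ θ' ∈ A, θ = cIrr g θ'}

theorem subset_conjClosure (A : Set (IrrCharacter N)) : A ⊆ conjClosure G A :=
  fun θ h => ⟨1, θ, h, (cIrr_one θ).symm⟩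

theorem cIrr_mem_conjClosure (A : Set (IrrCharacter N)) (g : G) (θ : IrrCharacter N)
    (h : θ ∈ conjClosure G A) : cIrr g θ ∈ conjClosure G A := by
  obtain ⟨x, θ', h1, rfl⟩ := h
  exact ⟨x * g, θ', h1, cIrr_cIrr _ _ _⟩

theorem isCen_incl_idem_conjClosure (A : Set (IrrCharacter N)) :
    IsCen (incl N (idem (conjClosure G A))) := isCen_incl_idem (cIrr_mem_conjClosure A)

theorem exists_inner_of_conjClosure [Fintype N] {φ : G → ℂ} (hφ : IsClassFunction G φ)
    {A : Set (IrrCharacter N)} {θ : IrrCharacter N} (h : θ ∈ conjClosure G A)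
    (h1 : classInner (fun n : N => φ n) θ ≠ 0) :
    ∃ θ' ∈ A, classInner (fun n : N => φ n) θ' ≠ 0 := by
  obtain ⟨g, θ', h2, rfl⟩ := h
  exact ⟨θ', h2, by rwa [classInner_res_cIrr hφ] at h1⟩

theorem om_incl_idem_of_mem [Fintype N] {A : Set (IrrCharacter N)}
    (hA : ∀ g : G, ∀ θ ∈ A, cIrr g θ ∈ A) (χ : IrrCharacter G) {θ : IrrCharacter N}
    (h : classInner (fun n : N => (χ : G → ℂ) n) θ ≠ 0) (hθ : θ ∈ A) :
    om (χ : G → ℂ) (incl N (idem A)) = 1 := by
  rw [om_incl_of_inner χ θ h (isCen_incl_idem hA), om_idem_of_mem hθ]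

theorem om_incl_idem_of_notMem [Fintype N] {A : Set (IrrCharacter N)}
    (hA : ∀ g : G, ∀ θ ∈ A, cIrr g θ ∈ A) (χ : IrrCharacter G) {θ : IrrCharacter N}
    (h : classInner (fun n : N => (χ : G → ℂ) n) θ ≠ 0) (hθ : θ ∉ A) :
    om (χ : G → ℂ) (incl N (idem A)) = 0 := by
  rw [om_incl_of_inner χ θ h (isCen_incl_idem hA), om_idem_of_notMem hθ]

/-- Two constituents of the restriction of an irreducible character to a normal subgroup are
conjugate. -/
theorem exists_eq_cIrr_of_inner [Fintype N] (χ : IrrCharacter G) {θ θ' : IrrCharacter N}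
    (h : classInner (fun n : N => (χ : G → ℂ) n) θ ≠ 0)
    (h' : classInner (fun n : N => (χ : G → ℂ) n) θ' ≠ 0) : ∃ g : G, θ' = cIrr g θ := by
  by_contra hcon
  have h1 := om_incl_idem_of_mem (cIrr_mem_conjClosure {θ}) χ h (subset_conjClosure _ rfl)
  rw [om_incl_idem_of_notMem (cIrr_mem_conjClosure {θ}) χ h'] at h1
  · exact zero_ne_one h1
  · rintro ⟨g, θ'', rfl, h2⟩
    exact hcon ⟨g, h2⟩

/-- The idempotent of an invariant set `A` of characters of `N` is the idempotent of the set of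
characters of `G` lying over `A`. -/
theorem incl_idem_eq_idem_over [Fintype N] {A : Set (IrrCharacter N)}
    (hA : ∀ g : G, ∀ θ ∈ A, cIrr g θ ∈ A) :
    incl N (idem A) = idem {χ : IrrCharacter G |
      ∃ θ ∈ A, classInner (fun n : N => (χ : G → ℂ) n) θ ≠ 0} := by
  refine eq_idem_of_om (isCen_incl_idem hA) (fun χ ⟨θ, h1, h2⟩ => om_incl_idem_of_mem hA χ h2 h1)
    fun χ hχ => ?_
  obtain ⟨θ, hθ⟩ := exists_constituent N χ
  exact om_incl_idem_of_notMem hA χ hθ fun h => hχ ⟨θ, h, hθ⟩

theorem centralizer_index_conjNormal (g : G) (n : N) :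
    (Subgroup.centralizer ({MulAut.conjNormal g n} : Set N)).index =
      (Subgroup.centralizer ({n} : Set N)).index := by
  rw [← ncard_conj_eq_index, ← ncard_conj_eq_index]
  symm
  refine Nat.card_congr ((MulAut.conjNormal g : N ≃* N).toEquiv.subtypeEquiv fun x => ?_)
  simp only [Set.mem_ofPred_eq]
  constructor
  · intro h
    exact (MulAut.conjNormal g : N ≃* N).toMonoidHom.map_isConj h
  · intro h
    simpa using (MulAut.conjNormal g : N ≃* N).symm.toMonoidHom.map_isConj h

theorem centralChar_cIrr (g : G) (θ : IrrCharacter N) (n : N) :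
    centralChar (cIrr g θ : N → ℂ) n = centralChar (θ : N → ℂ) (MulAut.conjNormal g n) := by
  rw [centralChar, centralChar, centralizer_index_conjNormal, cIrr_apply_one, cIrr_apply']

theorem om_cIrr_of_isCen_incl (g : G) (θ : IrrCharacter N) {a : ℂ[N]} (ha : IsCen (incl N a)) :
    om (cIrr g θ : N → ℂ) a = om (θ : N → ℂ) a := by
  have := Fintype.ofFinite N
  obtain ⟨χ, hχ⟩ := exists_over N θ
  rw [← om_incl_of_inner χ θ hχ ha, om_incl_of_inner χ (cIrr g θ) _ ha]
  rwa [classInner_res_cIrr (irr_isClassFunction χ.2)]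

theorem inducedCentralChar_cIrr (g : G) (θ : IrrCharacter N) (x : G) :
    inducedCentralChar N (cIrr g θ : N → ℂ) x = inducedCentralChar N (θ : N → ℂ) x := by
  by_cases hx : x ∈ N
  · rw [← om_trunc_classSum, ← om_trunc_classSum, om_cIrr_of_isCen_incl]
    rw [incl_trunc_of_support N fun y hy => coeff_classSum_of_notMem hx hy]
    exact isCen_classSum x
  · rw [inducedCentralChar_of_notMem _ hx, inducedCentralChar_of_notMem _ hx]

/-- `θ` is a constituent of `χ_N` iff the central characters agree on the `G`-classes in `N`. -/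
theorem inner_ne_zero_iff_centralChar [Fintype N] (χ : IrrCharacter G) (θ : IrrCharacter N) :
    classInner (fun n : N => (χ : G → ℂ) n) θ ≠ 0 ↔
      ∀ n : N, centralChar (χ : G → ℂ) (n : G) = inducedCentralChar N (θ : N → ℂ) (n : G) := by
  refine ⟨fun h n => centralChar_eq_induced_of_inner χ θ h n.2, fun h => ?_⟩
  have := Fintype.ofFinite (ConjClasses G)
  have hc := isCen_incl_idem_conjClosure (G := G) {θ}
  have h1 : om (χ : G → ℂ) (incl N (idem (conjClosure G {θ}))) = 1 := by
    rw [hc.om_eq_sum (irr_isClassFunction χ.2),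
      ← om_idem_of_mem (A := conjClosure G {θ}) (subset_conjClosure _ rfl),
      ← trunc_incl N (idem (conjClosure G {θ})), hc.om_trunc_eq_sum, trunc_incl]
    refine Finset.sum_congr rfl fun c _ => ?_
    by_cases hc : Quotient.out c ∈ N
    · rw [h ⟨_, hc⟩]
    · rw [coeff_incl_of_notMem N _ hc, zero_mul, zero_mul]
  obtain ⟨θ', hθ'⟩ := exists_constituent N χ
  by_cases h2 : θ' ∈ conjClosure G {θ}
  · obtain ⟨θ'', rfl, h3⟩ := exists_inner_of_conjClosure (irr_isClassFunction χ.2) h2 hθ'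
    exact h3
  · rw [om_incl_idem_of_notMem (cIrr_mem_conjClosure _) χ hθ' h2] at h1
    exact (zero_ne_one h1).elim

end Normal

end CL.Blocks
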