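import Cfsg.Agent.Blocks.QuotBlocks
import Cfsg.Agent.Blocks.Defect
import Cfsg.Agent.Blocks.DefectZero
import Cfsg.Agent.Blocks.CommTrace
import Cfsg.Agent.Blocks.TraceSecond
import Cfsg.Agent.Blocks.HeightZero
import Cfsg.Agent.Blocks.Kernel

/-!
# Blocks with a normal defect group
-/

set_option linter.unusedSectionVars false

namespace CL.Blocks

open Cfsg CL.Char
open scoped MonoidAlgebra ComplexConjugate

variable {G : Type*} [Group G] [Finite G] {M : Ideal AlgInt} {p : ℕ} [Fact p.Prime]

/-- The coefficient of `f_A · a` (`a ∈ ℂ P`) at a `p`-regular element centralizing `P`. -/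
theorem coeff_idem_mul_incl (hM : IsPModular p M) {A : Set (IrrCharacter G)}
    (hA : ∀ g, MemLocalRing M (blockCoeff A g)) {P : Subgroup G} (hP : IsPGroup p P) {y : G}
    (hy : ¬ p ∣ orderOf y) (hyP : y ∈ Subgroup.centralizer (P : Set G)) (a : ℂ[P]) :
    (idem A * incl P a).coeff y = blockCoeff A y * a.coeff 1 := by
  classical
  let := Fintype.ofFinite G
  rw [coeff_mul_right, Finset.sum_eq_single (1 : G)]
  · rw [inv_one, mul_one, coeff_idem, coeff_incl_of_mem P a P.one_mem]
    rfl
  · intro h _ h1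
    by_cases hh : h ∈ P
    · rw [coeff_idem, blockCoeff_eq_zero_of_dvd hM hA, zero_mul]
      exact dvd_orderOf_mul_of_ne_one' (hyP _ (P.inv_mem hh))
        (exists_orderOf_eq_pow_of_mem hP (P.inv_mem hh)) hy (inv_ne_one.2 h1)
    · rw [coeff_incl_of_notMem P a hh, mul_zero]
  · intro h
    exact absurd (Finset.mem_univ _) h

/-- Every irreducible character of a normal defect group lies under a member of the block. -/
theorem exists_mem_over_of_isDefectGroup (hM : IsPModular p M) {B : Set (IrrCharacter G)}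
    (hB : IsPBlock M B) {P : Subgroup G} [P.Normal] [Fintype P] (hD : IsDefectGroup p M B P)
    (α : IrrCharacter P) : ∃ ψ ∈ B, classInner (fun n : P => (ψ : G → ℂ) n) α ≠ 0 := by
  have := hM.2.1
  obtain ⟨y, hy, hS⟩ := isDefectGroup_iff.1 hD
  have h1 := coeff_idem_mul_incl hM (memLocalRing_blockCoeff hB) hS.isPGroup
    (not_dvd_orderOf_of_isDefectClass hM hB hy) (le_centralizer_singleton_iff.1 hS.le)
    (idem (conjClosure G {α}))
  rw [incl_idem_eq_idem_over (cIrr_mem_conjClosure _), idem_mul_idem] at h1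
  by_contra hcon
  push Not at hcon
  have h2 : B ∩ {χ : IrrCharacter G | ∃ θ ∈ conjClosure G {α},
      classInner (fun n : P => (χ : G → ℂ) n) θ ≠ 0} = ∅ := by
    refine Set.eq_empty_of_forall_notMem fun χ ⟨hχ, θ, hθ, h⟩ => ?_
    obtain ⟨θ', hθ', h'⟩ := exists_inner_of_conjClosure (irr_isClassFunction χ.2) hθ h
    rw [Set.mem_singleton_iff.1 hθ'] at h'
    exact h' (hcon χ hχ)
  rw [h2, idem_empty] at h1
  refine mul_ne_zero (ne_zero_of_not_memLocalIdeal hy.2.1)
    (blockCoeff_one_ne_zero (A := conjClosure G {α}) ⟨α, subset_conjClosure _ rfl⟩) ?_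
  rw [← coeff_idem (conjClosure G {α}), ← h1]
  rfl

/-- If `ψ` lies over a character of the normal subgroup `P` whose degree is divisible by `p`,
then `ψ` is `≡ 0` on the centralizer of `P`. -/
theorem memLocalIdeal_apply_of_over [M.IsMaximal] {P : Subgroup G} [P.Normal] [Fintype P]
    {ψ : IrrCharacter G} {α : IrrCharacter P}
    (h : classInner (fun n : P => (ψ : G → ℂ) n) α ≠ 0) (hα : MemLocalIdeal M ((α : P → ℂ) 1))
    {y : G} (hy : y ∈ Subgroup.centralizer (P : Set G)) : MemLocalIdeal M ((ψ : G → ℂ) y) := by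
  classical
  let := Fintype.ofFinite G
  have h1 := ev_idem_mul_of_mem (A := {χ : IrrCharacter G | ∃ θ ∈ conjClosure G {α},
      classInner (fun n : P => (χ : G → ℂ) n) θ ≠ 0}) (χ := ψ)
      ⟨α, subset_conjClosure _ rfl, h⟩ (MonoidAlgebra.single y 1)
  rw [← incl_idem_eq_idem_over (cIrr_mem_conjClosure _), ev_single, one_mul,
    ev_mul_comm (irr_isClassFunction ψ.2), ev_single_mul, ← ev_apply (fun g => (ψ : G → ℂ) (y * g)),
    ev_incl, ev_idem_eq_sum] at h1
  rw [← h1]
  refine memLocalIdeal_sum _ fun θ hθ => memLocalIdeal_mul_left ?_ ?_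
  · exact memLocalRing_of_isIntegral (isIntegral_inner_comm P (fun u hu => hy u hu)
      (gen_of_irr ψ.2) (gen_of_irr θ.2))
  · obtain ⟨g, θ', hθ', rfl⟩ := (Finset.mem_filter.1 hθ).2
    rw [cIrr_apply_one, Set.mem_singleton_iff.1 hθ']
    exact hα

/-- The members of a block with normal defect group `P` vanish at elements whose `p`-part is
outside `P`. -/
theorem irr_eq_zero_of_ppart_notMem (hM : IsPModular p M) {B : Set (IrrCharacter G)}
    (hB : IsPBlock M B) {P : Subgroup G} [P.Normal] (hD : IsDefectGroup p M B P) {g x : G}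
    (hx : IsPPart p g x) (hxP : x ∉ P) {χ : IrrCharacter G} (hχ : χ ∈ B) : (χ : G → ℂ) g = 0 := by
  have := hM.2.1
  refine irr_eq_zero_of_blockCoeff_mem hM (memLocalRing_blockCoeff hB) hx (fun c hc => ?_) hχ
  by_contra h
  have hS := isSylowIn_of_co_eK_ne_zero hM hB hD ((co_eK_ne_zero_iff hB c).2 h)
  have hxc : Subgroup.zpowers x ≤ Subgroup.centralizer ({c} : Set G) := by
    rw [Subgroup.zpowers_le, mem_centralizer_singleton_iff_commute]
    exact (mem_centralizer_singleton_iff_commute.1 hc).symm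
  obtain ⟨t, -, ht⟩ := hS.exists_conj_le (isPGroup_zpowers_of_orderOf (ppart_orderOf hx)) hxc
  have h1 : t * x * t⁻¹ ∈ P := ht ⟨x, Subgroup.mem_zpowers x, rfl⟩
  have h2 := ‹P.Normal›.conj_mem _ h1 t⁻¹
  exact hxP (by simpa [mul_assoc] using h2)

/-- If the characters of `Q` inflating into `B` reduce to one, `θ`, and `f` is injective on the
`p`-regular elements, then all central characters of `B` agree on `p`-regular classes. -/
theorem centralChar_eq_of_preimage_eq_singleton (hM : IsPModular p M) {Q : Type*} [Group Q]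
    [Finite Q] {f : G →* Q} (hf : Function.Surjective f)
    (hinj : Set.InjOn f {x | ¬ p ∣ orderOf x}) {B : Set (IrrCharacter G)} (hB : IsPBlock M B)
    {θ : IrrCharacter Q} (hθ : inflIrr f hf ⁻¹' B = {θ}) {x : G} (hx : ¬ p ∣ orderOf x)
    {χ : IrrCharacter G} (hχ : χ ∈ B) :
    centralChar (χ : G → ℂ) x = centralChar (inflIrr f hf θ : G → ℂ) x := by
  classical
  have := hM.2.1
  have hc : IsCen (classSum ℂ x * idem B) := (isCen_classSum x).mul (isCen_idem B)
  have key : classSum ℂ x * idem B = centralChar (inflIrr f hf θ : G → ℂ) x • idem B := by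
    refine eq_of_push_eq_of_pRegular hinj (fun g hg => ?_) (fun g hg => ?_) ?_
    · have h0 := sum_mul_conj_eq_zero_of_regular_singular hM (memLocalRing_blockCoeff hB) hx hg
      rw [finsum_mem_irr_eq_sum] at h0
      rw [hc.coeff_eq_sum]
      have : ∑ χ : IrrCharacter G, om (χ : G → ℂ) (classSum ℂ x * idem B) *
          ((χ : G → ℂ) 1 * (χ : G → ℂ) g⁻¹) =
          ((Subgroup.centralizer ({x} : Set G)).index : ℂ) * ∑ χ : IrrCharacter G,
            if χ ∈ B then (χ : G → ℂ) x * conj ((χ : G → ℂ) g) else 0 := by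
        rw [Finset.mul_sum]
        refine Finset.sum_congr rfl fun χ _ => ?_
        rw [om_mul χ (isCen_classSum x), om_idem, om_classSum_irr, centralChar, conj_irr_apply]
        have := irr_apply_one_ne_zero χ.2
        split_ifs
        · field_simp
        · simp
      rw [this, h0, mul_zero, mul_zero]
    · rw [coeff_smul_apply', coeff_idem,
        blockCoeff_eq_zero_of_dvd hM (memLocalRing_blockCoeff hB) hg, mul_zero]
    · rw [map_mul, map_smul, push_idem f hf, hθ]
      refine IsCen.eq_of_om (((isCen_classSum x).push hf).mul (isCen_idem _))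
        ((isCen_idem _).smul _) fun η => ?_
      rw [om_mul' η _ (isCen_idem _), om_smul, om_idem]
      split_ifs with h
      · rw [Set.mem_singleton_iff.1 h, ← om_inflIrr f hf, om_classSum_irr]
      · simp
  have h1 := congrArg (om (χ : G → ℂ)) key
  rwa [om_mul χ (isCen_classSum x), om_smul, om_idem_of_mem hχ, mul_one, mul_one,
    om_classSum_irr] at h1

section Central

variable {P : Subgroup G}

theorem normal_of_sup_centralizer (hG : P ⊔ Subgroup.centralizer (P : Set G) = ⊤) : P.Normal := by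
  rw [← Subgroup.normalizer_eq_top_iff, eq_top_iff, ← hG]
  exact sup_le Subgroup.le_normalizer (Subgroup.centralizer_le_normalizer _)

theorem exists_mul_of_sup_centralizer (hG : P ⊔ Subgroup.centralizer (P : Set G) = ⊤) (g : G) :
    ∃ a ∈ P, ∃ c ∈ Subgroup.centralizer (P : Set G), a * c = g := by
  have := normal_of_sup_centralizer hG
  have h : g ∈ P ⊔ Subgroup.centralizer (P : Set G) := hG ▸ Subgroup.mem_top g
  rw [← SetLike.mem_coe, Subgroup.normal_mul] at h
  obtain ⟨a, ha, c, hc, h⟩ := h
  exact ⟨a, ha, c, hc, h⟩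

theorem irr_mul_of_sup_centralizer (hG : P ⊔ Subgroup.centralizer (P : Set G) = ⊤)
    {χ : G → ℂ} (hχ : IsIrrCharacter G χ) {u x : G} (hu : u ∈ P)
    (hx : x ∈ Subgroup.centralizer (P : Set G)) : χ (u * x) = χ u * χ x / χ 1 := by
  classical
  let := Fintype.ofFinite G
  have := normal_of_sup_centralizer hG
  have h := irr_sum_mul_conj hχ u x
  have h1 : ∀ g : G, χ (u * (g * x * g⁻¹)) = χ (u * x) := by
    intro g
    obtain ⟨a, ha, c, hc, rfl⟩ := exists_mul_of_sup_centralizer hG g
    have h2 : a * (c * x * c⁻¹) = (c * x * c⁻¹) * a :=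
      (Subgroup.mul_mem _ (Subgroup.mul_mem _ hc hx) (Subgroup.inv_mem _ hc)) a ha
    have h3 : u * c = c * u := hc u hu
    rw [← irr_isClassFunction hχ (u * x) c]
    congr 1
    calc u * (a * c * x * (a * c)⁻¹) = u * (a * (c * x * c⁻¹)) * a⁻¹ := by group
      _ = u * c * x * c⁻¹ := by rw [h2]; group
      _ = c * (u * x) * c⁻¹ := by rw [h3]; group
  simp only [h1, Finset.sum_const, Finset.card_univ, nsmul_eq_mul, ← Nat.card_eq_fintype_card] at h
  have h0 : (Nat.card G : ℂ) ≠ 0 := by exact_mod_cast Nat.card_pos.ne'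
  rw [mul_assoc, mul_div_assoc] at h
  exact mul_left_cancel₀ h0 h

theorem cIrr_of_sup_centralizer [P.Normal] (hG : P ⊔ Subgroup.centralizer (P : Set G) = ⊤)
    (g : G) (α : IrrCharacter P) : cIrr g α = α := by
  obtain ⟨a, ha, c, hc, rfl⟩ := exists_mul_of_sup_centralizer hG g
  rw [← cIrr_cIrr, cIrr_of_mem ha, cIrr_of_mem_centralizer hc]

theorem index_centralizer_of_sup (hP : IsPGroup p P)
    (hG : P ⊔ Subgroup.centralizer (P : Set G) = ⊤) :
    ∃ k : ℕ, (Subgroup.centralizer (P : Set G)).index = p ^ k := by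
  have := normal_of_sup_centralizer hG
  have h1 : (Subgroup.centralizer (P : Set G)).index =
      (Subgroup.centralizer (P : Set G)).relIndex P := by
    rw [← Subgroup.relIndex_sup_right P, hG, Subgroup.relIndex_top_right]
  rw [h1]
  exact (hP.index _)

/-- The block of `G ⧸ P` dominated by a block with defect group `P`, `G = P C(P)`, has defect
zero. -/
theorem exists_preimage_eq_singleton (hM : IsPModular p M) [P.Normal]
    (hG : P ⊔ Subgroup.centralizer (P : Set G) = ⊤) {B : Set (IrrCharacter G)}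
    (hB : IsPBlock M B) (hD : IsDefectGroup p M B P) :
    ∃ θ : IrrCharacter (G ⧸ P),
      inflIrr (QuotientGroup.mk' P) (QuotientGroup.mk'_surjective P) ⁻¹' B = {θ} ∧
      (charDegree (θ : G ⧸ P → ℂ)).factorization p = P.index.factorization p := by
  have := hM.2.1
  obtain ⟨y, hy, hS⟩ := isDefectGroup_iff.1 hD
  have hinj := injOn_mk'_of_index_centralizer hS.isPGroup (index_centralizer_of_sup hS.isPGroup hG)
  have hb := isPBlock_preimage_inflIrr hM (QuotientGroup.mk'_surjective P) hinj hB
  obtain ⟨θ, hθ⟩ := block_nonempty hb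
  have h1 := hy.2.2 _ hθ
  have hdeg : (charDegree (θ : G ⧸ P → ℂ)).factorization p = P.index.factorization p := by
    refine le_antisymm (factorization_charDegree_le θ) (not_lt.1 fun hlt => h1 ?_)
    rw [centralChar, inflIrr_apply_one, ← cast_charDegree, mul_div_right_comm]
    refine memLocalIdeal_mul_right ?_ (memLocalRing_irr_apply _ y)
    rw [memLocalIdeal_natCast_div_natCast hM Subgroup.index_ne_zero_of_finite
      (charDegree_pos θ).ne']
    refine lt_of_lt_of_eq hlt ?_
    have h2 := congrArg (fun n => n.factorization p)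
      (Subgroup.card_mul_index (Subgroup.centralizer ({y} : Set G)))
    have h3 := congrArg (fun n => n.factorization p) (Subgroup.card_mul_index P)
    simp only [Nat.factorization_mul Nat.card_pos.ne' Subgroup.index_ne_zero_of_finite,
      Finsupp.add_apply] at h2 h3
    rw [hS.card_eq, Nat.Prime.factorization_pow hM.1, Finsupp.single_eq_same] at h3
    omega
  exact ⟨θ, (block_eq_blockOf hb hθ).trans (blockOf_eq_singleton_of_defect_zero hM hdeg), hdeg⟩

/-- Two members of a block with defect group `P`, `G = P C(P)`, over the same character of `P`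
are equal. -/
theorem eq_of_over_of_sup_centralizer (hM : IsPModular p M) [P.Normal] [Fintype P]
    (hG : P ⊔ Subgroup.centralizer (P : Set G) = ⊤) {B : Set (IrrCharacter G)}
    (hB : IsPBlock M B) (hD : IsDefectGroup p M B P) {χ ψ : IrrCharacter G} (hχ : χ ∈ B)
    (hψ : ψ ∈ B) {α : IrrCharacter P} (h1 : classInner (fun n : P => (χ : G → ℂ) n) α ≠ 0)
    (h2 : classInner (fun n : P => (ψ : G → ℂ) n) α ≠ 0) : χ = ψ := by
  classical
  let := Fintype.ofFinite G
  have := hM.2.1
  have hP := isPGroup_of_isDefectGroup hD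
  have hidx := index_centralizer_of_sup hP hG
  have hinj := injOn_mk'_of_index_centralizer hP hidx
  obtain ⟨θ, hθ, -⟩ := exists_preimage_eq_singleton hM hG hB hD
  have hc : ∀ g, centralChar (χ : G → ℂ) g = centralChar (ψ : G → ℂ) g →
      (χ : G → ℂ) g / (χ : G → ℂ) 1 = (ψ : G → ℂ) g / (ψ : G → ℂ) 1 := by
    intro g h
    rw [centralChar, centralChar, mul_div_assoc, mul_div_assoc] at h
    exact mul_left_cancel₀ (Nat.cast_ne_zero.2 Subgroup.index_ne_zero_of_finite) h
  have hχ1 := irr_apply_one_ne_zero χ.2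
  have hψ1 := irr_apply_one_ne_zero ψ.2
  have key : ∀ g, (χ : G → ℂ) g / (χ : G → ℂ) 1 = (ψ : G → ℂ) g / (ψ : G → ℂ) 1 := by
    intro g
    by_cases hg : pPart p g ∈ P
    · have hx := mem_of_index_eq_pow_of_not_dvd hidx (not_dvd_orderOf_pReg (p := p) g)
      have e1 := hc _ ((centralChar_eq_induced_of_inner χ α h1 hg).trans
        (centralChar_eq_induced_of_inner ψ α h2 hg).symm)
      have e2 := hc _ ((centralChar_eq_of_preimage_eq_singleton hM _ hinj hB hθ
        (not_dvd_orderOf_pReg g) hχ).trans (centralChar_eq_of_preimage_eq_singleton hM _ hinj hB hθ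
        (not_dvd_orderOf_pReg g) hψ).symm)
      rw [← pPart_mul_pReg (p := p) g, irr_mul_of_sup_centralizer hG χ.2 hg hx,
        irr_mul_of_sup_centralizer hG ψ.2 hg hx, div_div, div_div, mul_div_mul_comm,
        mul_div_mul_comm, e1, e2]
    · rw [irr_eq_zero_of_ppart_notMem hM hB hD (isPPart_pPart g) hg hχ,
        irr_eq_zero_of_ppart_notMem hM hB hD (isPPart_pPart g) hg hψ, zero_div, zero_div]
  have h3 : (χ : G → ℂ) = ((χ : G → ℂ) 1 / (ψ : G → ℂ) 1) • (ψ : G → ℂ) := by
    funext g
    have := key g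
    rw [Pi.smul_apply, smul_eq_mul]
    field_simp at this ⊢
    exact this
  refine Subtype.ext (irr_eq_of_inner_ne_zero χ.2 ψ.2 ?_)
  rw [h3, classInner_smul_left, irr_inner_self ψ.2, mul_one]
  exact div_ne_zero hχ1 hψ1

theorem card_block_of_sup_centralizer (hM : IsPModular p M)
    (hG : P ⊔ Subgroup.centralizer (P : Set G) = ⊤) {B : Set (IrrCharacter G)}
    (hB : IsPBlock M B) (hD : IsDefectGroup p M B P) :
    Nat.card B = Nat.card (ConjClasses P) := by
  have := normal_of_sup_centralizer hG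
  let := Fintype.ofFinite P
  choose α hα using fun χ : IrrCharacter G => exists_constituent P χ
  rw [← card_irr_eq_card_conjClasses]
  refine Nat.card_eq_of_bijective (fun χ : B => α χ) ⟨fun χ ψ h => Subtype.ext ?_, fun β => ?_⟩
  · exact eq_of_over_of_sup_centralizer hM hG hB hD χ.2 ψ.2 (hα χ) (by
      have h' : α χ = α ψ := h
      rw [h']; exact hα ψ)
  · obtain ⟨ψ, hψ, h⟩ := exists_mem_over_of_isDefectGroup hM hB hD β
    obtain ⟨g, hg⟩ := exists_eq_cIrr_of_inner ψ h (hα ψ)
    exact ⟨⟨ψ, hψ⟩, hg.trans (cIrr_of_sup_centralizer hG g β)⟩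

end Central

end CL.Blocks
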