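import Cfsg.Agent.Blocks.NormalCover
import Cfsg.Agent.Blocks.SylowIn
import Cfsg.Agent.Transfer.SylowIn
import Cfsg.Agent.S0905

/-!
# `G`-classes inside a normal subgroup; class sums avoiding the centralizer of a normal `p`-subgroup
-/

set_option linter.unusedSectionVars false

namespace CL.Blocks

open Cfsg CL.Char
open scoped MonoidAlgebra ComplexConjugate

variable {G : Type*} [Group G] [Finite G] {M : Ideal AlgInt} {p : ℕ}

theorem idealCoeff_map_of_map_zmod (hM : IsPModular p M) {a : ℤ[G]}
    (h : MonoidAlgebra.mapRingHom G (Int.castRingHom (ZMod p)) a = 0) :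
    IdealCoeff M (MonoidAlgebra.mapRingHom G (Int.castRingHom ℂ) a) := by
  intro g
  have h1 := congrArg (fun b : (ZMod p)[G] => b.coeff g) h
  simp only [MonoidAlgebra.coeff_mapRingHom] at h1 ⊢
  exact (memLocalIdeal_intCast hM).2 ((ZMod.intCast_zmod_eq_zero_iff_dvd _ _).1 h1)

/-- If no conjugate of `g` centralizes the normal `p`-subgroup `Q`, then all central characters
vanish modulo `p` on the class of `g`. -/
theorem memLocalIdeal_centralChar_of_normal_pgroup (hM : IsPModular p M) {Q : Subgroup G}
    [hQn : Q.Normal] (hQ : IsPGroup p Q) {g : G} (hg : g ∉ Subgroup.centralizer (Q : Set G))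
    (χ : IrrCharacter G) : MemLocalIdeal M (centralChar (χ : G → ℂ) g) := by
  have := hM.2.1
  have : Fact p.Prime := ⟨hM.1⟩
  have hle : Q ≤ pCore p G := le_sSup ⟨hQn, hQ⟩
  obtain ⟨n, hn⟩ := Cfsg.Agent.S0905.result p (ZMod p) g fun x hx hx' =>
    hg (mem_of_isConj_of_mem (Subgroup.centralizer_le hle hx') hx.symm)
  rw [← classSum_eq_finsum, ← map_classSum (Int.castRingHom (ZMod p)), ← map_pow] at hn
  have h1 := idealCoeff_map_of_map_zmod hM hn
  rw [map_pow, map_classSum] at h1
  have h2 := memLocalIdeal_om χ ((isCen_classSum g).pow n) h1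
  rw [om_pow χ (isCen_classSum g), om_classSum_irr] at h2
  exact memLocalIdeal_of_pow (memLocalRing_centralChar χ g) h2

section Normal

variable {N : Subgroup G} [hN : N.Normal]

open scoped Classical in
/-- The `N`-classes contained in the `G`-class of `n`. -/
noncomputable def fusedClasses (N : Subgroup G) (n : G) : Finset (ConjClasses N) :=
  haveI := Fintype.ofFinite (ConjClasses N)
  Finset.univ.filter fun c => IsConj n ((Quotient.out c : N) : G)

omit hN in
theorem inducedCentralChar_eq_sum_fused {θ : N → ℂ} (hθ : IsClassFunction N θ) (n : G) :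
    inducedCentralChar N θ n = ∑ c ∈ fusedClasses N n, centralChar θ (Quotient.out c) := by
  classical
  let _ := Fintype.ofFinite (ConjClasses N)
  rw [← om_trunc_classSum, ((isCen_classSum n).trunc N).om_eq_sum hθ, fusedClasses,
    Finset.sum_filter]
  refine Finset.sum_congr rfl fun c _ => ?_
  rw [coeff_trunc, coeff_classSum]
  split_ifs <;> simp

theorem exists_conjNormal_of_mem_fused {n : N} {c : ConjClasses N}
    (hc : c ∈ fusedClasses N (n : G)) : ∃ g : G, Quotient.out c = MulAut.conjNormal g n := by
  classical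
  rw [fusedClasses, Finset.mem_filter] at hc
  obtain ⟨g, hg⟩ := isConj_iff.1 hc.2
  exact ⟨g, Subtype.ext hg.symm⟩

theorem card_fused_mul_index (n : N) :
    (fusedClasses N (n : G)).card * (Subgroup.centralizer ({n} : Set N)).index =
      (Subgroup.centralizer ({(n : G)} : Set G)).index := by
  have := Fintype.ofFinite N
  have h1 := centralChar_eq_induced_of_inner (irrOne G) (irrOne N)
    (by rw [show (fun n : N => (irrOne G : G → ℂ) n) = irrOne N from rfl,
      irr_inner_self (irrOne N).2]; exact one_ne_zero) n.2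
  rw [inducedCentralChar_eq_sum_fused (irr_isClassFunction (irrOne N).2),
    Finset.sum_congr rfl (g := fun _ => ((Subgroup.centralizer ({n} : Set N)).index : ℂ)),
    Finset.sum_const, nsmul_eq_mul] at h1
  · simp only [centralChar, irrOne_apply, mul_one, div_one] at h1
    exact_mod_cast h1.symm
  · intro c hc
    obtain ⟨g, hg⟩ := exists_conjNormal_of_mem_fused hc
    rw [hg, centralChar, centralizer_index_conjNormal]
    simp [irrOne_apply]

theorem memLocalIdeal_induced_sub_card_fused_mul [M.IsMaximal] {b : Set (IrrCharacter N)}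
    (hb : IsPBlock M b) (hinv : ∀ g : G, ∀ θ ∈ b, cIrr g θ ∈ b) {θ : IrrCharacter N}
    (hθ : θ ∈ b) (n : N) : MemLocalIdeal M (inducedCentralChar N (θ : N → ℂ) n -
      (fusedClasses N (n : G)).card * centralChar (θ : N → ℂ) n) := by
  rw [inducedCentralChar_eq_sum_fused (irr_isClassFunction θ.2), ← nsmul_eq_mul,
    ← Finset.sum_const]
  refine memLocalIdeal_sum_sub_sum _ fun c hc => ?_
  obtain ⟨g, hg⟩ := exists_conjNormal_of_mem_fused hc
  rw [hg, ← centralChar_cIrr]
  exact sameBlock_of_mem hb (hinv g θ hθ) hθ n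

omit hN [Finite G] in
theorem centralizer_coe_subgroupOf (n : N) :
    (Subgroup.centralizer ({(n : G)} : Set G) ⊓ N).subgroupOf N =
      Subgroup.centralizer ({n} : Set N) := by
  ext x
  simp only [Subgroup.mem_subgroupOf, Subgroup.mem_inf, SetLike.coe_mem, and_true,
    Subgroup.mem_centralizer_singleton_iff, Subtype.ext_iff, Subgroup.coe_mul]

theorem IsSylowIn.inf_subgroupOf_centralizer [Fact p.Prime] {P : Subgroup G} {n : N}
    (h : IsSylowIn p P (Subgroup.centralizer ({(n : G)} : Set G))) :
    IsSylowIn p ((P ⊓ N).subgroupOf N) (Subgroup.centralizer ({n} : Set N)) := by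
  have h1 : CL.Transfer.IsSylowIn p P (Subgroup.centralizer ({(n : G)} : Set G)) :=
    CL.Transfer.isSylowIn_iff.2 h
  have h2 := (h1.inf_normal (N := Subgroup.centralizer ({(n : G)} : Set G) ⊓ N) inf_le_left
    ((le_inf Subgroup.le_normalizer (by rw [Subgroup.normalizer_eq_top]; exact le_top)).trans
      Subgroup.inf_normalizer_le_normalizer_inf)).subgroupOf (K := N) inf_le_right
  rw [centralizer_coe_subgroupOf, ← inf_assoc, inf_eq_left.2 h.le] at h2
  exact CL.Transfer.isSylowIn_iff.1 h2

end Normal

end CL.Blocks
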