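import Cfsg.Agent.Blocks.QuotBasic
import Cfsg.Agent.Blocks.NormalCover

/-!
# Blocks of quotient groups
-/

set_option linter.unusedSectionVars false

namespace CL.Blocks

open Cfsg CL.Char
open scoped MonoidAlgebra ComplexConjugate

variable {G : Type*} [Group G] [Finite G] {Q : Type*} [Group Q] [Finite Q]
  {M : Ideal AlgInt} {p : ℕ}

theorem sameBlock_inflIrr [M.IsMaximal] (f : G →* Q) (hf : Function.Surjective f)
    {χ ψ : IrrCharacter Q} (h : SameBlock M (χ : Q → ℂ) (ψ : Q → ℂ)) :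
    SameBlock M (inflIrr f hf χ : G → ℂ) (inflIrr f hf ψ : G → ℂ) := by
  refine sameBlock_iff_om.2 fun a ha hi => ?_
  rw [om_inflIrr, om_inflIrr]
  exact sameBlock_iff_om.1 h _ (ha.push hf) (hi.push f)

/-- If every central integral element supported on `p`-regular elements lifts, blocks of the
quotient are separated in `G`. -/
theorem sameBlock_of_inflIrr_of_lift (hM : IsPModular p M) (f : G →* Q)
    (hf : Function.Surjective f)
    (hl : ∀ a : ℂ[Q], IsCen a → IntCoeff M a → (∀ q, p ∣ orderOf q → a.coeff q = 0) →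
      ∃ z : ℂ[G], IsCen z ∧ IntCoeff M z ∧ push f z = a)
    {χ ψ : IrrCharacter Q}
    (h : SameBlock M (inflIrr f hf χ : G → ℂ) (inflIrr f hf ψ : G → ℂ)) :
    SameBlock M (χ : Q → ℂ) (ψ : Q → ℂ) := by
  have := hM.2.1
  have hb := isPBlock_blockOf (M := M) χ
  obtain ⟨z, hz, hzi, hz'⟩ := hl _ (isCen_idem _) (intCoeff_idem hb)
    fun q hq => blockCoeff_eq_zero_of_dvd hM (memLocalRing_blockCoeff hb) hq
  have h1 := sameBlock_iff_om.1 h z hz hzi
  rw [om_inflIrr, om_inflIrr, hz', om_idem_of_mem (self_mem_blockOf χ)] at h1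
  exact mem_of_memLocalIdeal_om_idem_sub_one (memLocalIdeal_sub_comm h1)

/-! ### Kernel of order prime to `p` -/

theorem exists_lift_of_not_dvd_ker (hM : IsPModular p M) (f : G →* Q)
    (hf : Function.Surjective f) (hk : ¬ p ∣ Nat.card f.ker) {a : ℂ[Q]} (ha : IsCen a)
    (hi : IntCoeff M a) : ∃ z : ℂ[G], IsCen z ∧ IntCoeff M z ∧ push f z = a := by
  have := hM.2.1
  refine ⟨(Nat.card f.ker : ℂ)⁻¹ • mk fun g => a.coeff (f g), IsCen.smul (isCen_mk fun g h => ?_) _,
    IntCoeff.smul (memLocalRing_inv_natCast hM hk) (intCoeff_mk.2 fun g => hi _), ?_⟩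
  · rw [map_mul f, map_mul f, map_inv f, ha]
  · rw [map_smul, push_mk_comp hf, smul_smul, inv_mul_cancel₀, one_smul, mk_coeff]
    exact Nat.cast_ne_zero.2 Nat.card_pos.ne'

theorem sameBlock_inflIrr_iff_of_not_dvd_ker (hM : IsPModular p M) (f : G →* Q)
    (hf : Function.Surjective f) (hk : ¬ p ∣ Nat.card f.ker) {χ ψ : IrrCharacter Q} :
    SameBlock M (inflIrr f hf χ : G → ℂ) (inflIrr f hf ψ : G → ℂ) ↔
      SameBlock M (χ : Q → ℂ) (ψ : Q → ℂ) := by
  have := hM.2.1
  exact ⟨sameBlock_of_inflIrr_of_lift hM f hf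
    fun a ha hi _ => exists_lift_of_not_dvd_ker hM f hf hk ha hi, sameBlock_inflIrr f hf⟩

/-- A normal `p'`-subgroup in the kernel of `χ` is in the kernel of every member of its block. -/
theorem apply_eq_of_sameBlock_of_not_dvd (hM : IsPModular p M) {N : Subgroup G} [N.Normal]
    (hN : ¬ p ∣ Nat.card N) {χ ψ : IrrCharacter G} (h : SameBlock M (χ : G → ℂ) (ψ : G → ℂ))
    (hχ : ∀ n ∈ N, (χ : G → ℂ) n = (χ : G → ℂ) 1) : ∀ n ∈ N, (ψ : G → ℂ) n = (ψ : G → ℂ) 1 := by
  have := hM.2.1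
  have h1 : IntCoeff M (idem {ψ : IrrCharacter G | ∀ n ∈ N, (ψ : G → ℂ) n = (ψ : G → ℂ) 1}) := by
    rw [← smul_setSum_eq_idem]
    exact IntCoeff.smul (memLocalRing_inv_natCast hM hN) (intCoeff_setSum _)
  exact blockOf_subset_of_intCoeff h1 hχ h

theorem exists_inflIrr_of_sameBlock_of_not_dvd_ker (hM : IsPModular p M) (f : G →* Q)
    (hf : Function.Surjective f) (hk : ¬ p ∣ Nat.card f.ker) {χ : IrrCharacter Q}
    {ψ : IrrCharacter G} (h : SameBlock M (inflIrr f hf χ : G → ℂ) (ψ : G → ℂ)) :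
    ∃ ψ' : IrrCharacter Q, inflIrr f hf ψ' = ψ ∧ SameBlock M (χ : Q → ℂ) (ψ' : Q → ℂ) := by
  obtain ⟨ψ', rfl⟩ := exists_inflIrr_eq f hf ψ (apply_eq_of_sameBlock_of_not_dvd hM hk h
    fun n hn => inflIrr_apply_of_mem_ker f hf χ hn)
  exact ⟨ψ', rfl, (sameBlock_inflIrr_iff_of_not_dvd_ker hM f hf hk).1 h⟩

theorem blockOf_inflIrr_of_not_dvd_ker (hM : IsPModular p M) (f : G →* Q)
    (hf : Function.Surjective f) (hk : ¬ p ∣ Nat.card f.ker) (χ : IrrCharacter Q) :
    blockOf M (inflIrr f hf χ : G → ℂ) = inflIrr f hf '' blockOf M (χ : Q → ℂ) := by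
  have := hM.2.1
  ext ψ
  constructor
  · intro h
    obtain ⟨ψ', h1, h2⟩ := exists_inflIrr_of_sameBlock_of_not_dvd_ker hM f hf hk h
    exact ⟨ψ', h2, h1⟩
  · rintro ⟨ψ', h1, rfl⟩
    exact sameBlock_inflIrr f hf h1

/-! ### Homomorphisms injective on `p`-regular elements -/

section RegInj

variable [Fact p.Prime]

theorem exists_pRegular_lift {f : G →* Q} (hf : Function.Surjective f) {q : Q}
    (hq : ¬ p ∣ orderOf q) : ∃ x : G, ¬ p ∣ orderOf x ∧ f x = q := by
  obtain ⟨g, rfl⟩ := hf q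
  exact ⟨pReg p g, not_dvd_orderOf_pReg g, by rw [map_pReg, pReg_eq_self_iff.2 hq]⟩

omit [Finite G] in
/-- If `P` is a `p`-subgroup centralized by all `p`-regular elements, `p`-regular elements in
the same coset of `P` coincide. -/
theorem eq_of_pRegular_of_inv_mul_mem {P : Subgroup G} (hP : IsPGroup p P)
    (hC : ∀ x : G, ¬ p ∣ orderOf x → x ∈ Subgroup.centralizer (P : Set G)) {x y : G}
    (hx : ¬ p ∣ orderOf x) (hy : ¬ p ∣ orderOf y) (h : x⁻¹ * y ∈ P) : x = y := by
  have h1 : Commute (x⁻¹ * y) x := hC x hx _ h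
  by_contra hne
  have h2 : x⁻¹ * y ≠ 1 := fun h3 => hne (inv_mul_eq_one.1 h3)
  have h3 := dvd_orderOf_mul_of_ne_one' h1 (exists_orderOf_eq_pow_of_mem hP h) hx h2
  rw [mul_inv_cancel_left] at h3
  exact hy h3

omit [Finite G] [Finite Q] in
theorem injOn_pRegular_of_ker {f : G →* Q} (hP : IsPGroup p f.ker)
    (hC : ∀ x : G, ¬ p ∣ orderOf x → x ∈ Subgroup.centralizer (f.ker : Set G)) :
    Set.InjOn f {x | ¬ p ∣ orderOf x} := by
  intro x hx y hy h
  refine eq_of_pRegular_of_inv_mul_mem hP hC hx hy ?_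
  rw [MonoidHom.mem_ker, map_mul, map_inv, h, inv_mul_cancel]

open scoped Classical in
variable (p) in
/-- The lift of an element of `ℂ Q` supported on `p`-regular elements. -/
noncomputable def regLift (f : G →* Q) (a : ℂ[Q]) : ℂ[G] :=
  mk fun g => if p ∣ orderOf g then 0 else a.coeff (f g)

theorem coeff_regLift_of_dvd (f : G →* Q) (a : ℂ[Q]) {g : G} (hg : p ∣ orderOf g) :
    (regLift p f a).coeff g = 0 := by
  rw [regLift, coeff_mk, if_pos hg]

theorem coeff_regLift_of_not_dvd (f : G →* Q) (a : ℂ[Q]) {g : G} (hg : ¬ p ∣ orderOf g) :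
    (regLift p f a).coeff g = a.coeff (f g) := by
  rw [regLift, coeff_mk, if_neg hg]

theorem IsCen.regLift (f : G →* Q) {a : ℂ[Q]} (ha : IsCen a) : IsCen (regLift p f a) := by
  intro g h
  by_cases hg : p ∣ orderOf g
  · rw [coeff_regLift_of_dvd f a hg, coeff_regLift_of_dvd f a (by rwa [orderOf_conj'])]
  · rw [coeff_regLift_of_not_dvd f a hg, coeff_regLift_of_not_dvd f a (by rwa [orderOf_conj']),
      map_mul f, map_mul f, map_inv f, ha]

theorem IntCoeff.regLift [M.IsMaximal] (f : G →* Q) {a : ℂ[Q]} (ha : IntCoeff M a) :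
    IntCoeff M (regLift p f a) := by
  intro g
  by_cases hg : p ∣ orderOf g
  · rw [coeff_regLift_of_dvd f a hg]
    exact memLocalRing_zero
  · rw [coeff_regLift_of_not_dvd f a hg]
    exact ha _

theorem coeff_push_of_pRegular {f : G →* Q} (hinj : Set.InjOn f {x | ¬ p ∣ orderOf x})
    {a : ℂ[G]} (ha : ∀ g, p ∣ orderOf g → a.coeff g = 0) {x : G} (hx : ¬ p ∣ orderOf x) :
    (push f a).coeff (f x) = a.coeff x :=
  coeff_push_of_injOn f hinj (fun g hg => ha g (not_not.1 hg)) hx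

theorem eq_of_push_eq_of_pRegular {f : G →* Q} (hinj : Set.InjOn f {x | ¬ p ∣ orderOf x})
    {a b : ℂ[G]} (ha : ∀ g, p ∣ orderOf g → a.coeff g = 0)
    (hb : ∀ g, p ∣ orderOf g → b.coeff g = 0) (h : push f a = push f b) : a = b :=
  eq_of_push_eq_of_injOn f hinj (fun g hg => ha g (not_not.1 hg))
    (fun g hg => hb g (not_not.1 hg)) h

theorem push_regLift {f : G →* Q} (hf : Function.Surjective f)
    (hinj : Set.InjOn f {x | ¬ p ∣ orderOf x}) {a : ℂ[Q]}
    (ha : ∀ q, p ∣ orderOf q → a.coeff q = 0) : push f (regLift p f a) = a := by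
  refine alg_ext fun q => ?_
  by_cases hq : p ∣ orderOf q
  · rw [ha q hq]
    refine coeff_push_of_notMem_image f (X := {x | ¬ p ∣ orderOf x})
      (fun g hg => coeff_regLift_of_dvd f a (not_not.1 hg)) ?_
    rintro ⟨x, hx, rfl⟩
    exact not_dvd_orderOf_map f hx hq
  · obtain ⟨x, hx, rfl⟩ := exists_pRegular_lift hf hq
    rw [coeff_push_of_pRegular hinj (fun g hg => coeff_regLift_of_dvd f a hg) hx,
      coeff_regLift_of_not_dvd f a hx]

theorem sameBlock_inflIrr_iff_of_injOn (hM : IsPModular p M) {f : G →* Q}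
    (hf : Function.Surjective f) (hinj : Set.InjOn f {x | ¬ p ∣ orderOf x})
    {χ ψ : IrrCharacter Q} :
    SameBlock M (inflIrr f hf χ : G → ℂ) (inflIrr f hf ψ : G → ℂ) ↔
      SameBlock M (χ : Q → ℂ) (ψ : Q → ℂ) := by
  have := hM.2.1
  exact ⟨sameBlock_of_inflIrr_of_lift hM f hf fun a ha hi hs =>
    ⟨regLift p f a, ha.regLift f, hi.regLift f, push_regLift hf hinj hs⟩, sameBlock_inflIrr f hf⟩

theorem blockCoeff_preimage_inflIrr (hM : IsPModular p M) {f : G →* Q}
    (hf : Function.Surjective f) (hinj : Set.InjOn f {x | ¬ p ∣ orderOf x})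
    {A : Set (IrrCharacter G)} (hA : IntCoeff M (idem A)) {x : G} (hx : ¬ p ∣ orderOf x) :
    blockCoeff (inflIrr f hf ⁻¹' A) (f x) = blockCoeff A x := by
  rw [← coeff_idem, ← push_idem, coeff_push_of_pRegular hinj _ hx, coeff_idem]
  exact fun g hg => blockCoeff_eq_zero_of_dvd hM hA hg

theorem exists_inflIrr_mem_of_injOn (hM : IsPModular p M) {f : G →* Q}
    (hf : Function.Surjective f) (hinj : Set.InjOn f {x | ¬ p ∣ orderOf x})
    {B : Set (IrrCharacter G)} (hB : IsPBlock M B) : ∃ χ, inflIrr f hf χ ∈ B := by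
  have := hM.2.1
  by_contra hcon
  have h1 : inflIrr f hf ⁻¹' B = ∅ := by
    ext χ
    exact ⟨fun h2 => hcon ⟨χ, h2⟩, fun h2 => h2.elim⟩
  have h2 : idem B = 0 := by
    refine eq_of_push_eq_of_pRegular hinj
      (fun g hg => blockCoeff_eq_zero_of_dvd hM (intCoeff_idem hB) hg) (fun _ _ => rfl) ?_
    rw [push_idem f hf, h1, idem_empty, map_zero]
  obtain ⟨χ, hχ⟩ := block_nonempty hB
  have h3 := om_idem_of_mem hχ
  rw [h2, om_zero] at h3
  exact zero_ne_one h3

/-- The characters of the quotient whose inflation lies in `B` form a block. -/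
theorem isPBlock_preimage_inflIrr (hM : IsPModular p M) {f : G →* Q}
    (hf : Function.Surjective f) (hinj : Set.InjOn f {x | ¬ p ∣ orderOf x})
    {B : Set (IrrCharacter G)} (hB : IsPBlock M B) : IsPBlock M (inflIrr f hf ⁻¹' B) := by
  have := hM.2.1
  obtain ⟨χ, hχ⟩ := exists_inflIrr_mem_of_injOn hM hf hinj hB
  refine ⟨χ, ?_⟩
  ext ψ
  rw [Set.mem_preimage, mem_block_iff_sameBlock hB hχ, sameBlock_inflIrr_iff_of_injOn hM hf hinj]
  rfl

/-- Conjugacy classes of `p`-regular elements are mapped bijectively. -/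
theorem index_centralizer_map_of_injOn {f : G →* Q} (hf : Function.Surjective f)
    (hinj : Set.InjOn f {x | ¬ p ∣ orderOf x}) {x : G} (hx : ¬ p ∣ orderOf x) :
    (Subgroup.centralizer ({f x} : Set Q)).index = (Subgroup.centralizer ({x} : Set G)).index := by
  rw [← ncard_conj_eq_index, ← ncard_conj_eq_index]
  symm
  refine Nat.card_congr (Equiv.ofBijective (fun y => ⟨f y.1, f.map_isConj y.2⟩) ⟨?_, ?_⟩)
  · intro y z h
    refine Subtype.ext (hinj ?_ ?_ (congrArg Subtype.val h))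
    · rw [Set.mem_ofPred_eq, ← orderOf_eq_of_isConj y.2]; exact hx
    · rw [Set.mem_ofPred_eq, ← orderOf_eq_of_isConj z.2]; exact hx
  · rintro ⟨q, hq⟩
    obtain ⟨c, rfl⟩ := isConj_iff.1 hq
    obtain ⟨d, rfl⟩ := hf c
    exact ⟨⟨d * x * d⁻¹, isConj_iff.2 ⟨d, rfl⟩⟩, Subtype.ext (by simp)⟩

theorem centralChar_inflIrr_of_injOn {f : G →* Q} (hf : Function.Surjective f)
    (hinj : Set.InjOn f {x | ¬ p ∣ orderOf x}) (χ : IrrCharacter Q) {x : G}
    (hx : ¬ p ∣ orderOf x) :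
    centralChar (inflIrr f hf χ : G → ℂ) x = centralChar (χ : Q → ℂ) (f x) := by
  rw [centralChar, centralChar, index_centralizer_map_of_injOn hf hinj hx, inflIrr_apply,
    inflIrr_apply_one]

omit [Finite Q] in
/-- The quotient map by a normal `p`-subgroup `P` with `G / C_G(P)` a `p`-group is injective on
`p`-regular elements. -/
theorem injOn_mk'_of_index_centralizer {P : Subgroup G} [P.Normal] (hP : IsPGroup p P)
    (hC : ∃ k : ℕ, (Subgroup.centralizer (P : Set G)).index = p ^ k) :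
    Set.InjOn (QuotientGroup.mk' P) {x | ¬ p ∣ orderOf x} := by
  refine injOn_pRegular_of_ker (by rwa [QuotientGroup.ker_mk']) fun x hx => ?_
  rw [QuotientGroup.ker_mk']
  exact mem_of_index_eq_pow_of_not_dvd hC hx

end RegInj

end CL.Blocks
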