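import Cfsg.Agent.Base
import Cfsg.Agent.Blocks.KleinFour
import Cfsg.Agent.Blocks.QuotBlocks
import Cfsg.Agent.Blocks.CommTrace
import Cfsg.Agent.Char.BrauerChar
import Cfsg.Agent.Solv.Fitting

/-!
# Columns of the principal 2-block attached to the centralizer of an involution
-/

set_option autoImplicit false

open Cfsg Subgroup
open scoped ComplexConjugate

namespace CL.Q8B

open CL.Invol CL.Blocks CL.Char CL.ZStar

theorem pReg_mul_of_isNilpotent {E : Type*} [Group E] [Finite E] [Group.IsNilpotent E] {p : ℕ}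
    [hp : Fact p.Prime] (a b : E) : pReg p (a * b) = pReg p a * pReg p b := by
  have hP : ∀ g : E, pPart p g ∈ pCore p E := fun g => by
    obtain ⟨k, hk⟩ := orderOf_pPart (p := p) g
    exact le_pCore_of_isNilpotent (IsPGroup.of_card (by rw [Nat.card_zpowers, hk]))
      (mem_zpowers _)
  have hR : ∀ g : E, pReg p g ∈ pPrimeCore p E := fun g =>
    le_pPrimeCore_of_isNilpotent (K := zpowers (pReg p g))
      (by rw [Nat.card_zpowers]
          exact ((Nat.Prime.coprime_iff_not_dvd hp.out).mpr (not_dvd_orderOf_pReg g)).symm)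
      (mem_zpowers _)
  have hP' : ∀ g ∈ pCore p E, ∃ k : ℕ, orderOf g = p ^ k := fun g hg => by
    obtain ⟨k, hk⟩ := (IsPGroup.iff_orderOf.mp (pCore_isPGroup p E)) ⟨g, hg⟩
    exact ⟨k, by rw [← hk, ← Subgroup.orderOf_coe]⟩
  have hR' : ∀ g ∈ pPrimeCore p E, ¬ p ∣ orderOf g := fun g hg h =>
    not_dvd_card_pPrimeCore' hp.out (h.trans (orderOf_dvd_natCard _ hg))
  have hc : ∀ x ∈ pCore p E, ∀ y ∈ pPrimeCore p E, Commute x y := fun x hx y hy => by
    obtain ⟨k, hk⟩ := hP' x hx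
    apply commute_of_isNilpotent_of_coprime
    rw [hk]
    exact Nat.Coprime.pow_left k ((Nat.Prime.coprime_iff_not_dvd hp.out).mpr (hR' y hy))
  have h1 : a * b = (pPart p a * pPart p b) * (pReg p a * pReg p b) := by
    calc a * b = (pPart p a * pReg p a) * (pPart p b * pReg p b) := by
          rw [pPart_mul_pReg, pPart_mul_pReg]
      _ = pPart p a * (pReg p a * pPart p b) * pReg p b := by group
      _ = _ := by rw [← (hc _ (hP b) _ (hR a)).eq]; group
  rw [h1]
  exact pReg_mul (hc _ (mul_mem (hP a) (hP b)) _ (mul_mem (hR a) (hR b)))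
    (hP' _ (mul_mem (hP a) (hP b))) (hR' _ (mul_mem (hR a) (hR b)))

/-- The `p'`-part as an endomorphism of a finite nilpotent group. -/
noncomputable def pRegHom (p : ℕ) [Fact p.Prime] (E : Type*) [Group E] [Finite E]
    [Group.IsNilpotent E] : E →* E :=
  MonoidHom.mk' (pReg p) pReg_mul_of_isNilpotent

theorem mem_zpowers_iff_of_orderOf_two {H : Type*} [Group H] {z g : H} (hz : orderOf z = 2) :
    g ∈ zpowers z ↔ g = 1 ∨ g = z := by
  constructor
  · rintro ⟨k, rfl⟩
    have h2 : z ^ (2 : ℤ) = 1 := by rw [zpow_two, mul_self_of_orderOf_two hz]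
    rcases Int.even_or_odd' k with ⟨j, rfl | rfl⟩
    · left; simp only [zpow_mul, h2, one_zpow]
    · right; simp only [zpow_add, zpow_mul, h2, one_zpow, zpow_one, one_mul]
  · rintro (rfl | rfl)
    · exact one_mem _
    · exact mem_zpowers _

section Central

variable {H : Type*} [Group H] [Finite H] {Q : Type*} [Group Q] [Finite Q]

/-- `f : H →* Q` is the quotient by the central involution `z`. -/
structure CenQuot (z : H) (f : H →* Q) : Prop where
  ord : orderOf z = 2
  cen : ∀ g, z * g = g * z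
  surj : Function.Surjective f
  ker : ∀ g, f g = 1 ↔ g = 1 ∨ g = z

open Classical in
/-- The function `z * y ↦ 2 π (f y)` on the section of `z`, zero elsewhere. -/
noncomputable def tau (z : H) (f : H →* Q) (π : Q → ℂ) : H → ℂ :=
  fun h => if Odd (orderOf (z * h)) then 2 * π (f h) else 0

variable {z : H} {f : H →* Q}

omit [Finite H] [Finite Q] in
theorem CenQuot.zz (h : CenQuot z f) (g : H) : z * (z * g) = g := by
  rw [← mul_assoc, mul_self_of_orderOf_two h.ord, one_mul]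

omit [Finite H] [Finite Q] in
theorem CenQuot.map_z_mul (h : CenQuot z f) (g : H) : f (z * g) = f g := by
  rw [map_mul, (h.ker z).mpr (Or.inr rfl), one_mul]

omit [Finite H] [Finite Q] in
theorem CenQuot.not_odd_mul (h : CenQuot z f) {g : H} (hg : Odd (orderOf g)) :
    ¬ Odd (orderOf (z * g)) := by
  have : Fact (Nat.Prime 2) := ⟨Nat.prime_two⟩
  intro h1
  exact h1.not_two_dvd_nat (dvd_orderOf_mul_of_ne_one (h.cen g) ⟨1, by rw [h.ord, pow_one]⟩
    hg.not_two_dvd_nat (ne_one_of_orderOf_two h.ord))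

omit [Finite H] [Finite Q] in
theorem CenQuot.odd_or (h : CenQuot z f) {g : H} (hg : Odd (orderOf (f g))) :
    Odd (orderOf g) ∨ Odd (orderOf (z * g)) := by
  have h1 : f (g ^ orderOf (f g)) = 1 := by rw [map_pow, pow_orderOf_eq_one]
  rcases (h.ker _).mp h1 with h2 | h2
  · exact Or.inl (hg.of_dvd_nat (orderOf_dvd_of_pow_eq_one h2))
  · refine Or.inr (hg.of_dvd_nat (orderOf_dvd_of_pow_eq_one ?_))
    rw [Commute.mul_pow (h.cen g), h2, ← pow_succ]
    obtain ⟨k, hk⟩ := hg
    rw [hk, show 2 * k + 1 + 1 = 2 * (k + 1) by ring, pow_mul, sq_of_orderOf_two h.ord, one_pow]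

omit [Finite H] [Finite Q] in
theorem CenQuot.injOn (h : CenQuot z f) : Set.InjOn f {x | ¬ 2 ∣ orderOf x} := by
  intro a ha b hb hab
  have h1 : f (a * b⁻¹) = 1 := by rw [map_mul, map_inv, hab, mul_inv_cancel]
  rcases (h.ker _).mp h1 with h2 | h2
  · exact mul_inv_eq_one.mp h2
  · exfalso
    have h3 : a = z * b := by rw [← h2]; group
    refine h.not_odd_mul (g := b) (Nat.odd_iff.mpr (Nat.two_dvd_ne_zero.mp hb)) ?_
    rw [← h3]
    exact Nat.odd_iff.mpr (Nat.two_dvd_ne_zero.mp ha)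

omit [Finite H] [Finite Q] in
theorem CenQuot.card_eq (h : CenQuot z f) : Nat.card H = 2 * Nat.card Q := by
  have h1 : f.ker = zpowers z := by
    ext g
    rw [MonoidHom.mem_ker, h.ker, mem_zpowers_iff_of_orderOf_two h.ord]
  rw [card_eq_card_quotient_mul_card_subgroup f.ker,
    Nat.card_congr (QuotientGroup.quotientKerEquivOfSurjective f h.surj).toEquiv, h1,
    Nat.card_zpowers, h.ord, mul_comm]

omit [Finite H] [Finite Q] in
theorem CenQuot.isClassFunction_tau (h : CenQuot z f) {π : Q → ℂ} (hπ : IsClassFunction Q π) :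
    IsClassFunction H (tau z f π) := by
  intro g c
  have h1 : z * (c * g * c⁻¹) = c * (z * g) * c⁻¹ := by
    rw [← mul_assoc, ← mul_assoc, h.cen c]; group
  simp only [tau, h1, orderOf_conj, map_mul, map_inv, hπ (f g) (f c)]

omit [Finite H] [Finite Q] in
theorem sign_of_irr {E : Type*} [Group E] {w : E} (hw : orderOf w = 2) (hc : ∀ g, w * g = g * w)
    {χ : E → ℂ} (hχ : IsIrrCharacter E χ) :
    ∃ ω : ℤ, (ω = 1 ∨ ω = -1) ∧ ∀ g, χ (w * g) = ω * χ g := by
  obtain ⟨ω, h1, h2⟩ := irr_central_mul' hχ hc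
  rw [hw, sq] at h1
  rcases mul_self_eq_one_iff.mp h1 with h3 | h3
  · exact ⟨1, Or.inl rfl, by simpa [h3] using h2⟩
  · exact ⟨-1, Or.inr rfl, by simpa [h3] using h2⟩

omit [Finite Q] in
theorem CenQuot.gen_tau (h : CenQuot z f) {π : Q → ℂ} (hπ : IsGeneralizedCharacter Q π)
    (h0 : ∀ q, ¬ Odd (orderOf q) → π q = 0) : IsGeneralizedCharacter H (tau z f π) := by
  classical
  have : Fact (Nat.Prime 2) := ⟨Nat.prime_two⟩
  have hcl := h.isClassFunction_tau (gen_isClassFunction hπ)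
  refine CL.Brauer.gen_of_elementary hcl fun E p hp hE => ?_
  have := CL.Brauer.elementary_isNilpotent hp hE
  by_cases hzE : z ∈ E
  swap
  · have h1 : (fun e : E => tau z f π e) = 0 := by
      funext e
      rw [tau, if_neg, Pi.zero_apply]
      intro h1
      apply hzE
      have h2 : pPart 2 (e : H) = z := by
        rw [← h.zz e]
        exact pPart_mul (h.cen _) ⟨1, by rw [h.ord, pow_one]⟩ h1.not_two_dvd_nat
      rw [← h2]
      exact pPart_mem e.2
    rw [h1]; exact gen_zero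
  have := Fintype.ofFinite E
  refine gen_of_inner_int (classFun_restrict hcl E) fun χ hχ => ?_
  set w : E := ⟨z, hzE⟩ with hw
  have hw2 : orderOf w = 2 := by rw [← Subgroup.orderOf_coe]; exact h.ord
  have hwc : ∀ g, w * g = g * w := fun g => Subtype.ext (h.cen g)
  have hww : ∀ g, w * (w * g) = g := fun g => Subtype.ext (h.zz g)
  obtain ⟨ω, hω, hχω⟩ := sign_of_irr hw2 hwc hχ
  obtain ⟨n, hn⟩ := gen_inner_int (gen_comp hπ (f.comp E.subtype))
    (gen_comp (gen_of_irr hχ) (pRegHom 2 E))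
  refine ⟨ω * n, ?_⟩
  have hρ : ∀ g : E, pRegHom 2 E (w * g) = pRegHom 2 E g := fun g =>
    pReg_mul_of_commute (hwc g) ⟨1, by rw [hw2, pow_one]⟩
  have hρ' : ∀ g : E, Odd (orderOf (g : H)) → pRegHom 2 E g = g := fun g hg =>
    pReg_eq_self_iff.mpr (by rw [← Subgroup.orderOf_coe]; exact hg.not_two_dvd_nat)
  set F : E → ℂ := fun e => tau z f π e * conj (χ e) with hF
  set F' : E → ℂ := fun e => π (f e) * conj (χ (pRegHom 2 E e)) with hF'
  have key : ∀ e : E, Odd (orderOf (e : H)) →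
      F e + F (w * e) = ω * (F' e + F' (w * e)) := by
    intro e he
    have e1 : ((w * e : E) : H) = z * e := rfl
    simp only [hF, hF', tau, if_neg (h.not_odd_mul he), e1, h.zz, if_pos he, h.map_z_mul, hρ,
      hρ' e he, hχω, map_mul (starRingEnd ℂ), map_intCast]
    ring
  have key' : ∀ e : E, F e + F (w * e) = ω * (F' e + F' (w * e)) := by
    intro e
    by_cases h1 : Odd (orderOf (e : H))
    · exact key e h1
    by_cases h2 : Odd (orderOf (z * e))
    · have := key (w * e) h2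
      rwa [hww, add_comm, add_comm (F' _)] at this
    have h3 : π (f e) = 0 := h0 _ fun h3 => (h.odd_or h3).elim h1 h2
    have e1 : ((w * e : E) : H) = z * e := rfl
    simp only [hF, hF', tau, if_neg h2, e1, h.zz, if_neg h1, h.map_z_mul, h3]
    ring
  have s1 : ∑ e, F (w * e) = ∑ e, F e := Fintype.sum_equiv (Equiv.mulLeft w) _ _ fun _ => rfl
  have s2 : ∑ e, F' (w * e) = ∑ e, F' e := Fintype.sum_equiv (Equiv.mulLeft w) _ _ fun _ => rfl
  have s3 : ∑ e, (F e + F (w * e)) = ∑ e, (ω : ℂ) * (F' e + F' (w * e)) :=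
    Finset.sum_congr rfl fun e _ => key' e
  rw [Finset.sum_add_distrib, ← Finset.mul_sum, Finset.sum_add_distrib, s1, s2] at s3
  have s4 : ∑ e, F e = ω * ∑ e, F' e := by linear_combination s3 / 2
  rw [Int.cast_mul, ← hn, classInner_def, classInner_def]
  change _ * ∑ e, F e = ω * (_ * ∑ e, F' e)
  rw [s4]; ring

open Classical in
theorem CenQuot.sum_odd [Fintype H] [Fintype Q] (h : CenQuot z f) {F : Q → ℂ}
    (h0 : ∀ q, ¬ Odd (orderOf q) → F q = 0) :
    ∑ y : H with Odd (orderOf y), F (f y) = ∑ q, F q := by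
  have : Fact (Nat.Prime 2) := ⟨Nat.prime_two⟩
  rw [← Finset.sum_filter_of_ne (p := fun q : Q => Odd (orderOf q))
    (fun q _ hq => by by_contra h1; exact hq (h0 q h1))]
  refine Finset.sum_bij (fun y _ => f y) ?_ ?_ ?_ fun _ _ => rfl
  · intro y hy
    simp only [Finset.mem_filter, Finset.mem_univ, true_and] at hy ⊢
    exact hy.of_dvd_nat (orderOf_map_dvd f y)
  · intro a ha b hb hab
    simp only [Finset.mem_filter, Finset.mem_univ, true_and] at ha hb
    exact h.injOn ha.not_two_dvd_nat hb.not_two_dvd_nat hab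
  · intro q hq
    simp only [Finset.mem_filter, Finset.mem_univ, true_and] at hq ⊢
    obtain ⟨x, hx, rfl⟩ := exists_pRegular_lift (p := 2) h.surj hq.not_two_dvd_nat
    exact ⟨x, Nat.odd_iff.mpr (Nat.two_dvd_ne_zero.mp hx), rfl⟩

omit [Finite H] in
open Classical in
theorem CenQuot.classInner_tau [Fintype H] (h : CenQuot z f) (φ : H → ℂ) (π : Q → ℂ) :
    classInner φ (tau z f π) =
      (Nat.card Q : ℂ)⁻¹ * ∑ y : H with Odd (orderOf y), φ (z * y) * conj (π (f y)) := by
  have s1 : ∑ g, φ g * conj (tau z f π g) = ∑ g, φ (z * g) * conj (tau z f π (z * g)) :=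
    (Fintype.sum_equiv (Equiv.mulLeft z) _ _ fun _ => rfl).symm
  rw [classInner_def, s1, h.card_eq, Finset.sum_filter, Finset.mul_sum, Finset.mul_sum]
  refine Finset.sum_congr rfl fun g _ => ?_
  have hQ : (Nat.card Q : ℂ) ≠ 0 := natCard_ne_zero_complex Q
  simp only [tau, h.zz, h.map_z_mul]
  split_ifs
  · rw [map_mul (starRingEnd ℂ), map_ofNat]
    push_cast
    field_simp
  · simp

/-- On elements of odd order the principal blocks of `H` and of `H / ⟨z⟩` are compared. -/
theorem CenQuot.sum_pb {M : Ideal AlgInt} (hM : IsPModular 2 M) (h : CenQuot z f) {y y' : H}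
    (hy : Odd (orderOf y)) (hy' : Odd (orderOf y')) :
    ∑ ξ ∈ pb M H, (ξ : H → ℂ) y * conj ((ξ : H → ℂ) y') =
      2 * ∑ ζ ∈ pb M Q, (ζ : Q → ℂ) (f y) * conj ((ζ : Q → ℂ) (f y')) := by
  classical
  have : Fact (Nat.Prime 2) := ⟨Nat.prime_two⟩
  have hz1 := ne_one_of_orderOf_two h.ord
  have h1 := pb_orth hM (g := z * y) (h := y') (x := z) (y := 1)
    ⟨y, rfl, h.cen y, ⟨1, by rw [h.ord, pow_one]⟩, hy.not_two_dvd_nat⟩
    (isPPart_one_of_not_dvd hy'.not_two_dvd_nat) (fun h2 => hz1 (isConj_one_left.mp h2))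
  have h2 : (pb M H).filter (fun ξ : IrrCharacter H => (ξ : H → ℂ) z = (ξ : H → ℂ) 1) =
      (pb M Q).image (inflIrr f h.surj) := by
    have h3 : ∀ ζ : IrrCharacter Q, inflIrr f h.surj ζ ∈ pb M H ↔ ζ ∈ pb M Q := fun ζ => by
      rw [mem_pb, mem_pb]
      exact sameBlock_inflIrr_iff_of_injOn hM h.surj h.injOn (χ := irrOne Q) (ψ := ζ)
    ext ξ
    simp only [Finset.mem_filter, Finset.mem_image]
    constructor
    · rintro ⟨h4, h5⟩
      obtain ⟨ζ, rfl⟩ := exists_inflIrr_eq f h.surj ξ (fun n hn => by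
        rcases (h.ker n).mp hn with rfl | rfl
        · rfl
        · exact h5)
      exact ⟨ζ, (h3 ζ).mp h4, rfl⟩
    · rintro ⟨ζ, h4, rfl⟩
      exact ⟨(h3 ζ).mpr h4, inflIrr_apply_of_mem_ker f h.surj ζ ((h.ker z).mpr (Or.inr rfl))⟩
  have h3 : ∑ ξ ∈ pb M H, (ξ : H → ℂ) y * conj ((ξ : H → ℂ) y') =
      ∑ ξ ∈ pb M H, ((ξ : H → ℂ) y * conj ((ξ : H → ℂ) y') +
        (ξ : H → ℂ) (z * y) * conj ((ξ : H → ℂ) y')) := by
    rw [Finset.sum_add_distrib, h1, add_zero]
  rw [h3, ← Finset.sum_filter_add_sum_filter_not _ (fun ξ : IrrCharacter H => (ξ : H → ℂ) z = (ξ : H → ℂ) 1), h2,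
    Finset.sum_image (fun a _ b _ hab => inflIrr_injective f h.surj hab), Finset.mul_sum,
    Finset.sum_eq_zero (s := Finset.filter _ _), add_zero]
  · refine Finset.sum_congr rfl fun ζ _ => ?_
    simp only [inflIrr_apply, h.map_z_mul]
    ring
  · intro ξ hξ
    obtain ⟨ω, hω, h4⟩ := sign_of_irr h.ord h.cen ξ.2
    rcases hω with rfl | rfl
    · exfalso
      apply (Finset.mem_filter.mp hξ).2
      simpa using h4 1
    · rw [h4]; push_cast; ring

end Central

section Col

variable {G : Type*} [Group G] [Fintype G] {Q : Type*} [Group Q] [Fintype Q] {M : Ideal AlgInt}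
  {z : G} {z' : centralizer ({z} : Set G)} {f : centralizer ({z} : Set G) →* Q}

open Classical in
/-- The entry of the column attached to `π`. -/
noncomputable def colA (z : G) (f : centralizer ({z} : Set G) →* Q) (π : Q → ℂ) (χ : G → ℂ) : ℂ :=
  (Nat.card Q : ℂ)⁻¹ *
    ∑ y : centralizer ({z} : Set G) with Odd (orderOf y), χ (z * y) * conj (π (f y))

theorem colA_int (hz : (z' : G) = z) (h : CenQuot z' f) {π : Q → ℂ}
    (hπ : IsGeneralizedCharacter Q π) (h0 : ∀ q, ¬ Odd (orderOf q) → π q = 0)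
    (χ : IrrCharacter G) : ∃ n : ℤ, colA z f π χ = n := by
  classical
  obtain ⟨n, hn⟩ := gen_inner_int (gen_restrict (gen_of_irr χ.2) (centralizer ({z} : Set G)))
    (h.gen_tau hπ h0)
  refine ⟨n, ?_⟩
  rw [← hn, h.classInner_tau, colA]
  simp only [Subgroup.coe_mul, hz]

theorem colA_one (h : CenQuot z' f) {π : Q → ℂ} (h0 : ∀ q, ¬ Odd (orderOf q) → π q = 0) :
    colA z f π (irrOne G) = classInner (fun _ => 1) π := by
  classical
  rw [colA, classInner_def, ← h.sum_odd (F := fun q => 1 * conj (π q))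
    (fun q hq => by rw [h0 q hq]; simp)]
  simp only [irrOne_apply]

omit [Fintype Q] in
theorem sum_colA_mul (π : Q → ℂ) (c : IrrCharacter G → ℂ) :
    open Classical in
    ∑ χ ∈ pb M G, colA z f π χ * c χ = (Nat.card Q : ℂ)⁻¹ *
      ∑ y : centralizer ({z} : Set G) with Odd (orderOf y),
        conj (π (f y)) * ∑ χ ∈ pb M G, (χ : G → ℂ) (z * y) * c χ := by
  simp only [colA, Finset.mul_sum, Finset.sum_mul]
  rw [Finset.sum_comm]
  refine Finset.sum_congr rfl fun _ _ => Finset.sum_congr rfl fun _ _ => by ring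

omit [Fintype Q] in
theorem sum_colA_of_not_isConj (hM : IsPModular 2 M) (hz : orderOf z = 2) (π : Q → ℂ) {g x : G}
    (hg : IsPPart 2 g x) (hx : ¬ IsConj z x) :
    ∑ χ ∈ pb M G, colA z f π χ * conj ((χ : G → ℂ) g) = 0 := by
  classical
  rw [sum_colA_mul, Finset.sum_eq_zero, mul_zero]
  intro y hy
  rw [pb_orth hM (x := z) ⟨y, rfl, (mem_centralizer_singleton_iff_commute.mp y.2).symm,
    ⟨1, by rw [hz, pow_one]⟩, ?_⟩ hg hx, mul_zero]
  rw [Subgroup.orderOf_coe]
  exact (Finset.mem_filter.mp hy).2.not_two_dvd_nat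

theorem sum_section (hM : IsPModular 2 M) (hz : orderOf z = 2) (h : CenQuot z' f)
    {y y' : centralizer ({z} : Set G)} (hy : Odd (orderOf y)) (hy' : Odd (orderOf y')) :
    ∑ χ ∈ pb M G, (χ : G → ℂ) (z * y) * conj ((χ : G → ℂ) (z * y')) =
      2 * ∑ ζ ∈ pb M Q, (ζ : Q → ℂ) (f y) * conj ((ζ : Q → ℂ) (f y')) := by
  rw [← h.sum_pb hM hy hy', ← finsum_pb, ← finsum_pb]
  exact principal_sum_mul_conj hM ⟨1, by rw [hz, pow_one]⟩ hy.not_two_dvd_nat hy'.not_two_dvd_nat

theorem sum_colA_section (hM : IsPModular 2 M) (hz : orderOf z = 2) (h : CenQuot z' f)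
    {π : Q → ℂ} (h0 : ∀ q, ¬ Odd (orderOf q) → π q = 0)
    (hB : ∀ q, ∑ ζ ∈ pb M Q, classInner (ζ : Q → ℂ) π * conj ((ζ : Q → ℂ) q) = conj (π q))
    {y' : centralizer ({z} : Set G)} (hy' : Odd (orderOf y')) :
    ∑ χ ∈ pb M G, colA z f π χ * conj ((χ : G → ℂ) (z * y')) = 2 * conj (π (f y')) := by
  classical
  rw [sum_colA_mul, Finset.sum_congr rfl (g := fun y => ∑ ζ ∈ pb M Q,
    2 * conj ((ζ : Q → ℂ) (f y')) * ((ζ : Q → ℂ) (f y) * conj (π (f y)))), Finset.sum_comm,
    ← hB, Finset.mul_sum, Finset.mul_sum]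
  · refine Finset.sum_congr rfl fun ζ _ => ?_
    rw [← Finset.mul_sum, h.sum_odd (F := fun q => (ζ : Q → ℂ) q * conj (π q))
      (fun q hq => by rw [h0 q hq]; simp), classInner_def]
    ring
  · intro y hy
    rw [sum_section hM hz h (Finset.mem_filter.mp hy).2 hy', Finset.mul_sum, Finset.mul_sum]
    exact Finset.sum_congr rfl fun _ _ => by ring

theorem sum_colA_colA (hM : IsPModular 2 M) (hz : orderOf z = 2) (h : CenQuot z' f)
    {π π' : Q → ℂ} (h0 : ∀ q, ¬ Odd (orderOf q) → π q = 0)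
    (hB : ∀ q, ∑ ζ ∈ pb M Q, classInner (ζ : Q → ℂ) π * conj ((ζ : Q → ℂ) q) = conj (π q)) :
    ∑ χ ∈ pb M G, colA z f π χ * conj (colA z f π' χ) = 2 * classInner π' π := by
  classical
  have h1 : ∀ χ : IrrCharacter G, colA z f π χ * conj (colA z f π' χ) =
      ∑ y : centralizer ({z} : Set G) with Odd (orderOf y), (Nat.card Q : ℂ)⁻¹ * π' (f y) *
        (colA z f π χ * conj ((χ : G → ℂ) (z * y))) := by
    intro χ
    rw [colA.eq_1 z f π', map_mul, map_inv₀, map_natCast, map_sum, Finset.mul_sum,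
      Finset.mul_sum]
    refine Finset.sum_congr rfl fun y _ => ?_
    rw [map_mul, Complex.conj_conj]
    ring
  rw [Finset.sum_congr rfl fun χ _ => h1 χ, Finset.sum_comm, classInner_def,
    ← h.sum_odd (F := fun q => π' q * conj (π q)) (fun q hq => by rw [h0 q hq]; simp),
    Finset.mul_sum, Finset.mul_sum]
  refine Finset.sum_congr rfl fun y hy => ?_
  rw [← Finset.mul_sum, sum_colA_section hM hz h h0 hB (Finset.mem_filter.mp hy).2]
  ring

/-- The class multiplication formula for a column vanishing on products of two conjugates. -/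
theorem sum_sq_div_eq_zero (s : Finset (IrrCharacter G)) (c : IrrCharacter G → ℂ)
    (h : ∀ g : G, ∑ χ ∈ s, c χ * conj ((χ : G → ℂ) (z * (g * z * g⁻¹))) = 0) :
    ∑ χ ∈ s, c χ * conj ((χ : G → ℂ) z ^ 2 / (χ : G → ℂ) 1) = 0 := by
  have h1 : ∑ g : G, ∑ χ ∈ s, c χ * conj ((χ : G → ℂ) (z * (g * z * g⁻¹))) = 0 :=
    Finset.sum_eq_zero fun g _ => h g
  rw [Finset.sum_comm] at h1
  apply mul_left_cancel₀ (natCard_ne_zero_complex G)
  rw [mul_zero, ← h1, Finset.mul_sum]
  refine Finset.sum_congr rfl fun χ _ => ?_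
  rw [← Finset.mul_sum, ← map_sum, irr_sum_mul_conj χ.2]
  simp only [map_div₀, map_mul, map_natCast, map_pow]
  ring

end Col

end CL.Q8B
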