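import Cfsg.Agent.Base

/-!
# Integer column calculus for the principal block with quaternion defect group of order 8
-/

set_option autoImplicit false

namespace CL.Q8B

open Finset

variable {ι : Type*} {s : Finset ι} {o : ι}

theorem sq_le_of_sum [DecidableEq ι] {f : ι → ℤ} (ho : o ∈ s) (hf : f o = 1) {n : ℤ}
    (hn : ∑ i ∈ s, f i ^ 2 = n) {i : ι} (hi : i ∈ s) (hio : i ≠ o) : f i ^ 2 ≤ n - 1 := by
  have h1 : ∑ j ∈ ({o, i} : Finset ι), f j ^ 2 ≤ ∑ j ∈ s, f j ^ 2 :=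
    sum_le_sum_of_subset_of_nonneg (by
      intro j hj
      simp only [mem_insert, mem_singleton] at hj
      rcases hj with rfl | rfl <;> assumption) (fun j _ _ => sq_nonneg _)
  rw [sum_pair hio.symm, hf, hn] at h1
  linarith

theorem entry_cases {f : ι → ℤ} (ho : o ∈ s) (hf : f o = 1) {n : ℤ}
    (hn : ∑ i ∈ s, f i ^ 2 = n) (hn4 : n ≤ 4) {i : ι} (hi : i ∈ s) :
    f i = 0 ∨ f i = 1 ∨ f i = -1 := by
  classical
  by_cases hio : i = o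
  · rw [hio, hf]; simp
  have h := sq_le_of_sum ho hf hn hi hio
  have h1 : f i ≤ 1 := by nlinarith
  have h2 : -1 ≤ f i := by nlinarith
  omega

theorem card_support {f : ι → ℤ} (ho : o ∈ s) (hf : f o = 1) {n : ℤ}
    (hn : ∑ i ∈ s, f i ^ 2 = n) (hn4 : n ≤ 4) :
    (((s.filter fun i => f i ≠ 0).card : ℕ) : ℤ) = n := by
  rw [← hn, card_eq_sum_ones, Nat.cast_sum, sum_filter]
  refine sum_congr rfl fun i hi => ?_
  rcases entry_cases ho hf hn hn4 hi with h | h | h <;> simp [h]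

/-- The shape of a column of norm three. -/
structure Three (s : Finset ι) (o : ι) (X C : ι → ℤ) (a b : ι) : Prop where
  a_mem : a ∈ s
  b_mem : b ∈ s
  a_ne : a ≠ o
  b_ne : b ≠ o
  ab : a ≠ b
  C_o : C o = 1
  supp : ∀ i ∈ s, C i ≠ 0 → i = o ∨ i = a ∨ i = b
  C_a : C a = X a
  X_a : X a * X a = 1
  X_b : X b = 0
  C_b : C b * C b = 1

theorem sum_of_supp {R : Type*} [CommRing R] {C : ι → ℤ} {a b : ι} (ho : o ∈ s) (ha : a ∈ s)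
    (hb : b ∈ s) (hao : a ≠ o) (hbo : b ≠ o) (hab : a ≠ b)
    (hs : ∀ i ∈ s, C i ≠ 0 → i = o ∨ i = a ∨ i = b) (g : ι → R) :
    ∑ i ∈ s, (C i : R) * g i = (C o : R) * g o + (C a : R) * g a + (C b : R) * g b := by
  classical
  have hsub : ({o, a, b} : Finset ι) ⊆ s := by
    intro j hj
    simp only [mem_insert, mem_singleton] at hj
    rcases hj with rfl | rfl | rfl <;> assumption
  rw [← sum_subset hsub, sum_insert (by simp [hao.symm, hbo.symm]), sum_pair hab, add_assoc]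
  intro j hj hj'
  have : C j = 0 := by
    by_contra h
    apply hj'
    simpa using hs j hj h
  simp [this]

theorem Three.sum {R : Type*} [CommRing R] {X C : ι → ℤ} {a b : ι} (h : Three s o X C a b)
    (ho : o ∈ s) (g : ι → R) :
    ∑ i ∈ s, (C i : R) * g i = g o + (C a : R) * g a + (C b : R) * g b := by
  rw [sum_of_supp ho h.a_mem h.b_mem h.a_ne h.b_ne h.ab h.supp, h.C_o]
  simp

theorem exists_three {X C : ι → ℤ} (ho : o ∈ s) (hX : X o = 1) (hC : C o = 1)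
    (hXX : ∑ i ∈ s, X i ^ 2 = 4) (hCC : ∑ i ∈ s, C i ^ 2 = 3) (hCX : ∑ i ∈ s, C i * X i = 2) :
    ∃ a b, Three s o X C a b := by
  classical
  have h3 : (s.filter fun i => C i ≠ 0).card = 3 := by
    have := card_support ho hC hCC (by norm_num)
    exact_mod_cast this
  have hoT : o ∈ s.filter fun i => C i ≠ 0 := by simp [ho, hC]
  have h2 : ((s.filter fun i => C i ≠ 0).erase o).card = 2 := by rw [card_erase_of_mem hoT, h3]
  obtain ⟨a, b, hab, hT⟩ := card_eq_two.mp h2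
  have ha : a ∈ (s.filter fun i => C i ≠ 0).erase o := by rw [hT]; simp
  have hb : b ∈ (s.filter fun i => C i ≠ 0).erase o := by rw [hT]; simp
  simp only [mem_erase, mem_filter] at ha hb
  have hs : ∀ i ∈ s, C i ≠ 0 → i = o ∨ i = a ∨ i = b := by
    intro i hi hCi
    by_cases hio : i = o
    · exact Or.inl hio
    · have : i ∈ (s.filter fun i => C i ≠ 0).erase o := by simp [hio, hi, hCi]
      rw [hT] at this
      right; simpa using this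
  have hsum := sum_of_supp (R := ℤ) ho ha.2.1 hb.2.1 ha.1 hb.1 hab hs X
  simp only [Int.cast_id] at hsum
  rw [hCX, hC, hX] at hsum
  have hs' : ∀ i ∈ s, C i ≠ 0 → i = o ∨ i = b ∨ i = a := fun i hi hCi => by
    rcases hs i hi hCi with h | h | h <;> simp [h]
  rcases entry_cases ho hC hCC (by norm_num) ha.2.1 with h1 | h1 | h1 <;>
  rcases entry_cases ho hC hCC (by norm_num) hb.2.1 with h2 | h2 | h2 <;>
  rcases entry_cases ho hX hXX (by norm_num) ha.2.1 with h3 | h3 | h3 <;>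
  rcases entry_cases ho hX hXX (by norm_num) hb.2.1 with h4 | h4 | h4 <;>
  first
    | exact absurd h1 ha.2.2
    | exact absurd h2 hb.2.2
    | (exfalso; rw [h1, h2, h3, h4] at hsum; omega)
    | exact ⟨a, b, ha.2.1, hb.2.1, ha.1, hb.1, hab, hC, hs, by rw [h1, h3], by rw [h3]; norm_num,
        h4, by rw [h2]; norm_num⟩
    | exact ⟨b, a, hb.2.1, ha.2.1, hb.1, ha.1, hab.symm, hC, hs', by rw [h2, h4],
        by rw [h4]; norm_num, h3, by rw [h1]; norm_num⟩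

/-- Two different columns of norm three only meet in the principal row. -/
theorem Three.cross {X C C' D : ι → ℤ} {a b a' b' : ι} (h : Three s o X C a b)
    (h' : Three s o X C' a' b') (ho : o ∈ s) (hD : ∀ i ∈ s, 0 < D i)
    (hCC : ∑ i ∈ s, C i * C' i = 1) (hCD : ∑ i ∈ s, C i * D i = 0)
    (hCD' : ∑ i ∈ s, C' i * D i = 0) : C' b = 0 ∧ C' a = 0 := by
  have e1 := h.sum ho C'
  have e2 := h.sum ho D
  have e3 := h'.sum ho D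
  simp only [Int.cast_id] at e1 e2 e3
  rw [hCC, h'.C_o] at e1
  rw [hCD] at e2
  rw [hCD'] at e3
  have hCa : C a ≠ 0 := by
    rw [h.C_a]; intro h0; have := h.X_a; rw [h0] at this; omega
  have hCb : C b ≠ 0 := by
    intro h0; have := h.C_b; rw [h0] at this; omega
  have hXa : X a ≠ 0 := by rw [← h.C_a]; exact hCa
  have hb : C' b = 0 := by
    by_contra hb
    have hbb : b = b' := by
      rcases h'.supp b h.b_mem hb with h1 | h1 | h1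
      · exact absurd h1 h.b_ne
      · have := h'.X_a; rw [← h1, h.X_b] at this; omega
      · exact h1
    have ha : C' a ≠ 0 := by
      intro h0
      rw [h0] at e1
      have : C b * C' b = 0 := by linarith
      rcases mul_eq_zero.mp this with h1 | h1
      · exact hCb h1
      · exact hb h1
    have haa : a = a' := by
      rcases h'.supp a h.a_mem ha with h1 | h1 | h1
      · exact absurd h1 h.a_ne
      · exact h1
      · exact absurd (h1 ▸ h'.X_b) hXa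
    subst hbb haa
    rw [h'.C_a, ← h.C_a] at e3
    rw [h'.C_a, h.C_a, h.X_a] at e1
    have h4 : (C b - C' b) * D b = 0 := by linarith
    rcases mul_eq_zero.mp h4 with h5 | h5
    · have h6 : C' b = C b := by linarith
      rw [h6, h.C_b] at e1
      omega
    · exact absurd h5 (hD b h.b_mem).ne'
  refine ⟨hb, ?_⟩
  rw [hb] at e1
  have : C a * C' a = 0 := by linarith
  exact (mul_eq_zero.mp this).resolve_left hCa

theorem eq_of_three_rel {a b u t ε η : ℚ} (ha : 0 < a) (hb : 0 < b) (hε : ε * ε = 1)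
    (hη : η * η = 1) (h1 : 1 + ε * a + η * b = 0) (h2 : η * t = ε * u + 1)
    (h3 : 1 + ε * (u ^ 2 / a) + η * (t ^ 2 / b) = 0) : u = a := by
  have hb' : b = -η * (1 + ε * a) := by linear_combination η * h1 - b * hη
  have ht : t = η * (ε * u + 1) := by linear_combination η * h2 - t * hη
  have h4 : a * b + ε * u ^ 2 * b + η * t ^ 2 * a = 0 := by
    field_simp at h3
    linear_combination h3
  have h5 : (u - a) ^ 2 = 0 := by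
    rw [hb', ht] at h4
    have h6 : η * (ε * (u - a) ^ 2) = 0 := by
      linear_combination (-1 : ℚ) * h4 + (η * (ε * u + 1) ^ 2 * a) * hη
    linear_combination (ε * η) * h6 - (ε * ε * (u - a) ^ 2) * hη - (u - a) ^ 2 * hε
  exact sub_eq_zero.mp (pow_eq_zero_iff two_ne_zero |>.mp h5)

/-- The data on three columns of norm three. -/
structure ThreeCols (s : Finset ι) (o : ι) (X Z D C₁ C₂ C₃ : ι → ℤ) (w₁ w₂ w₃ : ℤ) : Prop where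
  o_mem : o ∈ s
  X_o : X o = 1
  Z_o : Z o = 1
  D_o : D o = 1
  C₁_o : C₁ o = 1
  C₂_o : C₂ o = 1
  C₃_o : C₃ o = 1
  D_pos : ∀ i ∈ s, 0 < D i
  XX : ∑ i ∈ s, X i ^ 2 = 4
  C₁₁ : ∑ i ∈ s, C₁ i ^ 2 = 3
  C₂₂ : ∑ i ∈ s, C₂ i ^ 2 = 3
  C₃₃ : ∑ i ∈ s, C₃ i ^ 2 = 3
  C₁₂ : ∑ i ∈ s, C₁ i * C₂ i = 1
  C₁₃ : ∑ i ∈ s, C₁ i * C₃ i = 1
  C₂₃ : ∑ i ∈ s, C₂ i * C₃ i = 1
  C₁X : ∑ i ∈ s, C₁ i * X i = 2
  C₂X : ∑ i ∈ s, C₂ i * X i = 2
  C₃X : ∑ i ∈ s, C₃ i * X i = 2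
  C₁D : ∑ i ∈ s, C₁ i * D i = 0
  C₂D : ∑ i ∈ s, C₂ i * D i = 0
  C₃D : ∑ i ∈ s, C₃ i * D i = 0
  Z_eq : ∀ i ∈ s, Z i = w₁ * (2 * C₁ i - X i) + w₂ * (2 * C₂ i - X i) + w₃ * (2 * C₃ i - X i)

variable {X Z D C₁ C₂ C₃ : ι → ℤ} {w₁ w₂ w₃ : ℤ}

theorem ThreeCols.exists_eq (h : ThreeCols s o X Z D C₁ C₂ C₃ w₁ w₂ w₃)
    (hinv : ∑ i ∈ s, (C₁ i : ℚ) * ((Z i : ℚ) ^ 2 / D i) = 0) : ∃ a ∈ s, a ≠ o ∧ Z a = D a := by
  obtain ⟨a, b, h1⟩ := exists_three h.o_mem h.X_o h.C₁_o h.XX h.C₁₁ h.C₁X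
  obtain ⟨a₂, b₂, h2⟩ := exists_three h.o_mem h.X_o h.C₂_o h.XX h.C₂₂ h.C₂X
  obtain ⟨a₃, b₃, h3⟩ := exists_three h.o_mem h.X_o h.C₃_o h.XX h.C₃₃ h.C₃X
  obtain ⟨e1, e2⟩ := h1.cross h2 h.o_mem h.D_pos h.C₁₂ h.C₁D h.C₂D
  obtain ⟨e3, e4⟩ := h1.cross h3 h.o_mem h.D_pos h.C₁₃ h.C₁D h.C₃D
  refine ⟨a, h1.a_mem, h1.a_ne, ?_⟩
  have z0 := h.Z_eq o h.o_mem
  have za := h.Z_eq a h1.a_mem
  have zb := h.Z_eq b h1.b_mem
  rw [h.Z_o, h.X_o, h.C₁_o, h.C₂_o, h.C₃_o] at z0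
  rw [e2, e4, h1.C_a] at za
  rw [e1, e3, h1.X_b] at zb
  have d := h1.sum h.o_mem D
  simp only [Int.cast_id] at d
  rw [h.C₁D, h.D_o] at d
  rw [h1.sum h.o_mem, h.Z_o, h.D_o] at hinv
  have hε := h1.X_a
  rw [← h1.C_a] at hε za
  have hη := h1.C_b
  have k2 : C₁ b * Z b = C₁ a * Z a + 1 := by
    rw [za, zb]
    linear_combination (2 * w₁) * hη - (w₁ - w₂ - w₃) * hε - z0
  have := eq_of_three_rel (a := D a) (b := D b) (u := Z a) (t := Z b) (ε := C₁ a) (η := C₁ b)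
    (by exact_mod_cast h.D_pos a h1.a_mem) (by exact_mod_cast h.D_pos b h1.b_mem)
    (by exact_mod_cast hε) (by exact_mod_cast hη) (by exact_mod_cast d.symm)
    (by exact_mod_cast k2) (by simpa using hinv)
  exact_mod_cast this

theorem ThreeCols.card_eq (h : ThreeCols s o X Z D C₁ C₂ C₃ w₁ w₂ w₃)
    (hZ : ∀ i ∈ s, Z i ≠ 0) : s.card = 7 := by
  classical
  obtain ⟨a₁, b₁, h1⟩ := exists_three h.o_mem h.X_o h.C₁_o h.XX h.C₁₁ h.C₁X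
  obtain ⟨a₂, b₂, h2⟩ := exists_three h.o_mem h.X_o h.C₂_o h.XX h.C₂₂ h.C₂X
  obtain ⟨a₃, b₃, h3⟩ := exists_three h.o_mem h.X_o h.C₃_o h.XX h.C₃₃ h.C₃X
  have e12 := (h1.cross h2 h.o_mem h.D_pos h.C₁₂ h.C₁D h.C₂D).1
  have e13 := (h1.cross h3 h.o_mem h.D_pos h.C₁₃ h.C₁D h.C₃D).1
  have e23 := (h2.cross h3 h.o_mem h.D_pos h.C₂₃ h.C₂D h.C₃D).1
  have n12 : b₁ ≠ b₂ := by
    rintro rfl; have := h2.C_b; rw [e12] at this; omega
  have n13 : b₁ ≠ b₃ := by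
    rintro rfl; have := h3.C_b; rw [e13] at this; omega
  have n23 : b₂ ≠ b₃ := by
    rintro rfl; have := h3.C_b; rw [e23] at this; omega
  have h4 : (s.filter fun i => X i ≠ 0).card = 4 := by
    have := card_support h.o_mem h.X_o h.XX le_rfl
    exact_mod_cast this
  have key : ∀ {C : ι → ℤ} {a b : ι}, Three s o X C a b → ∀ i ∈ s, X i = 0 → C i ≠ 0 → i = b := by
    intro C a b t i hi hX hC
    rcases t.supp i hi hC with h5 | h5 | h5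
    · rw [h5, h.X_o] at hX; omega
    · have := t.X_a; rw [← h5, hX] at this; omega
    · exact h5
  have h5 : s.filter (fun i => ¬ X i ≠ 0) = {b₁, b₂, b₃} := by
    ext i
    simp only [mem_filter, not_not, mem_insert, mem_singleton]
    constructor
    · rintro ⟨hi, hX⟩
      by_contra hcon
      push Not at hcon
      have c1 : C₁ i = 0 := by by_contra hc; exact hcon.1 (key h1 i hi hX hc)
      have c2 : C₂ i = 0 := by by_contra hc; exact hcon.2.1 (key h2 i hi hX hc)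
      have c3 : C₃ i = 0 := by by_contra hc; exact hcon.2.2 (key h3 i hi hX hc)
      apply hZ i hi
      rw [h.Z_eq i hi, c1, c2, c3, hX]; ring
    · rintro (rfl | rfl | rfl)
      · exact ⟨h1.b_mem, h1.X_b⟩
      · exact ⟨h2.b_mem, h2.X_b⟩
      · exact ⟨h3.b_mem, h3.X_b⟩
  rw [← card_filter_add_card_filter_not (fun i => X i ≠ 0), h4, h5,
    card_insert_of_notMem (by simp [n12, n13]), card_pair n23]

/-- The data on the columns coming from the centralizer of the involution. -/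
structure Cols (s : Finset ι) (o : ι) (X Z D A₁ A₂ A₃ : ι → ℤ) (x₁ x₂ x₃ : ℤ) : Prop where
  o_mem : o ∈ s
  X_o : X o = 1
  Z_o : Z o = 1
  D_o : D o = 1
  A₁_o : A₁ o = 1
  A₂_o : A₂ o = 1
  A₃_o : A₃ o = 1
  D_pos : ∀ i ∈ s, 0 < D i
  XX : ∑ i ∈ s, X i ^ 2 = 4
  A₁₁ : ∑ i ∈ s, A₁ i * A₁ i = 4
  A₂₂ : ∑ i ∈ s, A₂ i * A₂ i = 4
  A₃₃ : ∑ i ∈ s, A₃ i * A₃ i = 4
  A₁₂ : ∑ i ∈ s, A₁ i * A₂ i = 2
  A₁₃ : ∑ i ∈ s, A₁ i * A₃ i = 2
  A₂₃ : ∑ i ∈ s, A₂ i * A₃ i = 2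
  A₁X : ∑ i ∈ s, A₁ i * X i = 0
  A₂X : ∑ i ∈ s, A₂ i * X i = 0
  A₃X : ∑ i ∈ s, A₃ i * X i = 0
  A₁D : ∑ i ∈ s, A₁ i * D i = 0
  A₂D : ∑ i ∈ s, A₂ i * D i = 0
  A₃D : ∑ i ∈ s, A₃ i * D i = 0
  XD : ∑ i ∈ s, X i * D i = 0
  A₁Z : ∑ i ∈ s, A₁ i * Z i = 2 * (1 - x₁)
  A₂Z : ∑ i ∈ s, A₂ i * Z i = 2 * (1 - x₂)
  A₃Z : ∑ i ∈ s, A₃ i * Z i = 2 * (1 - x₃)
  ZZ : ∑ i ∈ s, Z i * Z i = 2 * (1 + x₁ ^ 2 + x₂ ^ 2 + x₃ ^ 2)
  x_sum : 1 + x₁ + x₂ + x₃ = 0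
  x₁_mod : 4 ∣ x₁ - 1
  x₂_mod : 4 ∣ x₂ - 1
  x₃_mod : 4 ∣ x₃ - 1
  parity : ∀ i ∈ s, 2 ∣ X i - Z i

variable {A₁ A₂ A₃ : ι → ℤ} {x₁ x₂ x₃ : ℤ}

theorem Cols.exists_threeCols (h : Cols s o X Z D A₁ A₂ A₃ x₁ x₂ x₃) :
    ∃ (C₁ C₂ C₃ : ι → ℤ) (w₁ w₂ w₃ : ℤ), ThreeCols s o X Z D C₁ C₂ C₃ w₁ w₂ w₃ ∧
      ∀ i ∈ s, 2 * C₁ i = X i - A₁ i + A₂ i + A₃ i := by
  obtain ⟨k₁, hk₁⟩ := h.x₁_mod
  obtain ⟨k₂, hk₂⟩ := h.x₂_mod
  obtain ⟨k₃, hk₃⟩ := h.x₃_mod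
  have hXX : ∑ i ∈ s, X i * X i = 4 := by simpa only [sq] using h.XX
  have hZ : ∀ i ∈ s, Z i = (2 * k₁ + 1) * (-A₁ i + A₂ i + A₃ i) +
      (2 * k₂ + 1) * (A₁ i - A₂ i + A₃ i) + (2 * k₃ + 1) * (A₁ i + A₂ i - A₃ i) := by
    have h0 : ∑ i ∈ s, (Z i - ((2 * k₁ + 1) * (-A₁ i + A₂ i + A₃ i) +
      (2 * k₂ + 1) * (A₁ i - A₂ i + A₃ i) + (2 * k₃ + 1) * (A₁ i + A₂ i - A₃ i))) ^ 2 = 0 := by
      set α := -(2 * k₁ + 1) + (2 * k₂ + 1) + (2 * k₃ + 1) with hα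
      set β := (2 * k₁ + 1) - (2 * k₂ + 1) + (2 * k₃ + 1) with hβ
      set γ := (2 * k₁ + 1) + (2 * k₂ + 1) - (2 * k₃ + 1) with hγ
      have e : ∀ i, (Z i - ((2 * k₁ + 1) * (-A₁ i + A₂ i + A₃ i) +
          (2 * k₂ + 1) * (A₁ i - A₂ i + A₃ i) + (2 * k₃ + 1) * (A₁ i + A₂ i - A₃ i))) ^ 2 =
          Z i * Z i - 2 * α * (A₁ i * Z i) - 2 * β * (A₂ i * Z i) - 2 * γ * (A₃ i * Z i) +
          α ^ 2 * (A₁ i * A₁ i) + β ^ 2 * (A₂ i * A₂ i) + γ ^ 2 * (A₃ i * A₃ i) +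
          2 * α * β * (A₁ i * A₂ i) + 2 * α * γ * (A₁ i * A₃ i) +
          2 * β * γ * (A₂ i * A₃ i) := by
        intro i; rw [hα, hβ, hγ]; ring
      simp only [e, sum_add_distrib, sum_sub_distrib, ← mul_sum, h.ZZ, h.A₁Z, h.A₂Z, h.A₃Z,
        h.A₁₁, h.A₂₂, h.A₃₃, h.A₁₂, h.A₁₃, h.A₂₃]
      have e1 : x₁ = 4 * k₁ + 1 := by linarith
      have e2 : x₂ = 4 * k₂ + 1 := by linarith
      have e3 : x₃ = 4 * k₃ + 1 := by linarith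
      have e4 : k₃ = -1 - k₁ - k₂ := by have := h.x_sum; omega
      rw [hα, hβ, hγ, e1, e2, e3, e4]
      ring
    intro i hi
    have := (sum_eq_zero_iff_of_nonneg (fun j _ => sq_nonneg _)).mp h0 i hi
    exact sub_eq_zero.mp (pow_eq_zero_iff two_ne_zero |>.mp this)
  have hpar : ∀ i ∈ s, 2 ∣ X i + A₁ i + A₂ i + A₃ i := by
    intro i hi
    obtain ⟨c, hc⟩ := h.parity i hi
    have := hZ i hi
    refine ⟨c + (k₁ * (-A₁ i + A₂ i + A₃ i) + k₂ * (A₁ i - A₂ i + A₃ i) +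
      k₃ * (A₁ i + A₂ i - A₃ i)) + (A₁ i + A₂ i + A₃ i), ?_⟩
    linear_combination hc + this
  set T : ι → ℤ := fun i => (X i + A₁ i + A₂ i + A₃ i) / 2 with hT
  have hT2 : ∀ i ∈ s, 2 * T i = X i + A₁ i + A₂ i + A₃ i := fun i hi =>
    Int.mul_ediv_cancel' (hpar i hi)
  have hTo : T o = 2 := by
    have := hT2 o h.o_mem
    rw [h.X_o, h.A₁_o, h.A₂_o, h.A₃_o] at this
    omega
  have hTf : ∀ f : ι → ℤ, 2 * ∑ i ∈ s, T i * f i = ∑ i ∈ s, X i * f i + ∑ i ∈ s, A₁ i * f i +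
      ∑ i ∈ s, A₂ i * f i + ∑ i ∈ s, A₃ i * f i := by
    intro f
    rw [mul_sum, ← sum_add_distrib, ← sum_add_distrib, ← sum_add_distrib]
    refine sum_congr rfl fun i hi => ?_
    rw [← mul_assoc, hT2 i hi]; ring
  have cm : ∀ f g : ι → ℤ, ∑ i ∈ s, f i * g i = ∑ i ∈ s, g i * f i := fun f g =>
    sum_congr rfl fun i _ => mul_comm _ _
  have tX : ∑ i ∈ s, T i * X i = 2 := by
    have := hTf X; rw [hXX, h.A₁X, h.A₂X, h.A₃X] at this; omega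
  have t1 : ∑ i ∈ s, T i * A₁ i = 4 := by
    have := hTf A₁; rw [cm X, cm A₂, cm A₃, h.A₁X, h.A₁₁, h.A₁₂, h.A₁₃] at this; omega
  have t2 : ∑ i ∈ s, T i * A₂ i = 4 := by
    have := hTf A₂; rw [cm X, cm A₃, h.A₂X, h.A₂₂, h.A₁₂, h.A₂₃] at this; omega
  have t3 : ∑ i ∈ s, T i * A₃ i = 4 := by
    have := hTf A₃; rw [cm X, h.A₃X, h.A₃₃, h.A₁₃, h.A₂₃] at this; omega
  have tD : ∑ i ∈ s, T i * D i = 0 := by
    have := hTf D; rw [h.XD, h.A₁D, h.A₂D, h.A₃D] at this; omega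
  have tT : ∑ i ∈ s, T i * T i = 7 := by
    have := hTf T; rw [cm X, cm A₁, cm A₂, cm A₃, tX, t1, t2, t3] at this; omega
  have prod : ∀ f g : ι → ℤ, ∑ i ∈ s, (T i - f i) * (T i - g i) = ∑ i ∈ s, T i * T i -
      ∑ i ∈ s, T i * f i - ∑ i ∈ s, T i * g i + ∑ i ∈ s, f i * g i := by
    intro f g
    rw [← sum_sub_distrib, ← sum_sub_distrib, ← sum_add_distrib]
    exact sum_congr rfl fun i _ => by ring
  have lin : ∀ f g : ι → ℤ, ∑ i ∈ s, (T i - f i) * g i = ∑ i ∈ s, T i * g i -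
      ∑ i ∈ s, f i * g i := by
    intro f g
    rw [← sum_sub_distrib]
    exact sum_congr rfl fun i _ => by ring
  refine ⟨fun i => T i - A₁ i, fun i => T i - A₂ i, fun i => T i - A₃ i, 2 * k₁ + 1, 2 * k₂ + 1,
    2 * k₃ + 1, ⟨h.o_mem, h.X_o, h.Z_o, h.D_o, ?_, ?_, ?_, h.D_pos, h.XX, ?_, ?_, ?_, ?_, ?_, ?_,
      ?_, ?_, ?_, ?_, ?_, ?_, ?_⟩, ?_⟩
  · simp [hTo, h.A₁_o]
  · simp [hTo, h.A₂_o]
  · simp [hTo, h.A₃_o]
  · simp only [sq]; rw [prod, tT, t1, h.A₁₁]; norm_num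
  · simp only [sq]; rw [prod, tT, t2, h.A₂₂]; norm_num
  · simp only [sq]; rw [prod, tT, t3, h.A₃₃]; norm_num
  · rw [prod, tT, t1, t2, h.A₁₂]; norm_num
  · rw [prod, tT, t1, t3, h.A₁₃]; norm_num
  · rw [prod, tT, t2, t3, h.A₂₃]; norm_num
  · rw [lin, tX, h.A₁X]; norm_num
  · rw [lin, tX, h.A₂X]; norm_num
  · rw [lin, tX, h.A₃X]; norm_num
  · rw [lin, tD, h.A₁D]; norm_num
  · rw [lin, tD, h.A₂D]; norm_num
  · rw [lin, tD, h.A₃D]; norm_num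
  · intro i hi
    rw [hZ i hi]
    linear_combination (-(2 * k₁ + 1) - (2 * k₂ + 1) - (2 * k₃ + 1)) * hT2 i hi
  · intro i hi
    linear_combination hT2 i hi

theorem Cols.card_eq (h : Cols s o X Z D A₁ A₂ A₃ x₁ x₂ x₃) (hZ : ∀ i ∈ s, Z i ≠ 0) :
    s.card = 7 := by
  obtain ⟨C₁, C₂, C₃, w₁, w₂, w₃, h1, -⟩ := h.exists_threeCols
  exact h1.card_eq hZ

theorem Cols.exists_eq (h : Cols s o X Z D A₁ A₂ A₃ x₁ x₂ x₃)
    (iX : ∑ i ∈ s, (X i : ℚ) * ((Z i : ℚ) ^ 2 / D i) = 0)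
    (i₁ : ∑ i ∈ s, (A₁ i : ℚ) * ((Z i : ℚ) ^ 2 / D i) = 0)
    (i₂ : ∑ i ∈ s, (A₂ i : ℚ) * ((Z i : ℚ) ^ 2 / D i) = 0)
    (i₃ : ∑ i ∈ s, (A₃ i : ℚ) * ((Z i : ℚ) ^ 2 / D i) = 0) : ∃ a ∈ s, a ≠ o ∧ Z a = D a := by
  obtain ⟨C₁, C₂, C₃, w₁, w₂, w₃, h1, h2⟩ := h.exists_threeCols
  refine h1.exists_eq ?_
  have : 2 * ∑ i ∈ s, (C₁ i : ℚ) * ((Z i : ℚ) ^ 2 / D i) =
      ∑ i ∈ s, (X i : ℚ) * ((Z i : ℚ) ^ 2 / D i) - ∑ i ∈ s, (A₁ i : ℚ) * ((Z i : ℚ) ^ 2 / D i) +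
      ∑ i ∈ s, (A₂ i : ℚ) * ((Z i : ℚ) ^ 2 / D i) +
      ∑ i ∈ s, (A₃ i : ℚ) * ((Z i : ℚ) ^ 2 / D i) := by
    rw [mul_sum, ← sum_sub_distrib, ← sum_add_distrib, ← sum_add_distrib]
    refine sum_congr rfl fun i hi => ?_
    have h3 : (2 : ℚ) * C₁ i = X i - A₁ i + A₂ i + A₃ i := by exact_mod_cast h2 i hi
    rw [← mul_assoc, h3]; ring
  rw [iX, i₁, i₂, i₃] at this
  linarith

end CL.Q8B
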