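import Cfsg.Agent.Base
import Cfsg.Agent.Blocks.Q8Cols
import Cfsg.Agent.Blocks.Q8Num
import Cfsg.Agent.BS.Sixteen
import Cfsg.Agent.Char.Congr
import Cfsg.Agent.S0950

/-!
# The principal 2-block and the Brauer–Suzuki theorem for a quaternion Sylow subgroup of order 8
-/

set_option autoImplicit false

open Cfsg Subgroup
open scoped ComplexConjugate

namespace CL.Q8B

open CL.Invol CL.Blocks CL.Char CL.ZStar CL.BS

universe u

theorem q8_comm : ∀ u t : QuaternionGroup 2, u * u ≠ 1 → u * t = t * u →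
    t = 1 ∨ t = u ∨ t = u * u ∨ t = u * u * u := by decide

theorem q8_real : ∀ w : QuaternionGroup 2, ∃ t, t * w * t⁻¹ = w⁻¹ := by decide

section Groups

variable {G : Type*} [Group G] [Finite G] {S : Sylow 2 G}

omit [Finite G] in
theorem orderOf_eq_four {h : G} (h2 : orderOf (h * h) = 2) : orderOf h = 4 := by
  have : Fact (Nat.Prime 2) := ⟨Nat.prime_two⟩
  refine orderOf_eq_prime_pow (p := 2) (n := 1) ?_ ?_
  · rw [pow_one, sq]; exact ne_one_of_orderOf_two h2
  · rw [show 2 ^ (1 + 1) = 2 * 2 by norm_num, pow_mul, sq h, sq_of_orderOf_two h2]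

omit [Finite G] in
theorem sq_ne_one_of_orderOf_four {h : G} (h4 : orderOf h = 4) : h * h ≠ 1 := by
  intro h1
  have : orderOf h ∣ 2 := orderOf_dvd_of_pow_eq_one (by rw [sq, h1])
  rw [h4] at this
  omega

omit [Finite G] in
theorem orderOf_sq_of_orderOf_four {h : G} (h4 : orderOf h = 4) : orderOf (h * h) = 2 := by
  refine orderOf_two_of_mul_self (sq_ne_one_of_orderOf_four h4) ?_
  have := pow_orderOf_eq_one h
  rw [h4] at this
  rw [← this]; simp only [pow_succ, pow_zero, one_mul, mul_assoc]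

theorem mem_zpowers_of_commute_q8 (e : (S : Subgroup G) ≃* QuaternionGroup 2) {u t : G}
    (hu : orderOf u = 4) (ht : ∃ k : ℕ, orderOf t = 2 ^ k) (hc : Commute u t) :
    t ∈ zpowers u := by
  have : Fact (Nat.Prime 2) := ⟨Nat.prime_two⟩
  obtain ⟨k, hk⟩ := ht
  have h1 : IsPGroup 2 (zpowers u) := isPGroup_zpowers_of_orderOf (k := 2) hu
  have h2 : IsPGroup 2 (zpowers t) := isPGroup_zpowers_of_orderOf hk
  have h3 : zpowers t ≤ normalizer (zpowers u : Set G) := by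
    refine le_trans ?_ (centralizer_le_normalizer _)
    rw [zpowers_le, mem_centralizer_iff]
    rintro _ ⟨j, rfl⟩
    exact (hc.zpow_left j).eq
  obtain ⟨g, hg⟩ := exists_conj_mem_sylow S (h1.to_sup_of_normal_left' h2 h3)
  have hu' := hg u (mem_sup_left (mem_zpowers u))
  have ht' := hg t (mem_sup_right (mem_zpowers t))
  have h4 := q8_comm (e ⟨_, hu'⟩) (e ⟨_, ht'⟩) (by
    rw [← map_mul, Ne, MulEquiv.map_eq_one_iff, Subtype.ext_iff]
    exact sq_ne_one_of_orderOf_four (by rw [orderOf_conj, hu])) (by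
    rw [← map_mul, ← map_mul]
    exact congrArg e (Subtype.ext (hc.conj g).eq))
  simp only [← map_mul, MulEquiv.map_eq_one_iff, e.injective.eq_iff, Subtype.ext_iff,
    Subgroup.coe_mul, conj_mul, OneMemClass.coe_one, mul_left_inj, mul_right_inj,
    conj_eq_one_iff] at h4
  rcases h4 with rfl | rfl | rfl | rfl
  · exact one_mem _
  · exact mem_zpowers _
  · exact mul_mem (mem_zpowers _) (mem_zpowers _)
  · exact mul_mem (mul_mem (mem_zpowers _) (mem_zpowers _)) (mem_zpowers _)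

theorem card_centralizer_q8 (e : (S : Subgroup G) ≃* QuaternionGroup 2) {u : G}
    (hu : orderOf u = 4) : ∃ m, Odd m ∧ Nat.card (centralizer ({u} : Set G)) = 4 * m := by
  have : Fact (Nat.Prime 2) := ⟨Nat.prime_two⟩
  set u' : centralizer ({u} : Set G) := ⟨u, mem_centralizer_singleton_iff_commute.mpr rfl⟩
  have hu' : orderOf u' = 4 := by rw [← Subgroup.orderOf_coe]; exact hu
  obtain ⟨T, hT⟩ := (isPGroup_zpowers_of_orderOf (p := 2) (k := 2) hu').exists_le_sylow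
  have h1 : (T : Subgroup _) = zpowers u' := by
    refine le_antisymm (fun t ht => ?_) hT
    obtain ⟨k, hk⟩ := (IsPGroup.iff_orderOf.mp T.isPGroup') ⟨t, ht⟩
    obtain ⟨j, hj⟩ := mem_zpowers_of_commute_q8 e hu (t := t)
      ⟨k, by rw [← hk, ← Subgroup.orderOf_coe, ← Subgroup.orderOf_coe]⟩
      (mem_centralizer_singleton_iff_commute.mp t.2).symm
    exact ⟨j, Subtype.ext (by simpa using hj)⟩
  refine ⟨(T : Subgroup (centralizer ({u} : Set G))).index, ?_, ?_⟩
  · exact Nat.odd_iff.mpr (Nat.two_dvd_ne_zero.mp T.not_dvd_index)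
  · rw [← card_mul_index (T : Subgroup (centralizer ({u} : Set G))), h1, Nat.card_zpowers, hu']

theorem isConj_of_orderOf_four (e : (S : Subgroup G) ≃* QuaternionGroup 2)
    (hnc : ∀ N : Subgroup G, N.Normal → ¬ IsComplement' N (S : Subgroup G)) {u v : G}
    (hu : orderOf u = 4) (hv : orderOf v = 4) : IsConj u v := by
  obtain ⟨c, hc⟩ := exists_conj_mem_sylow_of_orderOf S (u := u) ⟨2, hu⟩
  obtain ⟨d, hd⟩ := exists_conj_mem_sylow_of_orderOf S (u := v) ⟨2, hv⟩
  have hu' : orderOf (c * u * c⁻¹) = 4 := by rw [orderOf_conj, hu]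
  have hv' : orderOf (d * v * d⁻¹) = 4 := by rw [orderOf_conj, hv]
  obtain ⟨n, -, hn⟩ := Cfsg.Agent.S0950.result S e hnc _ _ (zpowers_le.mpr hc) (zpowers_le.mpr hd)
    (by rw [Nat.card_zpowers, hu']) (by rw [Nat.card_zpowers, hv'])
  rw [MonoidHom.map_zpowers] at hn
  set w := (MulAut.conj n).toMonoidHom (c * u * c⁻¹) with hw
  have hw1 : IsConj u w := (isConj_iff.mpr ⟨c, rfl⟩).trans (isConj_iff.mpr ⟨n, rfl⟩)
  have hw4 : orderOf w = 4 := by rw [← IsConj.orderOf_eq' hw1, hu]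
  refine hw1.trans (IsConj.trans ?_ (isConj_iff.mpr ⟨d, rfl⟩).symm)
  set v' := d * v * d⁻¹ with hv''
  have hwv : w ∈ zpowers v' := hn ▸ mem_zpowers w
  have hwS : w ∈ (S : Subgroup G) := zpowers_le.mpr hd hwv
  have hcomm : v' * w = w * v' := by
    obtain ⟨j, hj⟩ := hwv
    rw [← hj]; exact ((Commute.refl v').zpow_right j).eq
  have h4 := q8_comm (e ⟨_, hd⟩) (e ⟨_, hwS⟩) (by
    rw [← map_mul, Ne, MulEquiv.map_eq_one_iff, Subtype.ext_iff]
    exact sq_ne_one_of_orderOf_four hv') (by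
    rw [← map_mul, ← map_mul]
    exact congrArg e (Subtype.ext hcomm))
  simp only [← map_mul, MulEquiv.map_eq_one_iff, e.injective.eq_iff, Subtype.ext_iff,
    Subgroup.coe_mul, OneMemClass.coe_one] at h4
  rcases h4 with h4 | h4 | h4 | h4
  · rw [h4, orderOf_one] at hw4; omega
  · rw [h4]
  · rw [h4, orderOf_sq_of_orderOf_four hv'] at hw4; omega
  · obtain ⟨t, ht⟩ := q8_real (e ⟨_, hd⟩)
    obtain ⟨t, rfl⟩ := e.surjective t
    simp only [← map_mul, ← map_inv, e.injective.eq_iff, Subtype.ext_iff, Subgroup.coe_mul,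
      Subgroup.coe_inv] at ht
    have h5 : w = v'⁻¹ := by
      rw [h4, eq_inv_iff_mul_eq_one, ← pow_orderOf_eq_one v', hv']
      simp only [pow_succ, pow_zero, one_mul]
    rw [h5, ← ht]
    exact (isConj_iff.mpr ⟨(t : G), rfl⟩).symm

variable {a x : G}

theorem quot_kleinFour (h : QuatData (S : Subgroup G) 2 a x)
    (e : (S : Subgroup G) ≃* QuaternionGroup 2)
    (hfus : ∀ u v : G, orderOf u = 4 → orderOf v = 4 → IsConj u v) {Q : Type*} [Group Q]
    [Finite Q] {z' : centralizer ({a ^ 2} : Set G)} (hz' : (z' : G) = a ^ 2)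
    {f : centralizer ({a ^ 2} : Set G) →* Q} (hf : CenQuot z' f) :
    ∃ P : Sylow 2 Q, Nat.card P = 4 ∧ (∀ q ∈ (P : Subgroup Q), q * q = 1) ∧
      ∀ s t : Q, orderOf s = 2 → orderOf t = 2 → IsConj s t := by
  have : Fact (Nat.Prime 2) := ⟨Nat.prime_two⟩
  have hz : orderOf (a ^ 2) = 2 := h.orderOf_a_pow_m
  have hSH : (S : Subgroup G) ≤ centralizer ({a ^ 2} : Set G) := fun s hs =>
    mem_centralizer_singleton_iff_commute.mpr (h.a_pow_m_comm hs)
  refine ⟨(S.subtype hSH).mapSurjective hf.surj, ?_, ?_, ?_⟩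
  · obtain ⟨m, hm, hC⟩ := card_eq_of_sylow_le S h.card hSH
    have h1 : Nat.card Q = 4 * m := by have := hf.card_eq; omega
    rw [Sylow.card_eq_multiplicity, h1, Nat.factorization_mul (by norm_num) hm.pos.ne']
    have h2 : m.factorization 2 = 0 := Nat.factorization_eq_zero_of_not_dvd hm.not_two_dvd_nat
    have h3 : (4 : ℕ).factorization 2 = 2 := by
      rw [show (4 : ℕ) = 2 ^ 2 by norm_num, Nat.Prime.factorization_pow Nat.prime_two]; simp
    simp [h2, h3]
  · rintro _ ⟨s, hs, rfl⟩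
    have hs' : (s : G) ∈ (S : Subgroup G) := hs
    rw [← map_mul, hf.ker]
    by_cases h1 : (s : G) * s = 1
    · exact Or.inl (Subtype.ext h1)
    · refine Or.inr (Subtype.ext ?_)
      rw [hz']
      refine h.eq_of_orderOf_eq_two (mul_mem hs' hs') (orderOf_two_of_mul_self h1 ?_)
      rw [Subgroup.coe_mul, ← mul_assoc]
      exact Cfsg.Agent.S0950.pow_four e hs'
  · have key : ∀ s : centralizer ({a ^ 2} : Set G), orderOf (f s) = 2 → (s : G) * s = a ^ 2 := by
      intro s hs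
      have h1 := mul_self_of_orderOf_two hs
      rw [← map_mul, hf.ker] at h1
      rcases h1 with h1 | h1
      · exfalso
        apply ne_one_of_orderOf_two hs
        rw [hf.ker]
        by_cases h2 : s = 1
        · exact Or.inl h2
        · refine Or.inr (Subtype.ext ?_)
          rw [hz']
          refine h.eq_of_commute ?_ hz (mem_centralizer_singleton_iff_commute.mp s.2).eq
          rw [Subgroup.orderOf_coe]
          exact orderOf_two_of_mul_self h2 h1
      · exact (congrArg Subtype.val h1).trans hz'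
    intro s t hs ht
    obtain ⟨s, rfl⟩ := hf.surj s
    obtain ⟨t, rfl⟩ := hf.surj t
    have h1 := key s hs
    have h2 := key t ht
    obtain ⟨g, hg⟩ := isConj_iff.mp (hfus s t (orderOf_eq_four (by rw [h1, hz]))
      (orderOf_eq_four (by rw [h2, hz])))
    have h3 : g ∈ centralizer ({a ^ 2} : Set G) := by
      rw [mem_centralizer_singleton_iff_commute, Commute, SemiconjBy, ← mul_inv_eq_iff_eq_mul]
      calc g * a ^ 2 * g⁻¹ = (g * s * g⁻¹) * (g * s * g⁻¹) := by rw [conj_mul, h1]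
        _ = a ^ 2 := by rw [hg, h2]
    exact MonoidHom.map_isConj f (isConj_iff.mpr ⟨⟨g, h3⟩, Subtype.ext hg⟩)

end Groups

section Pi

variable {Q : Type*} [Group Q] [Fintype Q] {M : Ideal AlgInt}

/-- The virtual character `1 - δ ζ`. -/
def piOf (ζ : IrrCharacter Q) (δ : ℤ) : Q → ℂ :=
  (irrOne Q : Q → ℂ) - (δ : ℂ) • (ζ : Q → ℂ)

omit [Fintype Q] in
theorem piOf_apply (ζ : IrrCharacter Q) (δ : ℤ) (q : Q) :
    piOf ζ δ q = 1 - δ * (ζ : Q → ℂ) q := rfl

omit [Fintype Q] in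
theorem gen_piOf (ζ : IrrCharacter Q) (δ : ℤ) : IsGeneralizedCharacter Q (piOf ζ δ) :=
  gen_sub (gen_of_irr (irrOne Q).2) (gen_intCast_smul δ (gen_of_irr ζ.2))

open Classical in
theorem inner_piOf (ζ' ζ : IrrCharacter Q) (δ : ℤ) : classInner (ζ' : Q → ℂ) (piOf ζ δ) =
    (if ζ' = irrOne Q then 1 else 0) - δ * (if ζ' = ζ then 1 else 0) := by
  rw [piOf, classInner_sub_right, classInner_smul_right, irrChar_inner, irrChar_inner,
    map_intCast]

theorem sum_inner_piOf [M.IsMaximal] {ζ : IrrCharacter Q} (hζ : ζ ∈ pb M Q) (δ : ℤ) (q : Q) :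
    ∑ ζ' ∈ pb M Q, classInner (ζ' : Q → ℂ) (piOf ζ δ) * conj ((ζ' : Q → ℂ) q) =
      conj (piOf ζ δ q) := by
  classical
  simp only [inner_piOf, sub_mul, Finset.sum_sub_distrib, mul_assoc, ← Finset.mul_sum, ite_mul,
    one_mul, zero_mul, Finset.sum_ite_eq', if_pos hζ, if_pos (one_mem_pb (M := M) (G := Q)),
    piOf_apply, irrOne_apply, map_sub, map_mul, map_intCast]

theorem one_inner_piOf {ζ : IrrCharacter Q} (h : ζ ≠ irrOne Q) (δ : ℤ) :
    classInner (fun _ => 1) (piOf ζ δ) = 1 := by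
  have := inner_piOf (irrOne Q) ζ δ
  rw [if_pos rfl, if_neg h.symm, mul_zero, sub_zero] at this
  exact this

theorem piOf_inner_self {ζ : IrrCharacter Q} (h : ζ ≠ irrOne Q) {δ : ℤ} (hδ : δ * δ = 1) :
    classInner (piOf ζ δ) (piOf ζ δ) = 2 := by
  have h1 : (δ : ℂ) * δ = 1 := by exact_mod_cast hδ
  rw [piOf.eq_1 ζ δ, classInner_sub_left, classInner_smul_left, ← piOf, inner_piOf, inner_piOf,
    if_pos rfl, if_neg h.symm, if_neg h, if_pos rfl]
  linear_combination h1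

theorem piOf_inner_of_ne {ζ ζ' : IrrCharacter Q} (h : ζ ≠ irrOne Q) (h' : ζ' ≠ irrOne Q)
    (hne : ζ ≠ ζ') (δ δ' : ℤ) : classInner (piOf ζ δ) (piOf ζ' δ') = 1 := by
  rw [piOf.eq_1 ζ δ, classInner_sub_left, classInner_smul_left, inner_piOf, inner_piOf,
    if_pos rfl, if_neg h'.symm, if_neg h, if_neg hne]
  ring

end Pi

section Main

variable {G : Type*} [Group G] [Finite G] {S : Sylow 2 G} {M : Ideal AlgInt} {a x : G}

theorem int_sum_of_complex {ι : Type*} {s : Finset ι} {f g : ι → ℤ} {F G : ι → ℂ} {c : ℤ}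
    (hf : ∀ i, F i = f i) (hg : ∀ i, G i = g i) (h : ∑ i ∈ s, F i * conj (G i) = c) :
    ∑ i ∈ s, f i * g i = c := by
  have h1 : ((∑ i ∈ s, f i * g i : ℤ) : ℂ) = c := by
    rw [← h, Int.cast_sum]
    refine Finset.sum_congr rfl fun i _ => ?_
    rw [hf, hg, map_intCast, Int.cast_mul]
  exact_mod_cast h1

theorem rat_sum_of_complex {ι : Type*} {s : Finset ι} {f z d : ι → ℤ} {F Z D : ι → ℂ}
    (hf : ∀ i, F i = f i) (hz : ∀ i, Z i = z i) (hd : ∀ i, D i = d i)
    (h : ∑ i ∈ s, F i * conj (Z i ^ 2 / D i) = 0) :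
    ∑ i ∈ s, (f i : ℚ) * ((z i : ℚ) ^ 2 / d i) = 0 := by
  have h1 : ((∑ i ∈ s, (f i : ℚ) * ((z i : ℚ) ^ 2 / d i) : ℚ) : ℂ) = 0 := by
    rw [← h, Rat.cast_sum]
    refine Finset.sum_congr rfl fun i _ => ?_
    rw [hf, hz, hd, map_div₀, map_pow, map_intCast, map_intCast]
    push_cast
    rfl
  exact_mod_cast h1

/-- The columns of the principal block for a quaternion Sylow subgroup of order `8` with one class
of elements of order `4`. -/
theorem exists_cols (hM : IsPModular 2 M) (h : QuatData (S : Subgroup G) 2 a x)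
    (e : (S : Subgroup G) ≃* QuaternionGroup 2)
    (hfus : ∀ u v : G, orderOf u = 4 → orderOf v = 4 → IsConj u v) :
    ∃ (X Z D A₁ A₂ A₃ : IrrCharacter G → ℤ) (x₁ x₂ x₃ : ℤ),
      Cols (pb M G) (irrOne G) X Z D A₁ A₂ A₃ x₁ x₂ x₃ ∧
      (∀ χ : IrrCharacter G, (χ : G → ℂ) (a ^ 2) = Z χ) ∧
      (∀ χ : IrrCharacter G, (χ : G → ℂ) 1 = D χ) ∧
      ∑ i ∈ pb M G, (X i : ℚ) * ((Z i : ℚ) ^ 2 / D i) = 0 ∧
      ∑ i ∈ pb M G, (A₁ i : ℚ) * ((Z i : ℚ) ^ 2 / D i) = 0 ∧
      ∑ i ∈ pb M G, (A₂ i : ℚ) * ((Z i : ℚ) ^ 2 / D i) = 0 ∧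
      ∑ i ∈ pb M G, (A₃ i : ℚ) * ((Z i : ℚ) ^ 2 / D i) = 0 := by
  classical
  have : Fact (Nat.Prime 2) := ⟨Nat.prime_two⟩
  have : M.IsMaximal := hM.2.1
  have := Fintype.ofFinite G
  have ha : orderOf a = 4 := h.orderOf_a
  have hz : orderOf (a ^ 2) = 2 := h.orderOf_a_pow_m
  obtain ⟨z, hzdef⟩ : ∃ z, z = a ^ 2 := ⟨_, rfl⟩
  set z' : centralizer ({a ^ 2} : Set G) := ⟨a ^ 2, mem_centralizer_singleton_iff_commute.mpr rfl⟩
  have hz' : orderOf z' = 2 := by rw [← Subgroup.orderOf_coe]; exact hz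
  have hzc : ∀ g, z' * g = g * z' := fun g =>
    Subtype.ext (mem_centralizer_singleton_iff_commute.mp g.2).eq.symm
  have : (zpowers z').Normal := normal_of_le_center
    (zpowers_le.mpr (mem_center_iff.mpr fun g => (hzc g).symm))
  have hf : CenQuot z' (QuotientGroup.mk' (zpowers z')) :=
    ⟨hz', hzc, QuotientGroup.mk'_surjective _, fun g => by
      rw [QuotientGroup.mk'_apply, QuotientGroup.eq_one_iff, mem_zpowers_iff_of_orderOf_two hz']⟩
  generalize QuotientGroup.mk' (zpowers z') = f at hf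
  obtain ⟨P, hP4, hP2, hone⟩ := quot_kleinFour h e hfus rfl hf
  obtain ⟨ζ₁, ζ₂, ζ₃, δ, n1, n2, n3, n12, n13, n23, hmem, hsum, -, hpm, hval, hmod, hrel⟩ :=
    kleinFour_block' hM P hP4 hP2 hone
  have := Fintype.ofFinite (centralizer ({a ^ 2} : Set G) ⧸ zpowers z')
  have m1 := (hmem ζ₁).mpr (by simp)
  have m2 := (hmem ζ₂).mpr (by simp)
  have m3 := (hmem ζ₃).mpr (by simp)
  have hπ0 : ∀ ζ ∈ pb M (centralizer ({a ^ 2} : Set G) ⧸ zpowers z'), ∀ q, ¬ Odd (orderOf q) →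
      piOf ζ (δ ζ) q = 0 := by
    intro ζ hζ q hq
    rw [piOf_apply, hval ζ hζ q (even_iff_two_dvd.mp (Nat.not_odd_iff_even.mp hq)),
      ← Int.cast_mul, hpm ζ hζ]
    simp
  have hA : ∀ ζ, ∃ A : IrrCharacter G → ℤ, ζ ∈ pb M _ →
      ∀ χ : IrrCharacter G, colA (a ^ 2) f (piOf ζ (δ ζ)) χ = A χ := by
    intro ζ
    by_cases hζ : ζ ∈ pb M (centralizer ({a ^ 2} : Set G) ⧸ zpowers z')
    · choose A hA using fun χ => colA_int rfl hf (gen_piOf ζ (δ ζ)) (hπ0 ζ hζ) χ
      exact ⟨A, fun _ => hA⟩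
    · exact ⟨0, fun h => absurd h hζ⟩
  choose A hA using hA
  choose X hX using fun χ : IrrCharacter G => gen_exists_int_of_forall_isConj (gen_of_irr χ.2)
    (g := a) fun k hk => hfus _ _ ha (by rw [hk.symm.orderOf_pow, ha])
  choose Z hZ using fun χ : IrrCharacter G =>
    gen_exists_int_of_sq_eq_one (gen_of_irr χ.2) (sq_of_orderOf_two hz)
  set D : IrrCharacter G → ℤ := fun χ => charDegree (χ : G → ℂ) with hDdef
  have hD : ∀ χ : IrrCharacter G, (χ : G → ℂ) 1 = D χ := fun χ => by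
    rw [← cast_charDegree]; simp [hDdef]
  set y : IrrCharacter (centralizer ({a ^ 2} : Set G) ⧸ zpowers z') → ℤ :=
    fun ζ => δ ζ * charDegree ζ.1 with hy
  have hy1 : ∀ ζ, (y ζ : ℂ) = δ ζ * ζ.1 1 := fun ζ => by
    rw [← cast_charDegree]; simp [hy]
  have pa : IsPPart 2 a a := isPPart_self ⟨2, ha⟩
  have pz : IsPPart 2 (a ^ 2) (a ^ 2) := isPPart_self ⟨1, hz⟩
  have p1 : ∀ {g : G}, Odd (orderOf g) → IsPPart 2 g 1 := fun hg =>
    isPPart_one_of_not_dvd hg.not_two_dvd_nat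
  have c1 : ¬ IsConj (a ^ 2) a := fun hc => by
    have := IsConj.orderOf_eq' hc; omega
  have c2 : ¬ IsConj (a ^ 2) 1 := fun hc => ne_one_of_orderOf_two hz (isConj_one_left.mp hc)
  have c3 : ¬ IsConj a 1 := fun hc => by
    have := IsConj.orderOf_eq' hc; rw [orderOf_one] at this; omega
  have hodd : ∀ g : G, Odd (orderOf (a ^ 2 * (g * a ^ 2 * g⁻¹))) := fun g =>
    h.odd_orderOf_mul hz (orderOf_conj_two hz g)
  have one_val : ∀ {g : G} {n : ℤ}, (irrOne G : G → ℂ) g = n → n = 1 := fun h => by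
    rw [irrOne_apply] at h; exact_mod_cast h.symm
  have Ao : ∀ ζ ∈ pb M _, ζ ≠ irrOne _ → A ζ (irrOne G) = 1 := fun ζ hζ hne => by
    have := hA ζ hζ (irrOne G)
    rw [colA_one hf (hπ0 ζ hζ), one_inner_piOf hne] at this
    exact_mod_cast this.symm
  have AA : ∀ ζ ∈ pb M _, ζ ≠ irrOne _ → ∑ χ ∈ pb M G, A ζ χ * A ζ χ = 4 := fun ζ hζ hne =>
    int_sum_of_complex (hA ζ hζ) (hA ζ hζ) (by
      rw [sum_colA_colA hM hz hf (hπ0 ζ hζ) (sum_inner_piOf hζ _), piOf_inner_self hne (hpm ζ hζ)]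
      norm_num)
  have AB : ∀ ζ ∈ pb M _, ∀ ζ' ∈ pb M _, ζ ≠ irrOne _ → ζ' ≠ irrOne _ → ζ ≠ ζ' →
      ∑ χ ∈ pb M G, A ζ χ * A ζ' χ = 2 := fun ζ hζ ζ' hζ' hne hne' hn =>
    int_sum_of_complex (hA ζ hζ) (hA ζ' hζ') (by
      rw [sum_colA_colA hM hz hf (hπ0 ζ hζ) (sum_inner_piOf hζ _),
        piOf_inner_of_ne hne' hne hn.symm]
      norm_num)
  have AX : ∀ ζ ∈ pb M _, ∑ χ ∈ pb M G, A ζ χ * X χ = 0 := fun ζ hζ =>
    int_sum_of_complex (hA ζ hζ) hX (by rw [sum_colA_of_not_isConj hM hz _ pa c1, Int.cast_zero])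
  have AD : ∀ ζ ∈ pb M _, ∑ χ ∈ pb M G, A ζ χ * D χ = 0 := fun ζ hζ =>
    int_sum_of_complex (hA ζ hζ) hD (by
      rw [sum_colA_of_not_isConj hM hz _ (p1 (by simp)) c2, Int.cast_zero])
  have AZ : ∀ ζ ∈ pb M _, ∑ χ ∈ pb M G, A ζ χ * Z χ = 2 * (1 - y ζ) := fun ζ hζ =>
    int_sum_of_complex (hA ζ hζ) hZ (by
      have := sum_colA_section hM hz hf (hπ0 ζ hζ) (sum_inner_piOf hζ _) (y' := 1) (by simp)
      rw [OneMemClass.coe_one, mul_one, map_one, piOf_apply, ← hy1] at this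
      rw [this]
      simp)
  have AI : ∀ ζ ∈ pb M _, ∑ i ∈ pb M G, (A ζ i : ℚ) * ((Z i : ℚ) ^ 2 / D i) = 0 := fun ζ hζ =>
    rat_sum_of_complex (hA ζ hζ) hZ hD (sum_sq_div_eq_zero _ _ fun g =>
      sum_colA_of_not_isConj hM hz _ (p1 (hodd g)) c2)
  have ym : ∀ ζ ∈ pb M _, 4 ∣ y ζ - 1 := fun ζ hζ => by
    have h1 := (hmod ζ hζ).mul_left (δ ζ)
    rwa [mul_sub, hpm ζ hζ] at h1
  have ysq : ∀ ζ ∈ pb M _, ζ.1 1 * conj (ζ.1 1) = (y ζ : ℂ) ^ 2 := fun ζ hζ => by
    have h1 : (δ ζ : ℂ) * δ ζ = 1 := by exact_mod_cast hpm ζ hζ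
    rw [hy1, irr_conj_apply_one ζ.2]
    linear_combination (-(ζ.1 1) ^ 2) * h1
  obtain ⟨m, hm, hC⟩ := card_centralizer_q8 e ha
  refine ⟨X, Z, D, A ζ₁, A ζ₂, A ζ₃, y ζ₁, y ζ₂, y ζ₃, ⟨one_mem_pb, one_val (hX _), one_val (hZ _),
    one_val (hD _), Ao _ m1 n1, Ao _ m2 n2, Ao _ m3 n3, fun χ _ => ?_, ?_, AA _ m1 n1, AA _ m2 n2,
    AA _ m3 n3, AB _ m1 _ m2 n1 n2 n12, AB _ m1 _ m3 n1 n3 n13, AB _ m2 _ m3 n2 n3 n23, AX _ m1,
    AX _ m2, AX _ m3, AD _ m1, AD _ m2, AD _ m3, ?_, AZ _ m1, AZ _ m2, AZ _ m3, ?_, ?_, ym _ m1,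
    ym _ m2, ym _ m3, fun χ _ => ?_⟩, hZ, hD, ?_, AI _ m1, AI _ m2, AI _ m3⟩
  · simpa [hDdef] using charDegree_pos χ
  · simp only [sq]
    refine int_sum_of_complex hX hX ?_
    rw [(col_four hM ⟨2, ha⟩ hz ((Commute.refl a).pow_left 2) (fun c hc => hc.pow_right 2)
      hm hC).2]
    norm_num
  · exact int_sum_of_complex hX hD (by rw [pb_orth hM pa (p1 (by simp)) c3, Int.cast_zero])
  · refine int_sum_of_complex hZ hZ ?_
    have := sum_section hM hz hf (y := 1) (y' := 1) (by simp) (by simp)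
    rw [OneMemClass.coe_one, mul_one, map_one, hsum, ysq _ m1, ysq _ m2, ysq _ m3,
      irrOne_apply] at this
    rw [this]
    simp
  · have := hrel 1 (by simp)
    rw [← hy1, ← hy1, ← hy1] at this
    exact_mod_cast this
  · have h1 := gen_modEq_apply_one (gen_of_irr χ.2) (x := a) (p := 2) (a := 2) Nat.prime_two
      (by rw [← pow_orderOf_eq_one a, ha]; rfl) (hX χ) (hD χ)
    have h2 := gen_modEq_apply_one (gen_of_irr χ.2) (x := a ^ 2) (p := 2) (a := 1) Nat.prime_two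
      (by rw [pow_one, sq_of_orderOf_two hz]) (hZ χ) (hD χ)
    exact (h2.trans h1.symm).dvd
  · refine rat_sum_of_complex hX hZ hD (sum_sq_div_eq_zero _ _ fun g => ?_)
    exact pb_orth hM pa (p1 (hodd g)) c3

theorem card_pb_q8 (hM : IsPModular 2 M) (e : (S : Subgroup G) ≃* QuaternionGroup 2)
    (hnc : ∀ N : Subgroup G, N.Normal → ¬ IsComplement' N (S : Subgroup G)) :
    (pb M G).card = 7 := by
  obtain ⟨a, x, h⟩ := exists_quatData _ two_pos e
  obtain ⟨X, Z, D, A₁, A₂, A₃, x₁, x₂, x₃, hc, hZ, -⟩ :=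
    exists_cols hM h e fun u v => isConj_of_orderOf_four e hnc
  refine hc.card_eq fun χ hχ h0 => ?_
  have hSH : (S : Subgroup G) ≤ centralizer ({a ^ 2} : Set G) := fun s hs =>
    mem_centralizer_singleton_iff_commute.mpr (h.a_pow_m_comm hs)
  refine apply_ne_zero_of_index hM (mem_pb.mp hχ) (not_two_dvd_index_of_sylow_le S hSH) ?_
  rw [hZ, h0, Int.cast_zero]

theorem exists_proper_normal_q8 (h : QuatData (S : Subgroup G) 2 a x)
    (e : (S : Subgroup G) ≃* QuaternionGroup 2)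
    (hfus : ∀ u v : G, orderOf u = 4 → orderOf v = 4 → IsConj u v) :
    ∃ K : Subgroup G, K.Normal ∧ K ≠ ⊤ ∧ a ^ 2 ∈ K := by
  obtain ⟨M, hM⟩ := exists_isPModular Nat.prime_two
  obtain ⟨X, Z, D, A₁, A₂, A₃, x₁, x₂, x₃, hc, hZ, hD, i0, i1, i2, i3⟩ := exists_cols hM h e hfus
  obtain ⟨χ, -, hne, hχ⟩ := hc.exists_eq i0 i1 i2 i3
  refine ⟨charKer (χ : G → ℂ), charKer_normal (irr_isClassFunction χ.2), fun h5 => ?_, ?_⟩
  · exact hne (Subtype.ext (ZStar.irr_eq_one_of_charKer_eq_top χ.2 h5))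
  · rw [char_mem_charKer_iff (irr_isCharacter χ.2), hZ, hD, hχ]

end Main

theorem not_isComplement_of_ne_top {G : Type*} [Group G] [Finite G] {S : Sylow 2 G}
    (hO : ∀ N : Subgroup G, N.Normal → Odd (Nat.card N) → N = ⊥) (hG : (S : Subgroup G) ≠ ⊤)
    (N : Subgroup G) (hN : N.Normal) : ¬ IsComplement' N (S : Subgroup G) := by
  have : Fact (Nat.Prime 2) := ⟨Nat.prime_two⟩
  intro hc
  have h1 : N = ⊥ := hO N hN (by
    rw [← hc.index_eq_card]
    exact Nat.odd_iff.mpr (Nat.two_dvd_ne_zero.mp S.not_dvd_index))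
  rw [h1] at hc
  exact hG (isComplement'_bot_left.mp hc)

theorem central_q8_aux (n : ℕ) : ∀ (G : Type u) [Group G] [Finite G], Nat.card G ≤ n →
    ∀ (S : Sylow 2 G) (_ : (S : Subgroup G) ≃* QuaternionGroup 2),
      (∀ N : Subgroup G, N.Normal → Odd (Nat.card N) → N = ⊥) →
      ∀ z : G, orderOf z = 2 → z ∈ center G := by
  induction n with
  | zero => intro G _ _ hG; exact absurd hG (by have := Nat.card_pos (α := G); omega)
  | succ n ih =>
    intro G _ _ hG S e hO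
    have : Fact (Nat.Prime 2) := ⟨Nat.prime_two⟩
    obtain ⟨a, x, h⟩ := exists_quatData _ two_pos e
    have hz : orderOf (a ^ 2) = 2 := h.orderOf_a_pow_m
    suffices hs : a ^ 2 ∈ center G by
      intro z hz2
      rwa [h.eq_of_commute hz2 hz (mem_center_iff.mp hs z)]
    by_cases hS : (S : Subgroup G) = ⊤
    · exact mem_center_iff.mpr fun g => h.a_pow_m_comm (hS ▸ mem_top g)
    have hfus : ∀ u v : G, orderOf u = 4 → orderOf v = 4 → IsConj u v := fun u v =>
      isConj_of_orderOf_four e (not_isComplement_of_ne_top hO hS)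
    obtain ⟨K, hKn, hKt, hzK⟩ := exists_proper_normal_q8 h e hfus
    have hOK : (pPrimeCore 2 K).map K.subtype = ⊥ := hO _ inferInstance (by
      rw [card_map_of_injective K.subtype_injective]
      exact Nat.coprime_two_right.mp (pPrimeCore_coprime 2 K))
    have hOK' : pPrimeCore 2 K = ⊥ := (map_eq_bot_iff_of_injective _ K.subtype_injective).mp hOK
    suffices hs : ∀ g : G, Commute (a ^ 2) (g * a ^ 2 * g⁻¹) by
      refine mem_center_iff.mpr fun g => ?_
      have := h.eq_of_commute hz (orderOf_conj_two hz g) (hs g).eq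
      rw [← mul_inv_eq_iff_eq_mul, ← this]
    intro g
    have hgK : g * a ^ 2 * g⁻¹ ∈ K := hKn.conj_mem _ hzK g
    set z' : K := ⟨a ^ 2, hzK⟩ with hz'def
    have hz' : orderOf z' = 2 := by rw [← Subgroup.orderOf_coe]; exact hz
    by_cases h4 : ∃ u ∈ K, orderOf u = 4
    · obtain ⟨u, huK, hu⟩ := h4
      have hSK : (S : Subgroup G) ≤ K := by
        intro s hs
        by_cases h1 : s = 1
        · rw [h1]; exact one_mem _
        by_cases h2 : s * s = 1
        · rw [h.eq_of_orderOf_eq_two hs (orderOf_two_of_mul_self h1 h2)]; exact hzK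
        have h3 : orderOf s = 4 := orderOf_eq_four (orderOf_two_of_mul_self h2 (by
          rw [← mul_assoc]; exact Cfsg.Agent.S0950.pow_four e hs))
        obtain ⟨c, rfl⟩ := isConj_iff.mp (hfus u s hu h3)
        exact hKn.conj_mem _ huK c
      have h1 : Nat.card K ≤ n := by
        have h2 : Nat.card K < Nat.card G := by
          refine lt_of_le_of_ne (card_le_card_group K) fun h3 => hKt ?_
          exact (card_eq_iff_eq_top K).mp h3
        omega
      have h2 := ih K h1 (S.subtype hSK) ((subgroupOfEquivOfLe hSK).trans e)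
        (fun N hN hodd => pPrimeCore_eq_bot_iff.mp hOK' N hN (Nat.coprime_two_right.mpr hodd))
        z' hz'
      exact (congrArg Subtype.val (mem_center_iff.mp h2 ⟨_, hgK⟩)).symm
    · push Not at h4
      obtain ⟨T, hT⟩ := (isPGroup_zpowers_of_orderOf (p := 2) (k := 1) hz').exists_le_sylow
      have hsq : ∀ t ∈ (T : Subgroup K), (t : G) * t = 1 := by
        intro t ht
        by_contra h1
        obtain ⟨k, hk⟩ := (IsPGroup.iff_orderOf.mp T.isPGroup') ⟨t, ht⟩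
        obtain ⟨c, hc⟩ := exists_conj_mem_sylow_of_orderOf S (u := (t : G))
          ⟨k, by rw [← hk, ← Subgroup.orderOf_coe, ← Subgroup.orderOf_coe]⟩
        refine h4 t t.2 (orderOf_eq_four (orderOf_two_of_mul_self h1 ?_))
        have h2 := Cfsg.Agent.S0950.pow_four e hc
        simp only [conj_mul, conj_eq_one_iff] at h2
        rw [← mul_assoc, h2]
      have h1 : (T : Subgroup K) = zpowers z' := by
        refine le_antisymm (fun t ht => ?_) hT
        rw [mem_zpowers_iff_of_orderOf_two hz']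
        by_cases h2 : t = 1
        · exact Or.inl h2
        refine Or.inr (Subtype.ext (h.eq_of_commute
          (orderOf_two_of_mul_self (fun h3 => h2 (Subtype.ext h3)) (hsq t ht)) hz ?_))
        have h3 : ((t : G) * a ^ 2) * (t * a ^ 2) = 1 := hsq _ (mul_mem ht (hT (mem_zpowers _)))
        rw [eq_inv_of_mul_eq_one_left h3, mul_inv_rev, inv_eq_of_orderOf_two hz,
          inv_eq_of_mul_eq_one_left (hsq t ht)]
      have h2 : Nat.card K = 2 * (T : Subgroup K).index := by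
        rw [← card_mul_index (T : Subgroup K), h1, Nat.card_zpowers, hz']
      have h3 := hasNormalPComplement_two_of_card
        (Nat.odd_iff.mpr (Nat.two_dvd_ne_zero.mp T.not_dvd_index)) h2
      have h5 : z' * ⟨_, hgK⟩ ∈ pPrimeCore 2 K := by
        rw [← CL.Transfer.pResidual_eq_pPrimeCore h3]
        apply CL.Transfer.mem_pResidual_of_coprime
        rw [← Subgroup.orderOf_coe]
        exact Nat.coprime_two_right.mpr (h.odd_orderOf_mul hz (orderOf_conj_two hz g))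
      rw [hOK', mem_bot, Subtype.ext_iff] at h5
      have h6 : a ^ 2 * (g * a ^ 2 * g⁻¹) = 1 := h5
      rw [eq_inv_of_mul_eq_one_right h6]
      exact (Commute.refl _).inv_right

/-- Brauer–Suzuki for the quaternion group of order `8`. -/
theorem card_center_q8 {G : Type*} [Group G] [Finite G] (S : Sylow 2 G)
    (e : (S : Subgroup G) ≃* QuaternionGroup 2)
    (hO : ∀ N : Subgroup G, N.Normal → Odd (Nat.card N) → N = ⊥) : Nat.card (center G) = 2 := by
  obtain ⟨a, x, h⟩ := exists_quatData _ two_pos e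
  exact h.card_center_eq_two le_rfl hO (central_q8_aux _ G le_rfl S e hO _ h.orderOf_a_pow_m)

end CL.Q8B
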