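import Cfsg.Agent.Blocks.NormalBasic
import Cfsg.Agent.Blocks.TraceGrp

/-!
# Push-forward of group algebras along a group homomorphism; inflation of characters
-/

set_option linter.unusedSectionVars false

namespace CL.Blocks

open Cfsg CL.Char
open scoped MonoidAlgebra ComplexConjugate

variable {G : Type*} [Group G] {Q : Type*} [Group Q]

section Generic

variable {R : Type*} [CommRing R]

/-- The algebra homomorphism `R G → R Q` induced by a group homomorphism. -/
noncomputable def push (f : G →* Q) : R[G] →ₐ[R] R[Q] := MonoidAlgebra.mapDomainAlgHom R R f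

@[simp] theorem push_single (f : G →* Q) (g : G) (r : R) :
    push f (MonoidAlgebra.single g r) = MonoidAlgebra.single (f g) r := by
  simp [push]

theorem ev_push (f : G →* Q) (χ : Q → R) (a : R[G]) :
    ev χ (push f a) = ev (fun g => χ (f g)) a := by
  induction a using MonoidAlgebra.induction_linear with
  | zero => simp
  | add b c hb hc => rw [map_add, map_add, map_add, hb, hc]
  | single g r => simp

theorem coeff_push [Fintype G] [DecidableEq Q] (f : G →* Q) (a : R[G]) (q : Q) :
    (push f a).coeff q = ∑ g with f g = q, a.coeff g := by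
  conv_lhs => rw [eq_sum_single a, map_sum, coeff_sum_apply]
  simp only [push_single, coeff_single', Finset.sum_filter]

theorem IsCen.push {f : G →* Q} (hf : Function.Surjective f) {a : R[G]} (ha : IsCen a) :
    IsCen (push f a) := by
  intro q h
  obtain ⟨g, rfl⟩ := hf h
  refine (commute_single_iff (f g) _).1 ?_ q
  rw [← push_single]
  exact (ha.commute _).symm.map (CL.Blocks.push f)

/-- If `a` is supported on a set on which `f` is injective, coefficients are preserved. -/
theorem coeff_push_of_injOn [Finite G] (f : G →* Q) {X : Set G} (hX : Set.InjOn f X) {a : R[G]}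
    (ha : ∀ g ∉ X, a.coeff g = 0) {x : G} (hx : x ∈ X) : (push f a).coeff (f x) = a.coeff x := by
  classical
  have := Fintype.ofFinite G
  rw [coeff_push, Finset.sum_eq_single x]
  · intro g hg hgx
    by_contra h
    exact hgx (hX (by_contra fun h1 => h (ha g h1)) hx (Finset.mem_filter.1 hg).2)
  · intro h
    simp at h

theorem coeff_push_of_notMem_image [Finite G] (f : G →* Q) {X : Set G} {a : R[G]}
    (ha : ∀ g ∉ X, a.coeff g = 0) {q : Q} (hq : q ∉ f '' X) : (push f a).coeff q = 0 := by
  classical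
  have := Fintype.ofFinite G
  rw [coeff_push]
  refine Finset.sum_eq_zero fun g hg => ha g fun h => hq ⟨g, h, (Finset.mem_filter.1 hg).2⟩

theorem eq_of_push_eq_of_injOn [Finite G] (f : G →* Q) {X : Set G} (hX : Set.InjOn f X)
    {a b : R[G]} (ha : ∀ g ∉ X, a.coeff g = 0) (hb : ∀ g ∉ X, b.coeff g = 0)
    (h : push f a = push f b) : a = b := by
  refine alg_ext fun g => ?_
  by_cases hg : g ∈ X
  · rw [← coeff_push_of_injOn f hX ha hg, h, coeff_push_of_injOn f hX hb hg]
  · rw [ha g hg, hb g hg]

theorem push_mk_comp [Finite G] [Finite Q] {f : G →* Q} (hf : Function.Surjective f) (c : Q → R) :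
    push f (mk fun g => c (f g)) = (Nat.card f.ker : R) • mk c := by
  classical
  have := Fintype.ofFinite G
  refine alg_ext fun q => ?_
  rw [coeff_push, coeff_smul_apply', coeff_mk, Finset.sum_congr rfl (g := fun _ => c q)
    (fun g hg => by rw [coeff_mk, (Finset.mem_filter.1 hg).2]), Finset.sum_const, nsmul_eq_mul]
  congr 2
  obtain ⟨x, rfl⟩ := hf q
  rw [← Fintype.card_subtype, ← Nat.card_eq_fintype_card]
  exact Nat.card_congr (MonoidHom.fiberEquivKer f x)

end Generic

theorem om_push (f : G →* Q) (χ : Q → ℂ) (a : ℂ[G]) :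
    om χ (push f a) = om (fun g => χ (f g)) a := by
  rw [om, om, ev_push, map_one]

theorem IntCoeff.push {M : Ideal AlgInt} [M.IsMaximal] [Finite G] (f : G →* Q) {a : ℂ[G]}
    (ha : IntCoeff M a) : IntCoeff M (push f a) := by
  classical
  have := Fintype.ofFinite G
  intro q
  rw [coeff_push]
  exact memLocalRing_sum _ fun g _ => ha g

theorem IdealCoeff.push {M : Ideal AlgInt} [M.IsMaximal] [Finite G] (f : G →* Q) {a : ℂ[G]}
    (ha : IdealCoeff M a) : IdealCoeff M (push f a) := by
  classical
  have := Fintype.ofFinite G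
  intro q
  rw [coeff_push]
  exact memLocalIdeal_sum _ fun g _ => ha g

/-- Inflation of an irreducible character along a surjective homomorphism. -/
def inflIrr (f : G →* Q) (hf : Function.Surjective f) (χ : IrrCharacter Q) : IrrCharacter G :=
  ⟨fun g => (χ : Q → ℂ) (f g), irr_comp_surjective χ.2 f hf⟩

theorem inflIrr_apply (f : G →* Q) (hf : Function.Surjective f) (χ : IrrCharacter Q) (g : G) :
    (inflIrr f hf χ : G → ℂ) g = (χ : Q → ℂ) (f g) := rfl

theorem coe_inflIrr (f : G →* Q) (hf : Function.Surjective f) (χ : IrrCharacter Q) :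
    (inflIrr f hf χ : G → ℂ) = fun g => (χ : Q → ℂ) (f g) := rfl

theorem inflIrr_apply_one (f : G →* Q) (hf : Function.Surjective f) (χ : IrrCharacter Q) :
    (inflIrr f hf χ : G → ℂ) 1 = (χ : Q → ℂ) 1 := by rw [inflIrr_apply, map_one]

theorem inflIrr_apply_of_mem_ker (f : G →* Q) (hf : Function.Surjective f) (χ : IrrCharacter Q)
    {n : G} (hn : n ∈ f.ker) : (inflIrr f hf χ : G → ℂ) n = (inflIrr f hf χ : G → ℂ) 1 := by
  rw [inflIrr_apply, inflIrr_apply, map_one, MonoidHom.mem_ker.1 hn]

theorem charDegree_inflIrr (f : G →* Q) (hf : Function.Surjective f) (χ : IrrCharacter Q) :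
    charDegree (inflIrr f hf χ : G → ℂ) = charDegree (χ : Q → ℂ) := by
  rw [charDegree, charDegree, inflIrr_apply_one]

theorem inflIrr_injective (f : G →* Q) (hf : Function.Surjective f) :
    Function.Injective (inflIrr f hf) := by
  intro χ ψ h
  refine Subtype.ext (funext fun q => ?_)
  obtain ⟨g, rfl⟩ := hf q
  exact congrFun (congrArg Subtype.val h) g

theorem om_inflIrr (f : G →* Q) (hf : Function.Surjective f) (χ : IrrCharacter Q) (a : ℂ[G]) :
    om (inflIrr f hf χ : G → ℂ) a = om (χ : Q → ℂ) (push f a) := (om_push f _ a).symm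

theorem ev_inflIrr (f : G →* Q) (hf : Function.Surjective f) (χ : IrrCharacter Q) (a : ℂ[G]) :
    ev (inflIrr f hf χ : G → ℂ) a = ev (χ : Q → ℂ) (push f a) := (ev_push f _ a).symm

variable [Finite G] [Finite Q]

theorem push_idem (f : G →* Q) (hf : Function.Surjective f) (A : Set (IrrCharacter G)) :
    push f (idem A) = idem (inflIrr f hf ⁻¹' A) := by
  refine eq_idem_of_om ((isCen_idem A).push hf) (fun χ h => ?_) fun χ h => ?_
  · rw [← om_inflIrr f hf, om_idem_of_mem (A := A) h]
  · rw [← om_inflIrr f hf, om_idem_of_notMem (A := A) h]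

/-- An irreducible character with `ker f` in its kernel is inflated. -/
theorem exists_inflIrr_eq (f : G →* Q) (hf : Function.Surjective f) (ψ : IrrCharacter G)
    (h : ∀ n ∈ f.ker, (ψ : G → ℂ) n = (ψ : G → ℂ) 1) : ∃ χ, inflIrr f hf χ = ψ := by
  classical
  have := Fintype.ofFinite G
  by_contra hcon
  have h1 : inflIrr f hf ⁻¹' {ψ} = ∅ := by
    ext χ
    exact ⟨fun h2 => hcon ⟨χ, h2⟩, fun h2 => h2.elim⟩
  have h2 := congrArg (fun a : ℂ[Q] => a.coeff 1) (push_idem f hf {ψ})
  simp only [h1, idem_empty, coeff_push] at h2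
  rw [Finset.sum_congr rfl (g := fun _ => (Nat.card G : ℂ)⁻¹ * ((ψ : G → ℂ) 1 * (ψ : G → ℂ) 1)),
    Finset.sum_const, nsmul_eq_mul] at h2
  · refine mul_ne_zero ?_ (mul_ne_zero (inv_ne_zero card_ne_zero)
      (mul_ne_zero (irr_apply_one_ne_zero ψ.2) (irr_apply_one_ne_zero ψ.2))) h2
    rw [Nat.cast_ne_zero, Finset.card_ne_zero]
    exact ⟨1, by simp⟩
  · intro g hg
    rw [coeff_idem, blockCoeff_singleton, h g⁻¹ (inv_mem (Finset.mem_filter.1 hg).2)]

/-- The idempotent `|N|⁻¹ ∑_{n ∈ N} n` of a normal subgroup is the idempotent of the set of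
irreducible characters containing `N` in their kernel. -/
theorem smul_setSum_eq_idem (N : Subgroup G) [hN : N.Normal] :
    (Nat.card N : ℂ)⁻¹ • setSum ℂ (N : Set G) =
      idem {ψ : IrrCharacter G | ∀ n ∈ N, (ψ : G → ℂ) n = (ψ : G → ℂ) 1} := by
  classical
  have := Fintype.ofFinite G
  have hA : ∀ g : G, ∀ θ ∈ ({irrOne N} : Set (IrrCharacter N)), cIrr g θ ∈
      ({irrOne N} : Set (IrrCharacter N)) := by
    rintro g θ rfl
    rfl
  have h1 : (Nat.card N : ℂ)⁻¹ • setSum ℂ (N : Set G) = incl N (idem {irrOne N}) := by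
    refine alg_ext fun g => ?_
    rw [coeff_smul_apply']
    by_cases hg : g ∈ N
    · rw [coeff_incl_of_mem N _ hg, coeff_setSum_of_mem hg, coeff_idem, blockCoeff_singleton]
      simp [irrOne_apply]
    · rw [coeff_incl_of_notMem N _ hg, coeff_setSum_of_notMem hg, mul_zero]
  rw [h1, incl_idem_eq_idem_over hA]
  congr 1
  ext ψ
  simp only [Set.mem_singleton_iff, exists_eq_left, Set.mem_ofPred_eq]
  constructor
  · intro h
    have h2 : ∀ θ : IrrCharacter N, θ ≠ irrOne N →
        classInner (fun n : N => (ψ : G → ℂ) n) θ = 0 := by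
      intro θ hθ
      by_contra h3
      obtain ⟨g, hg⟩ := exists_eq_cIrr_of_inner ψ h h3
      exact hθ hg
    have h3 : ∀ n : N, (ψ : G → ℂ) n = classInner (fun n : N => (ψ : G → ℂ) n) (irrOne N) := by
      intro n
      rw [classFun_apply_eq_sum (classFun_restrict (irr_isClassFunction ψ.2) N) n,
        Finset.sum_eq_single (irrOne N) (fun θ _ hθ => by rw [h2 θ hθ, zero_mul]) (by simp),
        irrOne_apply, mul_one]
    intro n hn
    exact (h3 ⟨n, hn⟩).trans (h3 1).symm
  · intro h
    have : (fun n : N => (ψ : G → ℂ) n) = (ψ : G → ℂ) 1 • (irrOne N : N → ℂ) := by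
      funext n
      simp [h n n.2, irrOne_apply]
    rw [this, classInner_smul_left, irr_inner_self (irrOne N).2, mul_one]
    exact irr_apply_one_ne_zero ψ.2

end CL.Blocks
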