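import Cfsg.Agent.Base
import Cfsg.Agent.Char.BrauerElem
import Cfsg.Agent.Char.BrauerChar

/-!
# `p ^ a` times the indicator function of the `p`-regular elements is a generalized character
-/

set_option autoImplicit false

namespace CL.Blocks

open Cfsg CL.Char CL.Brauer

variable {G : Type*} [Group G] [Finite G] {p : ℕ}

theorem gen_pRegular_indicator_of_nilpotent (hp : p.Prime) [Group.IsNilpotent G] {a : ℕ}
    (ha : (Nat.card G).factorization p ≤ a) :
    IsGeneralizedCharacter G (fun x : G => if p ∣ orderOf x then 0 else ((p ^ a : ℕ) : ℂ)) := by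
  have h0 : Nat.card G ≠ 0 := Nat.card_pos.ne'
  set n := Nat.card G / p ^ (Nat.card G).factorization p with hn
  have hpn : ¬ p ∣ n := Nat.not_dvd_ordCompl hp h0
  have hcop : Nat.Coprime (p ^ (a + 1)) n :=
    Nat.Coprime.pow_left _ ((Nat.Prime.coprime_iff_not_dvd hp).2 hpn)
  have hcop' : Nat.Coprime (p ^ a) n :=
    Nat.Coprime.pow_left _ ((Nat.Prime.coprime_iff_not_dvd hp).2 hpn)
  obtain ⟨u, v, huv⟩ := Nat.isCoprime_iff_coprime.2 hcop
  have huv' : (u * p) * ((p ^ a : ℕ) : ℤ) + v * n = 1 := by
    rw [← huv]; push_cast; ring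
  have hG : Nat.card G ∣ p ^ a * n := by
    conv_lhs => rw [← Nat.ordProj_mul_ordCompl_eq_self (Nat.card G) p]
    exact Nat.mul_dvd_mul_right (pow_dvd_pow p ha) _
  let f := partHom huv' hG
  obtain ⟨c, hc⟩ : Nat.card f.range ∣ p ^ a := card_range_partHom_dvd huv' hG
  have h1 := gen_of_char (char_natCast_smul c (char_comp (char_regChar (G := f.range))
    f.rangeRestrict))
  convert h1 using 2 with x
  have key : f.rangeRestrict x = 1 ↔ ¬ p ∣ orderOf x := by
    rw [Subtype.ext_iff]
    change x ^ (v * n) = 1 ↔ _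
    rw [← orderOf_dvd_iff_zpow_eq_one]
    constructor
    · intro h hpx
      have h2 : (p : ℤ) ∣ v * n := (Int.natCast_dvd_natCast.2 hpx).trans h
      have h3 : (p : ℤ) ∣ (u * p) * ((p ^ a : ℕ) : ℤ) + v * n :=
        dvd_add ((dvd_mul_left _ _).mul_right _) h2
      rw [huv'] at h3
      exact hp.one_lt.ne' (Nat.dvd_one.1 (Int.natCast_dvd_natCast.1 h3))
    · intro h
      have h2 : orderOf x ∣ n :=
        (Nat.Coprime.pow_right a ((Nat.Prime.coprime_iff_not_dvd hp).2 h).symm).dvd_of_dvd_mul_left
          ((orderOf_dvd_natCard x).trans hG)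
      exact (Int.natCast_dvd_natCast.2 h2).mul_left v
  simp only [Pi.smul_apply, smul_eq_mul]
  split_ifs with h
  · rw [regChar_of_ne (fun h' => key.1 h' h), mul_zero]
  · rw [key.2 h, regChar_one, hc]
    push_cast
    ring

/-- `|G|_p` times the indicator of the `p`-regular elements is a generalized character. -/
theorem gen_pRegular_indicator (hp : p.Prime) : IsGeneralizedCharacter G (fun x : G =>
    if p ∣ orderOf x then 0 else ((p ^ (Nat.card G).factorization p : ℕ) : ℂ)) := by
  refine gen_of_elementary (fun g h => ?_) fun E q hq hE => ?_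
  · have : orderOf (h * g * h⁻¹) = orderOf g := (MulAut.conj h).orderOf_eq g
    simp only [this]
  · have := elementary_isNilpotent hq hE
    simp only [Subgroup.orderOf_coe]
    refine gen_pRegular_indicator_of_nilpotent hp ?_
    exact (Nat.factorization_le_iff_dvd Nat.card_pos.ne' Nat.card_pos.ne').2
      (Subgroup.card_subgroup_dvd_card E) p

/-- `|G|_p * θ` on the `p`-regular elements, `0` elsewhere, is a generalized character. -/
theorem gen_pRegular_truncation (hp : p.Prime) {θ : G → ℂ} (hθ : IsGeneralizedCharacter G θ) :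
    IsGeneralizedCharacter G (fun x : G =>
      if p ∣ orderOf x then 0 else ((p ^ (Nat.card G).factorization p : ℕ) : ℂ) * θ x) := by
  convert gen_mul (gen_pRegular_indicator hp) hθ using 2 with x
  simp only [Pi.mul_apply, ite_mul, zero_mul]

end CL.Blocks
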