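import Cfsg.Agent.Base
import Cfsg.Agent.Blocks.TraceVanish

/-!
# The twisting lemma for monomial matrices
-/

set_option autoImplicit false

namespace CL.Blocks

open Cfsg

variable {p : ℕ} {M : Ideal AlgInt}

/-- Twisting lemma, monomial form: `E` is an idempotent matrix over the local ring, `T` is a monomial
matrix (any complex entries) with underlying permutation `σ`, all of whose cycles carrying a nonzero
entry have length divisible by `p`, and `E` commutes with `T`.  Then `E * T` has trace zero. -/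
theorem trace_twist_monomial (hM : IsPModular p M) {X : Type*} [Fintype X] [DecidableEq X]
    (E T : Matrix X X ℂ) (hE : ∀ i j, MemLocalRing M (E i j)) (hEE : E * E = E) (σ : Equiv.Perm X)
    (hT : ∀ i j, T i j ≠ 0 → i = σ j ∧ ∀ n : ℤ, (σ ^ n) j = j → (p : ℤ) ∣ n)
    (hcomm : E * T = T * E) : (E * T).trace = 0 := by
  have := hM.2.1
  obtain ⟨ζ, d, hζ1, -, hd1, hd⟩ := exists_twist_root hM σ
  refine trace_eq_zero_of_twist (Matrix.traceLinearMap X ℂ ℂ) (fun a b => Matrix.trace_mul_comm a b)
    E T (Matrix.diagonal d) ζ hζ1 hEE hcomm ?_ ?_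
  · ext i j
    simp only [Matrix.diagonal_mul, Matrix.mul_diagonal, Matrix.smul_apply, smul_eq_mul]
    by_cases h : T i j = 0
    · rw [h]; simp
    · obtain ⟨h1, h2⟩ := hT i j h
      rw [h1, hd j h2]; ring
  · apply isUnit_matrix_of_memLocalIdeal (M := M)
    intro i j
    have : E * Matrix.diagonal d * E + (1 - E) - 1 = E * Matrix.diagonal (fun x => d x - 1) * E := by
      have : Matrix.diagonal (fun x => d x - 1) = Matrix.diagonal d - 1 := by
        rw [← Matrix.diagonal_one, Matrix.diagonal_sub]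
      rw [this, mul_sub, sub_mul, mul_one, hEE]
      abel
    rw [← Matrix.sub_apply, this, Matrix.mul_apply]
    refine memLocalIdeal_sum _ fun k _ => memLocalIdeal_mul_right ?_ (hE _ _)
    rw [Matrix.mul_diagonal]
    exact memLocalIdeal_mul_left (hE _ _) (hd1 k)

/-- Twisting lemma for a vector space with a basis whose lines are permuted by `T`. -/
theorem trace_twist_basis (hM : IsPModular p M) {X V : Type*} [Finite X] [AddCommGroup V]
    [Module ℂ V] (b : Module.Basis X ℂ V) (E T : Module.End ℂ V)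
    (hE : ∀ i j, MemLocalRing M (b.repr (E (b j)) i)) (hEE : E * E = E) (σ : Equiv.Perm X)
    (t : X → ℂ) (hT : ∀ j, T (b j) = t j • b (σ j))
    (hσ : ∀ j, ∀ n : ℤ, (σ ^ n) j = j → (p : ℤ) ∣ n) (hcomm : E * T = T * E) :
    LinearMap.trace ℂ V (E * T) = 0 := by
  classical
  have := Fintype.ofFinite X
  rw [LinearMap.trace_eq_matrix_trace ℂ b, LinearMap.toMatrix_mul]
  refine trace_twist_monomial hM _ _ (fun i j => ?_) ?_ σ (fun i j h => ⟨?_, hσ j⟩) ?_
  · rw [LinearMap.toMatrix_apply]; exact hE i j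
  · rw [← LinearMap.toMatrix_mul, hEE]
  · rw [LinearMap.toMatrix_apply, hT, map_smul, Finsupp.smul_apply, Module.Basis.repr_self,
      Finsupp.single_apply] at h
    by_contra hne
    rw [if_neg (Ne.symm hne), smul_zero] at h
    exact h rfl
  · rw [← LinearMap.toMatrix_mul, ← LinearMap.toMatrix_mul, hcomm]

/-- Two idempotents which are conjugate through a unit of the form `1 + m` have the same trace:
if `φ x`, `φ y` become idempotent after multiplication by an idempotent `π` commuting with them and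
`x - y` has coefficients in the local ideal, then `τ (φ x * π) = τ (φ y * π)`. -/
theorem trace_eq_of_congr_idem [M.IsMaximal] {G : Type*} [Group G] [Finite G] {A : Type*} [Ring A]
    [Algebra ℂ A] (φ : MonoidAlgebra ℂ G →ₐ[ℂ] A) (τ : A →ₗ[ℂ] ℂ) (hτ : ∀ a b, τ (a * b) = τ (b * a))
    (x y : MonoidAlgebra ℂ G) (π : A) (hx : IntCoeff M x) (hxy : IdealCoeff M (y - x))
    (hππ : π * π = π) (hπx : π * φ x = φ x * π) (hπy : π * φ y = φ y * π)
    (hxx : φ x * φ x * π = φ x * π) (hyy : φ y * φ y * π = φ y * π) :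
    τ (φ x * π) = τ (φ y * π) := by
  have hu : IsUnit (1 + (x + x - 1) * (y - x)) :=
    IdealCoeff.isUnit_one_add (M := M) (hxy.mul_left ((hx.add hx).sub IntCoeff.one))
  obtain ⟨u, hu⟩ := hu.map φ
  rw [map_add, map_one, map_mul, map_sub, map_sub, map_add, map_one] at hu
  set X := φ x
  set Y := φ y
  have h1 : X * π * X = X * π := by rw [mul_assoc, hπx, ← mul_assoc, hxx]
  have h2 : X * π * (u : A) = X * Y * π := by
    have : X * π * (X + X - 1) = X * π := by rw [mul_sub, mul_add, h1, mul_one]; abel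
    rw [hu, mul_add, mul_one, ← mul_assoc, this, mul_sub, h1, mul_assoc X π Y, hπy, ← mul_assoc]
    abel
  have h3 : (u : A) * (Y * π) = X * Y * π := by
    have e1 : (Y - X) * (Y * π) = Y * π - X * Y * π := by
      rw [sub_mul, ← mul_assoc, hyy, mul_assoc X Y π]
    have e2 : X * (X * Y * π) = X * Y * π := by
      have : X * Y * π = X * π * Y * π := by
        rw [mul_assoc X π Y, hπy, mul_assoc X (Y * π) π, mul_assoc Y π π, hππ, mul_assoc]
      rw [this, ← mul_assoc, ← mul_assoc, ← mul_assoc, hxx]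
    rw [hu, add_mul, one_mul, mul_assoc (X + X - 1), e1, mul_sub, sub_mul, sub_mul, add_mul, add_mul,
      e2, one_mul, one_mul, ← mul_assoc X Y π]
    abel
  calc τ (X * π) = τ (X * π * u * (↑u⁻¹ : A)) := by rw [mul_assoc _ (u : A), Units.mul_inv, mul_one]
    _ = τ ((↑u⁻¹ : A) * ((u : A) * (Y * π))) := by rw [hτ, h2, h3]
    _ = τ (Y * π) := by rw [← mul_assoc, Units.inv_mul, one_mul]

end CL.Blocks
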