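import Cfsg.Agent.Base
import Cfsg.Agent.Blocks.ZStarAux
import Cfsg.Agent.Blocks.Center
import Cfsg.Agent.Blocks.TraceOrth
import Cfsg.Agent.S0942
import Cfsg.Agent.S0943
import Cfsg.Agent.S0225

/-!
# Glauberman's Z*-theorem
-/

set_option autoImplicit false

open Cfsg Subgroup

namespace CL.ZStar

open CL.Invol CL.Blocks CL.Char

universe u

theorem isPPart_two_of_orderOf {G : Type*} [Group G] {u : G} (hu : orderOf u = 2) :
    IsPPart 2 u u :=
  ⟨1, mul_one u, Commute.one_right u, ⟨1, by rw [hu, pow_one]⟩, by simp⟩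

/-- The block-theoretic step: if `u` is central modulo the odd core in every involution
centralizer containing it and some other involution commutes with `u`, then `u` lies in a
proper normal subgroup. -/
theorem exists_proper_normal {G : Type*} [Group G] [Finite G] {u v : G} (h : OddIso u)
    (hu1 : u ≠ 1) (hv : orderOf v = 2) (hvu : v ≠ u) (hc : Commute u v)
    (hloc : ∀ w : G, orderOf w = 2 → Commute w u → ∀ y : G, Commute w y →
      u * (y * u * y⁻¹) ∈ centralizerPPrimeCore 2 w) :
    ∃ K : Subgroup G, K.Normal ∧ K ≠ ⊤ ∧ u ∈ K := by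
  classical
  obtain ⟨M, hM⟩ := exists_isPModular Nat.prime_two
  have hMmax : M.IsMaximal := hM.2.1
  have hu : orderOf u = 2 := orderOf_two_of_mul_self hu1 h.1
  have key : ∀ v : G, orderOf v = 2 → v ≠ u → Commute u v →
      ∀ χ ∈ principalBlock M G, (χ : G → ℂ) u * (χ : G → ℂ) v =
        (χ : G → ℂ) 1 * (χ : G → ℂ) (u * v) := by
    intro v hv hvu hc χ hχ
    have hcl := irr_isClassFunction χ.2
    have h1 : ∀ y, IsConj v y → (χ : G → ℂ) (u * y) = (χ : G → ℂ) (u * v) := by
      intro y hy
      obtain ⟨w, l, hw2, hwu, hwy, hw, hl⟩ := exists_two_part h hv hvu hc hy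
      rw [hl, Cfsg.Agent.S0942.result 2 M hM w ⟨1, by rw [hw2, pow_one]⟩ _
        (inv_mem (pow_mem (hloc w hw2 hwu y hwy) l)) χ hχ]
      exact (classFun_eq_of_isConj hcl hw).symm
    apply Cfsg.Agent.S0943.result χ u v
    intro x y hx hy
    obtain ⟨a, rfl⟩ := isConj_iff.mp hx
    have h2 : a * u * a⁻¹ * y = a * (u * (a⁻¹ * y * a⁻¹⁻¹)) * a⁻¹ := by group
    rw [h2, hcl]
    exact h1 _ (hy.trans (isConj_iff.mpr ⟨a⁻¹, rfl⟩))
  by_contra hcon
  push Not at hcon
  have hv2 := mul_self_of_orderOf_two hv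
  have huv : orderOf (u * v) = 2 := by
    apply orderOf_two_of_mul_self
    · intro h1
      apply hvu
      calc v = u * (u * v) := by rw [← mul_assoc, h.1, one_mul]
        _ = u := by rw [h1, mul_one]
    · calc u * v * (u * v) = u * (v * u) * v := by group
        _ = (u * u) * (v * v) := by rw [← hc.eq]; group
        _ = 1 := by rw [h.1, hv2, one_mul]
  have huv' : u * v ≠ u := fun h1 => ne_one_of_orderOf_two hv (mul_eq_left.mp h1)
  have hterm : ∀ χ ∈ principalBlock M G, χ ≠ irrOne G →
      (χ : G → ℂ) 1 * (χ : G → ℂ) v⁻¹ + (χ : G → ℂ) u * (χ : G → ℂ) v⁻¹ = 0 := by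
    intro χ hχ hne
    rw [inv_eq_of_orderOf_two hv]
    have h1 := key v hv hvu hc χ hχ
    have h2 := key (u * v) huv huv' ((Commute.refl u).mul_right hc) χ hχ
    rw [← mul_assoc u u v, h.1, one_mul] at h2
    have h3 : (χ : G → ℂ) u ≠ (χ : G → ℂ) 1 := by
      intro h4
      refine hcon (charKer (χ : G → ℂ)) (charKer_normal (irr_isClassFunction χ.2)) ?_
        ((char_mem_charKer_iff (irr_isCharacter χ.2)).mpr h4)
      intro h5
      exact hne (Subtype.ext (irr_eq_one_of_charKer_eq_top χ.2 h5))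
    apply mul_left_cancel₀ (sub_ne_zero.mpr h3)
    linear_combination (χ : G → ℂ) u * h1 + (χ : G → ℂ) 1 * h2
  have hB := memLocalRing_blockCoeff (M := M) (isPBlock_principalBlock (G := G))
  have hv1 : ¬ IsConj (1 : G) v := fun h1 =>
    ne_one_of_orderOf_two hv (isConj_one_right.mp h1)
  have hvu' : ¬ IsConj u v := fun h1 => hvu (h.eq_of_commute h1 hc)
  have s1 := sum_mul_inv_eq_zero_of_pPart hM hB (isPPart_one_of_not_dvd (g := (1 : G)) (by simp))
    (isPPart_two_of_orderOf hv) hv1
  have s2 := sum_mul_inv_eq_zero_of_pPart hM hB (isPPart_two_of_orderOf hu)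
    (isPPart_two_of_orderOf hv) hvu'
  rw [finsum_mem_irr_eq_sum] at s1 s2
  have s3 : ∑ χ : IrrCharacter G, ((if χ ∈ principalBlock M G then
      (χ : G → ℂ) 1 * (χ : G → ℂ) v⁻¹ else 0) + (if χ ∈ principalBlock M G then
      (χ : G → ℂ) u * (χ : G → ℂ) v⁻¹ else 0)) = 0 := by
    rw [Finset.sum_add_distrib, s1, s2, add_zero]
  rw [Finset.sum_eq_single (irrOne G)] at s3
  · rw [if_pos irrOne_mem_principalBlock, if_pos irrOne_mem_principalBlock] at s3
    simp only [irrOne_apply] at s3
    norm_num at s3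
  · intro χ _ hne
    split_ifs with hχ
    · exact hterm χ hχ hne
    · simp
  · simp

theorem zstar_aux (n : ℕ) : ∀ (G : Type u) [Group G] [Finite G], Nat.card G ≤ n →
    ∀ u : G, OddIso u → ∀ g : G, u * (g * u * g⁻¹) ∈ pPrimeCore 2 G := by
  induction n with
  | zero => intro G _ _ hG; exact absurd hG (by have := Nat.card_pos (α := G); omega)
  | succ n ih =>
    intro G _ _ hG u h g
    have hquot : ∀ (N : Subgroup G) [N.Normal], N ≠ ⊥ →
        (QuotientGroup.mk (u * (g * u * g⁻¹)) : G ⧸ N) ∈ pPrimeCore 2 (G ⧸ N) := by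
      intro N _ hN
      have h1 : Nat.card (G ⧸ N) ≤ n := by
        have h2 := card_eq_card_quotient_mul_card_subgroup N
        have h3 : 1 < Nat.card N := (one_lt_card_iff_ne_bot N).mpr hN
        have h4 : 0 < Nat.card (G ⧸ N) := Nat.card_pos
        nlinarith
      exact ih (G ⧸ N) h1 _ (h.map (QuotientGroup.mk' N) (QuotientGroup.mk'_surjective N)) g
    have hsub : ∀ (H : Subgroup G), H ≠ ⊤ → u ∈ H → ∀ y ∈ H,
        u * (y * u * y⁻¹) ∈ (pPrimeCore 2 H).map H.subtype := by
      intro H hH hu y hy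
      have h1 : Nat.card H ≤ n := by
        have h2 : Nat.card H < Nat.card G := by
          refine lt_of_le_of_ne (card_le_card_group H) fun h3 => hH ?_
          exact (card_eq_iff_eq_top H).mp h3
        omega
      exact ⟨_, ih H h1 _ (h.subgroup H hu) ⟨y, hy⟩, rfl⟩
    by_cases hO : pPrimeCore 2 G = ⊥
    swap
    · have h1 := hquot _ hO
      rw [pPrimeCore_quotient_pPrimeCore, mem_bot, QuotientGroup.eq_one_iff] at h1
      exact h1
    by_cases hZ : ∃ w : G, orderOf w = 2 ∧ w ∈ center G
    · obtain ⟨w, hw, hwZ⟩ := hZ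
      have : (zpowers w).Normal := normal_of_le_center (zpowers_le.mpr hwZ)
      refine mem_pPrimeCore_of_quotient_central hw (h.2 g) (hquot _ ?_)
      rw [Ne, zpowers_eq_bot]
      exact ne_one_of_orderOf_two hw
    push Not at hZ
    by_cases hu1 : u = 1
    · rw [hu1]; simp
    have hu : orderOf u = 2 := orderOf_two_of_mul_self hu1 h.1
    have hE : ∃ E : Subgroup G, IsKleinFour E := by
      by_contra hE
      push Not at hE
      obtain ⟨z, hz, N, hN, hNodd, hzN⟩ := Cfsg.Agent.S0225.result (G := G)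
        (even_iff_two_dvd.mpr (hu ▸ orderOf_dvd_natCard u)) hE
      have h1 : N ≤ pPrimeCore 2 G := le_pPrimeCore (Nat.coprime_two_right.mpr hNodd)
      apply hZ z hz
      rw [mem_center_iff]
      intro x
      have h2 := h1 (hzN x)
      rw [hO, mem_bot] at h2
      calc x * z = (z * x * z⁻¹ * x⁻¹) * (x * z) := by rw [h2, one_mul]
        _ = z * x := by group
    obtain ⟨E, hE⟩ := hE
    obtain ⟨v, hv, hvu, hc⟩ := exists_commuting_involution h hu1 E hE
    obtain ⟨K, hK, hKtop, huK⟩ := exists_proper_normal h hu1 hv hvu hc (by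
      intro w hw hwu y hwy
      apply hsub (centralizer {w})
      · intro h1
        apply hZ w hw
        rw [mem_center_iff]
        intro x
        have h2 : x ∈ centralizer {w} := by rw [h1]; exact mem_top x
        exact (mem_centralizer_singleton_iff.mp h2)
      · exact mem_centralizer_singleton_iff.mpr hwu.symm.eq
      · exact mem_centralizer_singleton_iff.mpr hwy.symm.eq)
    have h1 := map_subtype_pPrimeCore_le K (hsub K hKtop huK _ (hK.conj_mem u huK g))
    rw [hO, mem_bot] at h1
    set y := g * u * g⁻¹ with hy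
    have h2 : Commute u y := by
      change u * y = y * u
      have h3 : y * u * y⁻¹ = u := by
        calc y * u * y⁻¹ = (u * u) * (y * u * y⁻¹) := by rw [h.1, one_mul]
          _ = u := by rw [mul_assoc, h1, mul_one]
      calc u * y = (y * u * y⁻¹) * y := by rw [h3]
        _ = y * u := by group
    have h4 : y = u := h.eq_of_commute (isConj_iff.mpr ⟨g, rfl⟩) h2
    rw [h4, h.1]
    exact one_mem _

/-- Z*-theorem, for `u` with all products `u * u ^ g` of odd order. -/
theorem zstar_of_oddIso {G : Type*} [Group G] [Finite G] {u : G} (h : OddIso u) (g : G) :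
    u * g * u⁻¹ * g⁻¹ ∈ pPrimeCore 2 G := by
  have h1 := zstar_aux _ G le_rfl u h g
  rwa [inv_eq_of_mul_eq_one_right h.1, mul_assoc, mul_assoc, ← mul_assoc g]

/-- Z*-theorem, for isolated involutions. -/
theorem zstar_of_isolated {G : Type*} [Group G] [Finite G] {z : G}
    (hz : IsIsolatedInvolution z) (g : G) : z * g * z⁻¹ * g⁻¹ ∈ pPrimeCore 2 G :=
  zstar_of_oddIso (oddIso_of_isolated (mul_self_of_orderOf_two hz.1) hz.2) g

end CL.ZStar
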